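/-
Monomial matrices and subgroups of `SL_n` containing all monomial matrices of determinant one.
-/
import Cfsg.Agent.Lib.MaxSub.FormMaximalSL

set_option autoImplicit false
set_option maxHeartbeats 400000

namespace CfsgLib.MaxSub.Monomial

open Matrix CfsgLib.SLCentre CfsgLib.PSLn

variable {F : Type*} [Field F] {n : ℕ}

local notation "V" => Fin n → F
local notation "SL" => Matrix.SpecialLinearGroup (Fin n) F
local notation "Mn" => Matrix (Fin n) (Fin n) F

/-- Every column has at most one non-zero entry. -/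
def Mono (A : Matrix (Fin n) (Fin n) F) : Prop := ∀ j, ∃ i, ∀ k, k ≠ i → A k j = 0

/-- The matrix sending `e j` to `d j • e (σ j)`. -/
def monM (σ : Equiv.Perm (Fin n)) (d : Fin n → F) : Matrix (Fin n) (Fin n) F :=
  Matrix.of fun i j => if i = σ j then d j else 0

theorem monM_apply (σ : Equiv.Perm (Fin n)) (d : V) (i j : Fin n) :
    monM σ d i j = if i = σ j then d j else 0 := rfl

theorem mono_monM (σ : Equiv.Perm (Fin n)) (d : V) : Mono (monM σ d) :=
  fun j => ⟨σ j, fun k hk => by rw [monM_apply, if_neg hk]⟩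

theorem monM_eq (σ : Equiv.Perm (Fin n)) (d : V) :
    monM σ d = Equiv.Perm.permMatrix F σ⁻¹ * Matrix.diagonal d := by
  ext i j
  rw [Matrix.mul_diagonal, monM_apply]
  simp [Equiv.Perm.permMatrix, PEquiv.toMatrix_apply, Equiv.Perm.inv_def, Equiv.symm_apply_eq]

theorem det_monM (σ : Equiv.Perm (Fin n)) (d : V) :
    (monM σ d).det = ((Equiv.Perm.sign σ : ℤ) : F) * ∏ i, d i := by
  rw [monM_eq, Matrix.det_mul, Matrix.det_diagonal, Matrix.det_permutation, Equiv.Perm.sign_inv]

theorem monM_mulVec (σ : Equiv.Perm (Fin n)) (d x : V) (i : Fin n) :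
    (monM σ d *ᵥ x) i = d (σ.symm i) * x (σ.symm i) := by
  simp only [Matrix.mulVec, dotProduct, monM_apply]
  rw [Finset.sum_eq_single (σ.symm i)]
  · rw [if_pos (σ.apply_symm_apply i).symm]
  · intro j _ hj
    rw [if_neg, zero_mul]
    intro h
    exact hj (by rw [h, σ.symm_apply_apply])
  · exact fun h => absurd (Finset.mem_univ _) h

theorem monM_vecMul (σ : Equiv.Perm (Fin n)) (d x : V) (j : Fin n) :
    (x ᵥ* monM σ d) j = x (σ j) * d j := by
  simp only [Matrix.vecMul, dotProduct, monM_apply]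
  rw [Finset.sum_eq_single (σ j)]
  · rw [if_pos rfl]
  · intro i _ hi
    rw [if_neg hi, mul_zero]
  · exact fun h => absurd (Finset.mem_univ _) h

theorem monM_mul (σ τ : Equiv.Perm (Fin n)) (d e : V) :
    monM σ d * monM τ e = monM (σ * τ) (fun j => d (τ j) * e j) := by
  ext i j
  rw [Matrix.mul_apply, monM_apply]
  simp only [monM_apply, Equiv.Perm.mul_apply]
  rw [Finset.sum_eq_single (τ j)]
  · by_cases h : i = σ (τ j)
    · simp [h]
    · simp [h]
  · intro k _ hk; simp [hk]
  · exact fun h => absurd (Finset.mem_univ _) h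

theorem monM_one (d : V) : monM 1 d = Matrix.diagonal d := by
  ext i j
  rw [monM_apply, Matrix.diagonal_apply, Equiv.Perm.one_apply]
  split_ifs with h
  · rw [h]
  · rfl

theorem exists_monM {A : Mn} (hA : Mono A) (hd : A.det ≠ 0) :
    ∃ σ d, (∀ i, d i ≠ 0) ∧ A = monM σ d := by
  choose f hf using hA
  have hne : ∀ j, A (f j) j ≠ 0 := fun j h => hd (Matrix.det_eq_zero_of_column_eq_zero j fun i => by
    by_cases hi : i = f j
    · rw [hi]; exact h
    · exact hf j i hi)
  have hinj : Function.Injective f := by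
    intro a b hab
    by_contra hne'
    refine hd ?_
    have hv : A *ᵥ (A (f b) b • Pi.single a 1 - A (f a) a • Pi.single b 1) = 0 := by
      funext i
      simp only [Matrix.mulVec_sub, Matrix.mulVec_smul, Matrix.mulVec_single_one, Pi.sub_apply,
        Pi.smul_apply, Matrix.col_apply, smul_eq_mul, Pi.zero_apply]
      by_cases hi : i = f a
      · subst hi; rw [hab]; ring
      · rw [hf a i hi, hf b i (hab ▸ hi), mul_zero, mul_zero, sub_zero]
    refine Matrix.exists_mulVec_eq_zero_iff.1 ⟨_, fun h => hne b ?_, hv⟩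
    simpa [hne'] using congrFun h a
  refine ⟨Equiv.ofBijective f (Finite.injective_iff_bijective.1 hinj), fun j => A (f j) j, hne, ?_⟩
  ext i j
  rw [monM_apply]
  show A i j = if i = f j then A (f j) j else 0
  split_ifs with h
  · rw [h]
  · exact hf j i h

theorem Mono.mul {A B : Mn} (hA : Mono A) (hB : Mono B) : Mono (A * B) := fun j => by
  obtain ⟨l, hl⟩ := hB j
  obtain ⟨i, hi⟩ := hA l
  refine ⟨i, fun k hk => ?_⟩
  rw [Matrix.mul_apply, Finset.sum_eq_single l (fun m _ hm => by rw [hl m hm, mul_zero])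
    (fun h => absurd (Finset.mem_univ l) h), hi k hk, zero_mul]

theorem mono_inverse {A B : Mn} (h : Mono A) (hAB : A * B = 1) : Mono B := by
  have hd : A.det ≠ 0 := fun e => by
    have := congrArg Matrix.det hAB
    rw [Matrix.det_mul, e, zero_mul, Matrix.det_one] at this
    exact zero_ne_one this
  obtain ⟨σ, d, hd0, rfl⟩ := exists_monM h hd
  have e : monM σ⁻¹ (fun i => (d (σ⁻¹ i))⁻¹) * monM σ d = 1 := by
    rw [monM_mul, inv_mul_cancel, monM_one, ← Matrix.diagonal_one]
    congr 1
    funext j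
    simp [hd0 j]
  rw [← left_inv_eq_right_inv e hAB]
  exact mono_monM _ _

/-! ### Elements of a subgroup -/

/-- The matrix is that of a member. -/
def In (K : Subgroup (Matrix.SpecialLinearGroup (Fin n) F)) (A : Matrix (Fin n) (Fin n) F) : Prop :=
  ∃ g ∈ K, g.1 = A

/-- The group contains the monomial matrices of determinant one. -/
def HasMono (K : Subgroup (Matrix.SpecialLinearGroup (Fin n) F)) : Prop :=
  ∀ g : Matrix.SpecialLinearGroup (Fin n) F, Mono g.1 → g ∈ K

variable {K : Subgroup (Matrix.SpecialLinearGroup (Fin n) F)}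

theorem In.mul {A B : Mn} (hA : In K A) (hB : In K B) : In K (A * B) := by
  obtain ⟨a, ha, rfl⟩ := hA
  obtain ⟨b, hb, rfl⟩ := hB
  exact ⟨a * b, mul_mem ha hb, Matrix.SpecialLinearGroup.coe_mul a b⟩

theorem In.inv {A B : Mn} (hA : In K A) (h : A * B = 1) : In K B := by
  obtain ⟨a, ha, rfl⟩ := hA
  refine ⟨a⁻¹, inv_mem ha, left_inv_eq_right_inv ?_ h⟩
  rw [← Matrix.SpecialLinearGroup.coe_mul, inv_mul_cancel, Matrix.SpecialLinearGroup.coe_one]

theorem In.det {A : Mn} (hA : In K A) : A.det = 1 := by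
  obtain ⟨a, -, rfl⟩ := hA
  exact a.2

theorem In.inverse {A : Mn} (hA : In K A) : ∃ B, In K B ∧ A * B = 1 ∧ B * A = 1 := by
  obtain ⟨a, ha, rfl⟩ := hA
  refine ⟨(a⁻¹).1, ⟨_, inv_mem ha, rfl⟩, ?_, ?_⟩
  · rw [← Matrix.SpecialLinearGroup.coe_mul, mul_inv_cancel, Matrix.SpecialLinearGroup.coe_one]
  · rw [← Matrix.SpecialLinearGroup.coe_mul, inv_mul_cancel, Matrix.SpecialLinearGroup.coe_one]

theorem In.monM (hN : HasMono K) (σ : Equiv.Perm (Fin n)) (d : V)
    (h : ((Equiv.Perm.sign σ : ℤ) : F) * ∏ i, d i = 1) : In K (monM σ d) :=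
  ⟨⟨Monomial.monM σ d, by rw [det_monM, h]⟩, hN _ (mono_monM σ d), rfl⟩

theorem In.diagonal (hN : HasMono K) (d : V) (h : ∏ i, d i = 1) : In K (Matrix.diagonal d) := by
  rw [← monM_one]
  exact In.monM hN 1 d (by simpa using h)

/-- Conjugation by a diagonal element. -/
theorem In.torus (hN : HasMono K) {A : Mn} (hA : In K A) (d : V) (h : ∏ i, d i = 1) :
    In K (Matrix.of fun i j => d i * A i j * (d j)⁻¹) := by
  have hd : ∀ i, d i ≠ 0 := fun i e => zero_ne_one
    ((Finset.prod_eq_zero (Finset.mem_univ i) e).symm.trans h)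
  have h' : ∏ i, (d i)⁻¹ = 1 := by rw [Finset.prod_inv_distrib, h, inv_one]
  convert ((In.diagonal hN d h).mul hA).mul (In.diagonal hN _ h') using 1
  ext i j
  rw [Matrix.of_apply, Matrix.mul_diagonal, Matrix.diagonal_mul]

/-- `μ` at `a`, `μ⁻¹` at `b`. -/
def tor (a b : Fin n) (μ : F) : Fin n → F := fun i => if i = a then μ else if i = b then μ⁻¹ else 1

theorem tor_fst (a b : Fin n) (μ : F) : tor a b μ a = μ := if_pos rfl

theorem tor_snd {a b : Fin n} (h : a ≠ b) (μ : F) : tor a b μ b = μ⁻¹ := by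
  rw [tor, if_neg h.symm, if_pos rfl]

theorem tor_other {a b i : Fin n} (h : i ≠ a) (h' : i ≠ b) (μ : F) : tor a b μ i = 1 := by
  rw [tor, if_neg h, if_neg h']

theorem prod_tor {a b : Fin n} (h : a ≠ b) {μ : F} (hμ : μ ≠ 0) : ∏ i, tor a b μ i = 1 := by
  rw [Fintype.prod_eq_mul a b h fun i hi => tor_other hi.1 hi.2 μ, tor_fst, tor_snd h,
    mul_inv_cancel₀ hμ]

theorem exists_avoid [Fintype F] (hq : 5 ≤ Fintype.card F) (s : Finset F) (hs : s.card ≤ 4) :
    ∃ μ, μ ∉ s := by
  by_contra h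
  push Not at h
  have : Fintype.card F ≤ s.card := Finset.card_le_card (s := Finset.univ) fun x _ => h x
  omega

theorem exists_fresh (s : Finset (Fin n)) (hs : s.card < n) : ∃ z, z ∉ s := by
  by_contra h
  push Not at h
  have : Finset.card (Finset.univ : Finset (Fin n)) ≤ s.card := Finset.card_le_card fun x _ => h x
  rw [Finset.card_univ, Fintype.card_fin] at this
  omega

/-! ### One root element gives everything -/

/-- A root element. -/
def Root (K : Subgroup (Matrix.SpecialLinearGroup (Fin n) F)) (a b : Fin n) (ν : F) : Prop :=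
  In K (1 + Matrix.single a b ν)

theorem hasTv_of_root {a b : Fin n} (hab : a ≠ b) {ν : F} (h : Root K a b ν) :
    HasTv K (Pi.single a 1) (Pi.single b ν) := by
  obtain ⟨g, hg, hge⟩ := h
  have e : (Pi.single b ν : V) ⬝ᵥ Pi.single a 1 = 0 := by
    rw [dotProduct_single, mul_one, Pi.single_eq_of_ne hab]
  refine ⟨e, ?_⟩
  have : tv (Pi.single a 1) (Pi.single b ν) e = g := Subtype.ext (by
    rw [coe_tv, hge]
    congr 1
    ext i j
    simp only [vecMulVec_apply, Matrix.single_apply, Pi.single_apply, ite_and, @eq_comm _ a, @eq_comm _ b]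
    split_ifs <;> simp)
  rw [this]; exact hg

theorem Root.scale (hN : HasMono K) (hn : 3 ≤ n) {a b : Fin n} (hab : a ≠ b) {ν : F}
    (h : Root K a b ν) {μ : F} (hμ : μ ≠ 0) : Root K a b (μ * ν) := by
  obtain ⟨z, hz⟩ := exists_fresh {a, b} (lt_of_le_of_lt Finset.card_le_two (by omega))
  simp only [Finset.mem_insert, Finset.mem_singleton, not_or] at hz
  have h1 := In.torus hN h (tor a z μ) (prod_tor (Ne.symm hz.1) hμ)
  show In K _
  convert h1 using 1
  ext i j
  rw [Matrix.of_apply, Matrix.add_apply, Matrix.add_apply, Matrix.one_apply, Matrix.single_apply]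
  by_cases hij : i = j
  · subst hij
    have : ¬ (a = i ∧ b = i) := fun h => hab (h.1.trans h.2.symm)
    have hd : tor a z μ i ≠ 0 := by
      unfold tor
      split_ifs <;> simp [hμ]
    simp [this, hd]
  · by_cases hc : a = i ∧ b = j
    · obtain ⟨rfl, rfl⟩ := hc
      simp [hij, tor_fst, tor_other (Ne.symm hab) (Ne.symm hz.2)]
    · simp [hij, hc]

theorem Root.swap (hN : HasMono K) {a b : Fin n} {ν : F} (h : Root K a b ν) {c d : Fin n}
    (hcd : c ≠ d) : ∃ s : F, s ≠ 0 ∧ Root K (Equiv.swap c d a) (Equiv.swap c d b) (s * ν) := by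
  set σ := Equiv.swap c d
  let e : V := fun i => if i = c then -1 else 1
  have he : ∀ i, e i ≠ 0 := fun i => by simp only [e]; split_ifs <;> simp
  have hp : ((Equiv.Perm.sign σ : ℤ) : F) * ∏ i, e i = 1 := by
    rw [Equiv.Perm.sign_swap hcd, Fintype.prod_eq_single c (fun i hi => if_neg hi)]
    simp [e]
  have hm := In.monM hN σ e hp
  obtain ⟨mi, hmi, hm1, -⟩ := hm.inverse
  have key : Monomial.monM σ e * (1 + Matrix.single a b ν) =
      (1 + Matrix.single (σ a) (σ b) (e a * (e b)⁻¹ * ν)) * Monomial.monM σ e := by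
    rw [Matrix.mul_add, Matrix.add_mul, Matrix.mul_one, Matrix.one_mul]
    congr 1
    ext i j
    rw [Matrix.mul_apply, Matrix.mul_apply]
    simp only [monM_apply, Matrix.single_apply, ite_and, mul_ite, mul_zero, ite_mul, zero_mul,
      Finset.sum_ite_eq, Finset.mem_univ, if_true]
    rw [Finset.sum_eq_single (σ j) (fun k _ hk => by simp [hk])
      (fun h => absurd (Finset.mem_univ _) h)]
    simp only [σ.injective.eq_iff, if_true]
    by_cases hb : b = j
    · subst hb
      by_cases hi : i = σ a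
      · subst hi; simp only [if_true]; field_simp [he b]
      · simp [hi, Ne.symm hi]
    · simp [hb]
  refine ⟨e a * (e b)⁻¹, mul_ne_zero (he a) (inv_ne_zero (he b)), ?_⟩
  have h2 := (hm.mul h).mul hmi
  rwa [key, mul_assoc, hm1, mul_one] at h2

/-- A root element generates `SL_n` with the monomial matrices. -/
theorem top_of_root (hN : HasMono K) (hn : 3 ≤ n) {a b : Fin n} (hab : a ≠ b) {ν : F} (hν : ν ≠ 0)
    (h : Root K a b ν) : K = ⊤ := by
  have all : ∀ c d : Fin n, c ≠ d → ∀ μ : F, Root K c d μ := by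
    intro c d hcd μ
    by_cases hμ : μ = 0
    · subst hμ
      show In K _
      rw [Matrix.single_zero, add_zero, ← Matrix.diagonal_one]
      exact In.diagonal hN _ (by simp)
    obtain ⟨b', ν', hb', hν', h'⟩ : ∃ b' ν', c ≠ b' ∧ ν' ≠ 0 ∧ Root K c b' ν' := by
      by_cases hac : a = c
      · exact ⟨b, ν, hac ▸ hab, hν, hac ▸ h⟩
      obtain ⟨s, hs, h'⟩ := h.swap hN hac
      rw [Equiv.swap_apply_left] at h'
      refine ⟨_, _, fun e => hab ?_, mul_ne_zero hs hν, h'⟩
      apply (Equiv.swap a c).injective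
      rw [Equiv.swap_apply_left, ← e]
    obtain ⟨ν'', hν'', h''⟩ : ∃ ν'', ν'' ≠ 0 ∧ Root K c d ν'' := by
      by_cases hbd : b' = d
      · exact ⟨ν', hν', hbd ▸ h'⟩
      obtain ⟨s, hs, h''⟩ := h'.swap hN hbd
      rw [Equiv.swap_apply_left, Equiv.swap_apply_of_ne_of_ne hb' hcd] at h''
      exact ⟨_, mul_ne_zero hs hν', h''⟩
    have := h''.scale hN hn hcd (mul_ne_zero hμ (inv_ne_zero hν''))
    rwa [mul_assoc, inv_mul_cancel₀ hν'', mul_one] at this
  refine eq_top_of_full (by omega) (eq_top_iff.2 fun v _ => ?_)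
  have key : ∀ i, Full K (Pi.single i 1 : V) := by
    intro i φ hφ
    rw [dotProduct_single, mul_one] at hφ
    rw [← Finset.univ_sum_single φ]
    refine Finset.sum_induction _ (fun ψ => HasTv K (Pi.single i 1) ψ) (fun _ _ => HasTv.add)
      (HasTv.zero _) fun j _ => ?_
    by_cases hj : j = i
    · rw [hj, hφ, Pi.single_zero]; exact HasTv.zero _
    · exact hasTv_of_root (Ne.symm hj) (all i j (Ne.symm hj) _)
  rw [pi_eq_sum_univ v]
  refine Submodule.sum_mem _ fun i _ => Submodule.smul_mem _ _ ?_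
  rw [show (fun j => if i = j then (1 : F) else 0) = (Pi.single i 1 : V) from
    funext fun j => by simp [Pi.single_apply, eq_comm]]
  exact key i

end CfsgLib.MaxSub.Monomial
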