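/-
Separating root elements from unipotent elements by the diagonal.
-/
import Cfsg.Agent.Lib.MaxSub.Monomial.Basic

set_option autoImplicit false
set_option maxHeartbeats 400000

namespace CfsgLib.MaxSub.Monomial

open Matrix

variable {F : Type*} [Field F] {n : ℕ} {K : Subgroup (Matrix.SpecialLinearGroup (Fin n) F)}

local notation "V" => Fin n → F
local notation "Mn" => Matrix (Fin n) (Fin n) F

/-- Non-zero entries only in rows of `R` and columns outside `R`. -/
def Shaped (R : Fin n → Prop) (A : Matrix (Fin n) (Fin n) F) : Prop :=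
  ∀ i j, A i j ≠ 0 → R i ∧ ¬ R j

theorem Shaped.mul {R : Fin n → Prop} {A B : Mn} (hA : Shaped R A) (hB : Shaped R B) :
    A * B = 0 := by
  ext i j
  rw [Matrix.mul_apply, Matrix.zero_apply]
  refine Finset.sum_eq_zero fun k _ => ?_
  by_contra h
  exact (hA i k (left_ne_zero_of_mul h)).2 (hB k j (right_ne_zero_of_mul h)).1

theorem Shaped.scale {R : Fin n → Prop} {A : Mn} (hA : Shaped R A) (f : Fin n → Fin n → F) :
    Shaped R (Matrix.of fun i j => f i j * A i j) :=
  fun i j h => hA i j (right_ne_zero_of_mul (by simpa using h))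

theorem Shaped.diag {R : Fin n → Prop} {A : Mn} (hA : Shaped R A) (i : Fin n) : A i i = 0 := by
  by_contra h
  exact (hA i i h).2 (hA i i h).1

/-- The difference of a conjugate by the diagonal. -/
def dop (d : Fin n → F) (A : Matrix (Fin n) (Fin n) F) : Matrix (Fin n) (Fin n) F :=
  Matrix.of fun i j => (d i * (d j)⁻¹ - 1) * A i j

theorem Shaped.dop {R : Fin n → Prop} {A : Mn} (hA : Shaped R A) (d : V) : Shaped R (dop d A) :=
  hA.scale fun i j => d i * (d j)⁻¹ - 1

theorem conj_eq (d : V) (hd : ∀ i, d i ≠ 0) (A : Mn) :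
    (Matrix.of fun i j => d i * (1 + A) i j * (d j)⁻¹) =
      1 + Matrix.of fun i j => d i * A i j * (d j)⁻¹ := by
  ext i j
  simp only [Matrix.of_apply, Matrix.add_apply, Matrix.one_apply]
  by_cases h : i = j
  · subst h; field_simp [hd i]
  · simp [h]

theorem sep_step (hN : HasMono K) {R : Fin n → Prop} {A : Mn} (hA : Shaped R A) (h : In K (1 + A))
    {d : V} (hd : ∏ i, d i = 1) : In K (1 + dop d A) := by
  have hd0 : ∀ i, d i ≠ 0 := fun i e => zero_ne_one
    ((Finset.prod_eq_zero (Finset.mem_univ i) e).symm.trans hd)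
  have h1 : In K (1 - A) := h.inv (by
    simp only [add_mul, mul_sub, one_mul, mul_one, hA.mul hA]; abel)
  have h2 := (In.torus hN h d hd).mul h1
  rw [conj_eq d hd0] at h2
  have e : (1 + Matrix.of fun i j => d i * A i j * (d j)⁻¹) * (1 - A) = 1 + dop d A := by
    have h3 := (hA.scale fun i j => d i * (d j)⁻¹).mul hA
    rw [show (Matrix.of fun i j => d i * A i j * (d j)⁻¹) =
      Matrix.of fun i j => d i * (d j)⁻¹ * A i j from by ext i j; simp [mul_right_comm]]
    simp only [add_mul, mul_sub, one_mul, mul_one, h3]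
    rw [show dop d A = (Matrix.of fun i j => d i * (d j)⁻¹ * A i j) - A from by
        ext i j; simp [dop, sub_mul]]
    abel
  rwa [e] at h2

theorem dop_tor_apply (a z : Fin n) (μ : F) (A : Mn) (i j : Fin n) :
    dop (tor a z μ) A i j = (tor a z μ i * (tor a z μ j)⁻¹ - 1) * A i j := rfl

theorem dop_tor_eq_zero {a z : Fin n} (μ : F) (A : Mn) {i j : Fin n} (hi : i ≠ a) (hi' : i ≠ z)
    (hj : j ≠ a) (hj' : j ≠ z) : dop (tor a z μ) A i j = 0 := by
  rw [dop_tor_apply, tor_other hi hi', tor_other hj hj', inv_one, mul_one, sub_self, zero_mul]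

/-- Four differences isolate one entry. -/
theorem exists_ops (hn : 5 ≤ n) {μ : F} (hμ : μ ≠ 0) (hμ1 : μ ≠ 1) {R : Fin n → Prop}
    {A : Mn} (hA : Shaped R A) {a b : Fin n} (hab : A a b ≠ 0) :
    ∃ z₁ z₂ z₃ z₄ : Fin n, (a ≠ z₁ ∧ a ≠ z₂ ∧ b ≠ z₃ ∧ b ≠ z₄) ∧ ∃ ν, ν ≠ 0 ∧
      dop (tor b z₄ μ) (dop (tor b z₃ μ) (dop (tor a z₂ μ) (dop (tor a z₁ μ) A))) =
        Matrix.single a b ν := by
  have hne : a ≠ b := fun e => hab (e ▸ hA.diag a)
  obtain ⟨z₁, h1⟩ := exists_fresh {a, b} (lt_of_le_of_lt Finset.card_le_two (by omega))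
  obtain ⟨z₂, h2⟩ := exists_fresh {a, b, z₁} (lt_of_le_of_lt Finset.card_le_three (by omega))
  obtain ⟨z₃, h3⟩ := exists_fresh {a, b, z₁, z₂} (lt_of_le_of_lt Finset.card_le_four (by omega))
  simp only [Finset.mem_insert, Finset.mem_singleton, not_or] at h1 h2 h3
  obtain ⟨h1a, h1b⟩ := h1
  obtain ⟨h2a, h2b, h21⟩ := h2
  obtain ⟨h3a, h3b, h31, h32⟩ := h3
  -- the fourth place repeats the first
  obtain ⟨z₄, h41⟩ : ∃ z₄, z₄ = z₁ := ⟨z₁, rfl⟩
  have h4a : z₄ ≠ a := h41 ▸ h1a
  have h4b : z₄ ≠ b := h41 ▸ h1b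
  refine ⟨z₁, z₂, z₃, z₄, ⟨Ne.symm h1a, Ne.symm h2a, Ne.symm h3b, Ne.symm h4b⟩,
    (μ⁻¹ - 1) * ((μ⁻¹ - 1) * ((μ - 1) * ((μ - 1) * A a b))),
    mul_ne_zero (sub_ne_zero.2 (by rwa [Ne, inv_eq_one])) (mul_ne_zero
      (sub_ne_zero.2 (by rwa [Ne, inv_eq_one]))
      (mul_ne_zero (sub_ne_zero.2 hμ1) (mul_ne_zero (sub_ne_zero.2 hμ1) hab))), ?_⟩
  ext i j
  rw [Matrix.single_apply]
  split_ifs with hc
  · obtain ⟨rfl, rfl⟩ := hc
    simp only [dop_tor_apply, tor_fst, tor_other (Ne.symm hne) (Ne.symm h1b),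
      tor_other (Ne.symm hne) (Ne.symm h2b), tor_other hne (Ne.symm h3a),
      tor_other hne (Ne.symm h4a), inv_one, mul_one, one_mul]
  · by_cases h0 : A i j = 0
    · simp only [dop_tor_apply, h0, mul_zero]
    obtain ⟨hRi, hRj⟩ := hA i j h0
    obtain ⟨hRa, hRb⟩ := hA a b hab
    -- the pair meets the four two-element sets
    by_contra hne0
    have hb4 : i = b ∨ i = z₄ ∨ j = b ∨ j = z₄ := by
      by_contra h; push Not at h
      exact hne0 (dop_tor_eq_zero μ _ h.1 h.2.1 h.2.2.1 h.2.2.2)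
    rw [dop_tor_apply] at hne0
    have hne1 := right_ne_zero_of_mul hne0
    have hb3 : i = b ∨ i = z₃ ∨ j = b ∨ j = z₃ := by
      by_contra h; push Not at h
      exact hne1 (dop_tor_eq_zero μ _ h.1 h.2.1 h.2.2.1 h.2.2.2)
    rw [dop_tor_apply] at hne1
    have hne2 := right_ne_zero_of_mul hne1
    have ha2 : i = a ∨ i = z₂ ∨ j = a ∨ j = z₂ := by
      by_contra h; push Not at h
      exact hne2 (dop_tor_eq_zero μ _ h.1 h.2.1 h.2.2.1 h.2.2.2)
    rw [dop_tor_apply] at hne2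
    have hne3 := right_ne_zero_of_mul hne2
    have ha1 : i = a ∨ i = z₁ ∨ j = a ∨ j = z₁ := by
      by_contra h; push Not at h
      exact hne3 (dop_tor_eq_zero μ _ h.1 h.2.1 h.2.2.1 h.2.2.2)
    have hij : i ≠ j := fun e => hRj (e ▸ hRi)
    by_cases hia : i = a
    · subst hia
      grind
    by_cases hja : j = a
    · subst hja; exact hRj hRa
    grind

/-- A shaped element gives everything. -/
theorem top_of_shaped [Fintype F] (hq : 5 ≤ Fintype.card F) (hN : HasMono K) (hn : 5 ≤ n)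
    {R : Fin n → Prop} {A : Mn} (hA : Shaped R A) (hA0 : A ≠ 0) (h : In K (1 + A)) : K = ⊤ := by
  classical
  obtain ⟨μ, hμ⟩ := exists_avoid hq {0, 1} (Finset.card_le_two.trans (by omega))
  simp only [Finset.mem_insert, Finset.mem_singleton, not_or] at hμ
  obtain ⟨a, b, hab⟩ : ∃ a b, A a b ≠ 0 := by
    by_contra hc; push Not at hc; exact hA0 (Matrix.ext hc)
  obtain ⟨z₁, z₂, z₃, z₄, ⟨e1, e2, e3, e4⟩, ν, hν, e⟩ := exists_ops hn hμ.1 hμ.2 hA hab
  have s1 := sep_step hN hA h (prod_tor e1 hμ.1)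
  have s2 := sep_step hN (hA.dop _) s1 (prod_tor e2 hμ.1)
  have s3 := sep_step hN ((hA.dop _).dop _) s2 (prod_tor e3 hμ.1)
  have s4 := sep_step hN (((hA.dop _).dop _).dop _) s3 (prod_tor e4 hμ.1)
  rw [e] at s4
  exact top_of_root hN (by omega) (fun e' => hab (by rw [← e']; exact hA.diag a)) hν s4

/-- The row `p` part. -/
def rowP (p : Fin n) (α : Fin n → F) : Matrix (Fin n) (Fin n) F := Matrix.vecMulVec (Pi.single p 1) α

theorem rowP_apply (p : Fin n) (α : V) (i j : Fin n) :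
    rowP p α i j = if i = p then α j else 0 := by
  simp [rowP, Matrix.vecMulVec_apply, Pi.single_apply]

theorem mul_rowP {p : Fin n} {A : Mn} (hcol : ∀ i, A i p = 0) (α : V) : A * rowP p α = 0 := by
  rw [rowP, Matrix.mul_vecMulVec, Matrix.mulVec_single_one,
    show A.col p = 0 from funext hcol, zero_vecMulVec]

theorem rowP_mul_rowP {p : Fin n} {α : V} (hα : α p = 0) (β : V) : rowP p α * rowP p β = 0 := by
  rw [rowP, rowP, Matrix.vecMulVec_mul_vecMulVec, dotProduct_single, hα, zero_mul, zero_smul,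
    vecMulVec_zero]

theorem rowP_mul (p : Fin n) (α : V) (A : Mn) : rowP p α * A = rowP p (α ᵥ* A) :=
  Matrix.vecMulVec_mul _ _ _

theorem rowP_sub (p : Fin n) (α β : V) : rowP p (α - β) = rowP p α - rowP p β :=
  Matrix.vecMulVec_sub _ _ _

theorem rowP_add (p : Fin n) (α β : V) : rowP p (α + β) = rowP p α + rowP p β :=
  Matrix.vecMulVec_add _ _ _

theorem shaped_rowP {p : Fin n} {α : V} (hα : α p = 0) : Shaped (fun i => i = p) (rowP p α) := by
  intro i j h
  rw [rowP_apply] at h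
  split_ifs at h with hi
  · exact ⟨hi, fun e => h (e ▸ hα)⟩
  · exact absurd rfl h

variable {R : Fin n → Prop} {p : Fin n} {A A' : Matrix (Fin n) (Fin n) F}

theorem mixed_inv (hA : Shaped R A) (hcol : ∀ i, A i p = 0) {α : V} (hα : α p = 0) :
    (1 + A + rowP p α) * (1 - A - rowP p α + rowP p α * A) = 1 := by
  have h1 : A * A = 0 := hA.mul hA
  have h2 := mul_rowP hcol α
  have h3 : rowP p α * rowP p α = 0 := rowP_mul_rowP hα α
  simp only [add_mul, mul_sub, mul_add, one_mul, mul_one, h1, h2, h3, ← mul_assoc, zero_mul]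
  abel

theorem vecMul_col_zero (hcol : ∀ i, A i p = 0) (α : V) : (α ᵥ* A) p = 0 := by
  simp [Matrix.vecMul, dotProduct, hcol]

/-- An element with the same shaped part as another differs from it in the row `p`. -/
theorem mixed_diff [Fintype F] (hq : 5 ≤ Fintype.card F) (hN : HasMono K) (hn : 5 ≤ n)
    (hA : Shaped R A) (hcol : ∀ i, A i p = 0) {α β : V} (hα : α p = 0) (hβ : β p = 0)
    (h : In K (1 + A + rowP p α)) (h' : In K (1 + A + rowP p β)) (hne : α ≠ β) : K = ⊤ := by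
  have hi := h.inv (mixed_inv hA hcol hα)
  have h2 := h'.mul hi
  set γ : V := β - α with hγdef
  have hγ : γ p = 0 := by simp [hγdef, hα, hβ]
  have e : (1 + A + rowP p β) * (1 - A - rowP p α + rowP p α * A) =
      1 + rowP p (γ - γ ᵥ* A) := by
    rw [show (1 : Mn) + A + rowP p β = (1 + A + rowP p α) + rowP p γ from by
      rw [hγdef, rowP_sub]; abel, add_mul _ (rowP p γ), mixed_inv hA hcol hα]
    congr 1
    rw [mul_add, mul_sub, mul_sub, mul_one, rowP_mul_rowP hγ, ← mul_assoc, rowP_mul_rowP hγ,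
      zero_mul, rowP_mul, ← rowP_sub]
    abel
  rw [e] at h2
  refine top_of_shaped hq hN hn (shaped_rowP ?_) (fun h0 => hne (sub_eq_zero.1 ?_).symm) h2
  · rw [Pi.sub_apply, hγ, vecMul_col_zero hcol, sub_zero]
  · have hz : γ - γ ᵥ* A = 0 := funext fun j => by
      have := congrFun (congrFun h0 p) j
      rwa [rowP_apply, if_pos rfl] at this
    show γ = 0
    have h3 : γ ᵥ* (A * A) = γ := by
      rw [← Matrix.vecMul_vecMul, ← sub_eq_zero.1 hz, ← sub_eq_zero.1 hz]
    rw [hA.mul hA, Matrix.vecMul_zero] at h3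
    exact h3.symm

theorem conj_mixed (d : V) (hd : ∀ i, d i ≠ 0) (A : Mn) (p : Fin n) (α : V) :
    (Matrix.of fun i j => d i * (1 + A + rowP p α) i j * (d j)⁻¹) =
      1 + (Matrix.of fun i j => d i * (d j)⁻¹ * A i j) +
        rowP p (fun j => d p * α j * (d j)⁻¹) := by
  ext i j
  simp only [Matrix.of_apply, Matrix.add_apply, Matrix.one_apply, rowP_apply]
  by_cases h : i = j <;> by_cases hi : i = p
  · subst h hi; field_simp [hd i]
  · subst h; simp only [if_neg hi, if_pos rfl]; field_simp [hd i]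
  · subst hi; simp only [if_neg h, if_true]; ring
  · simp only [if_neg h, if_neg hi]; ring

theorem mixed_step (hN : HasMono K) (hA : Shaped R A) (hcol : ∀ i, A i p = 0) {α : V}
    (hα : α p = 0) (h : In K (1 + A + rowP p α)) {d : V} (hd : ∏ i, d i = 1) :
    ∃ β : V, β p = 0 ∧ In K (1 + dop d A + rowP p β) := by
  have hd0 : ∀ i, d i ≠ 0 := fun i e => zero_ne_one
    ((Finset.prod_eq_zero (Finset.mem_univ i) e).symm.trans hd)
  have h2 := (In.torus hN h d hd).mul (h.inv (mixed_inv hA hcol hα))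
  rw [conj_mixed d hd0] at h2
  set A' : Mn := Matrix.of fun i j => d i * (d j)⁻¹ * A i j with hA'def
  set α' : V := fun j => d p * α j * (d j)⁻¹
  have hA' : Shaped R A' := hA.scale _
  have hA'c : ∀ i, A' i p = 0 := fun i => by simp [hA'def, hcol]
  have hα' : α' p = 0 := by simp [α', hα]
  refine ⟨α' - α - α' ᵥ* A + α ᵥ* A, by simp [hα, hα', vecMul_col_zero hcol], ?_⟩
  convert h2 using 1
  rw [show dop d A = A' - A from by ext i j; simp [dop, hA'def, sub_mul],
    rowP_add, rowP_sub, rowP_sub, ← rowP_mul, ← rowP_mul]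
  simp only [add_mul, mul_sub, mul_add, one_mul, mul_one, hA'.mul hA, mul_rowP hA'c,
    rowP_mul_rowP hα', ← mul_assoc, zero_mul]
  abel

/-- A shaped element up to the row `p` gives everything. -/
theorem top_of_mixed [Fintype F] (hq : 5 ≤ Fintype.card F) (hN : HasMono K) (hn : 5 ≤ n)
    (hA : Shaped R A) (hrow : ∀ j, A p j = 0) (hcol : ∀ i, A i p = 0) (hA0 : A ≠ 0) {α : V}
    (hα : α p = 0) (h : In K (1 + A + rowP p α)) : K = ⊤ := by
  classical
  by_contra hK
  obtain ⟨a, b, hab⟩ : ∃ a b, A a b ≠ 0 := by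
    by_contra hc; push Not at hc; exact hA0 (Matrix.ext hc)
  obtain ⟨μ, hμ⟩ := exists_avoid hq {0, 1, -1} (Finset.card_le_three.trans (by omega))
  simp only [Finset.mem_insert, Finset.mem_singleton, not_or] at hμ
  obtain ⟨z₁, z₂, z₃, z₄, ⟨e1, e2, e3, e4⟩, ν, hν, e⟩ := exists_ops hn hμ.1 hμ.2.1 hA hab
  have hc : ∀ {A : Mn}, (∀ i, A i p = 0) → ∀ d, ∀ i, dop d A i p = 0 := fun h d i => by
    simp [dop, h]
  obtain ⟨α₁, p1, s1⟩ := mixed_step hN hA hcol hα h (prod_tor e1 hμ.1)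
  obtain ⟨α₂, p2, s2⟩ := mixed_step hN (hA.dop _) (hc hcol _) p1 s1 (prod_tor e2 hμ.1)
  obtain ⟨α₃, p3, s3⟩ :=
    mixed_step hN ((hA.dop _).dop _) (hc (hc hcol _) _) p2 s2 (prod_tor e3 hμ.1)
  obtain ⟨α₄, p4, s4⟩ :=
    mixed_step hN (((hA.dop _).dop _).dop _) (hc (hc (hc hcol _) _) _) p3 s3
      (prod_tor e4 hμ.1)
  rw [e] at s4
  have hne : a ≠ b := fun e => hab (e ▸ hA.diag a)
  have hap : a ≠ p := fun e => hab (e ▸ hrow b)
  have hbp : b ≠ p := fun e => hab (e ▸ hcol a)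
  set S : Mn := Matrix.single a b ν with hS
  have hSs : Shaped (fun i => i = a) S := fun i j h0 => by
    rw [hS, Matrix.single_apply] at h0
    split_ifs at h0 with hc
    · exact ⟨hc.1.symm, fun e => hne (by rw [hc.2, e])⟩
    · exact absurd rfl h0
  have hSc : ∀ i, S i p = 0 := fun i => by simp [hS, Matrix.single_apply, hbp]
  obtain ⟨z, hz⟩ := exists_fresh {a, b, p} (lt_of_le_of_lt Finset.card_le_three (by omega))
  simp only [Finset.mem_insert, Finset.mem_singleton, not_or] at hz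
  obtain ⟨hza, hzb, hzp⟩ := hz
  have hd : ∀ i, tor p z μ i ≠ 0 := fun i => by
    unfold tor; split_ifs <;> simp [hμ.1]
  have h5 := In.torus hN s4 (tor p z μ) (prod_tor (Ne.symm hzp) hμ.1)
  rw [conj_mixed _ hd] at h5
  have eS : (Matrix.of fun i j => tor p z μ i * (tor p z μ j)⁻¹ * S i j) = S := by
    ext i j
    rw [Matrix.of_apply, hS, Matrix.single_apply]
    split_ifs with hc
    · rw [← hc.1, ← hc.2, tor_other hap (Ne.symm hza), tor_other hbp (Ne.symm hzb)]; simp
    · simp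
  rw [eS] at h5
  have hα5 : (fun j => tor p z μ p * α₄ j * (tor p z μ j)⁻¹) p = 0 := by simp [p4]
  have heq : α₄ = fun j => tor p z μ p * α₄ j * (tor p z μ j)⁻¹ := by
    by_contra hne'
    exact hK (mixed_diff hq hN hn hSs hSc p4 hα5 s4 h5 hne')
  have hzero : α₄ = 0 := funext fun j => by
    have := congrFun heq j
    rw [tor_fst] at this
    by_cases hjp : j = p
    · rw [hjp]; exact p4
    by_cases hjz : j = z
    · subst hjz
      rw [tor_snd (Ne.symm hzp), inv_inv] at this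
      have h' : (μ - 1) * (μ + 1) * α₄ j = 0 := by linear_combination this.symm
      exact (mul_eq_zero.1 h').resolve_left (mul_ne_zero (sub_ne_zero.2 hμ.2.1)
        (fun h => hμ.2.2 (eq_neg_of_add_eq_zero_left h)))
    · rw [tor_other hjp hjz, inv_one, mul_one] at this
      have h' : (μ - 1) * α₄ j = 0 := by linear_combination this.symm
      exact (mul_eq_zero.1 h').resolve_left (sub_ne_zero.2 hμ.2.1)
  rw [hzero, show rowP p (0 : V) = 0 from Matrix.vecMulVec_zero _, add_zero] at s4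
  exact hK (top_of_root hN (by omega) hne hν s4)

end CfsgLib.MaxSub.Monomial
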