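/-
Pseudo-reflections on the quotient by a fixed coordinate line.
-/
import Cfsg.Agent.Lib.MaxSub.Monomial.Separate

set_option autoImplicit false
set_option maxHeartbeats 400000

namespace CfsgLib.MaxSub.Monomial

open Matrix

variable {F : Type*} [Field F] {n : ℕ} {K : Subgroup (Matrix.SpecialLinearGroup (Fin n) F)}

local notation "V" => Fin n → F
local notation "Mn" => Matrix (Fin n) (Fin n) F

/-- The map `1 + c ⊗ ρ` on the quotient by the line `p` lifts to the group. -/
structure Lift (K : Subgroup (Matrix.SpecialLinearGroup (Fin n) F)) (p : Fin n)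
    (c ρ : Fin n → F) : Prop where
  cp : c p = 0
  rp : ρ p = 0
  lift : ∃ α : Fin n → F, (1 + ρ ⬝ᵥ c) * (1 + α p) = 1 ∧
    In K (1 + Matrix.vecMulVec c ρ + rowP p α)

variable {p : Fin n} {c ρ : Fin n → F}

theorem Lift.one_add_ne (h : Lift K p c ρ) : (1 + ρ ⬝ᵥ c) ≠ 0 := by
  obtain ⟨α, e, -⟩ := h.lift
  exact left_ne_zero_of_mul (e.trans_ne one_ne_zero)

theorem vsmul (a : F) (w v : V) : vecMulVec w (a • v) = a • vecMulVec w v := by
  ext i j; simp [vecMulVec_apply]; ring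

theorem rowP_smul (p : Fin n) (a : F) (α : V) : rowP p (a • α) = a • rowP p α := vsmul a _ α

theorem one_symm_apply (i : Fin n) : (1 : Equiv.Perm (Fin n)).symm i = i := rfl

theorem dot_single_zero {v : V} {p : Fin n} (h : v p = 0) : v ⬝ᵥ (Pi.single p 1 : V) = 0 := by
  rw [dotProduct_single, h, zero_mul]

/-- Conjugation by a monomial element fixing the line. -/
theorem Lift.conj (hN : HasMono K) (h : Lift K p c ρ) (σ : Equiv.Perm (Fin n)) (hσ : σ p = p)
    (d : V) (hd : ∀ i, i ≠ p → d i ≠ 0) :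
    Lift K p (fun i => d (σ.symm i) * c (σ.symm i))
      (fun i => ρ (σ.symm i) * (d (σ.symm i))⁻¹) := by
  classical
  obtain ⟨hc, hρ, α, he, hin⟩ := h
  set T : F := ∏ i ∈ Finset.univ.erase p, d i with hT
  have hT0 : T ≠ 0 := Finset.prod_ne_zero_iff.2 fun i hi => hd i (Finset.ne_of_mem_erase hi)
  set η : F := ((Equiv.Perm.sign σ : ℤ) : F) * T⁻¹ with hη
  have hs : ((Equiv.Perm.sign σ : ℤ) : F) * ((Equiv.Perm.sign σ : ℤ) : F) = 1 := by
    rcases Int.units_eq_one_or (Equiv.Perm.sign σ) with e | e <;> simp [e]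
  have hη0 : η ≠ 0 := mul_ne_zero (left_ne_zero_of_mul (hs.trans_ne one_ne_zero)) (inv_ne_zero hT0)
  let d' : V := Function.update d p η
  have hd' : ∀ i, d' i ≠ 0 := fun i => by
    by_cases hi : i = p
    · subst hi; simp [d', hη0]
    · simp [d', hi, hd i hi]
  have hprod : ((Equiv.Perm.sign σ : ℤ) : F) * ∏ i, d' i = 1 := by
    rw [← Finset.mul_prod_erase Finset.univ d' (Finset.mem_univ p),
      Finset.prod_congr rfl (fun i hi => show d' i = d i from
        Function.update_of_ne (Finset.ne_of_mem_erase hi) _ _), ← hT,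
      show d' p = η from Function.update_self _ _ _, hη]
    field_simp
    linear_combination hs
  have hM := In.monM hN σ d' hprod
  obtain ⟨Mi, hMi, hM1, -⟩ := hM.inverse
  have hsym : σ.symm p = p := by rw [Equiv.symm_apply_eq, hσ]
  have ec : (fun i => d (σ.symm i) * c (σ.symm i)) = Monomial.monM σ d' *ᵥ c := by
    funext i
    rw [monM_mulVec]
    by_cases hi : σ.symm i = p
    · rw [hi, hc, mul_zero, mul_zero]
    · simp [d', hi]
  set ρ' : V := fun i => ρ (σ.symm i) * (d (σ.symm i))⁻¹ with hρ'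
  set α' : V := fun i => η * α (σ.symm i) * (d' (σ.symm i))⁻¹ with hα'
  have eρ : ρ' ᵥ* Monomial.monM σ d' = ρ := by
    funext j
    rw [monM_vecMul, hρ']
    dsimp only
    rw [σ.symm_apply_apply]
    by_cases hj : j = p
    · rw [hj, hρ, zero_mul, zero_mul]
    · simp [d', hj, hd j hj]
  have eα : α' ᵥ* Monomial.monM σ d' = η • α := by
    funext j
    rw [monM_vecMul, hα']
    dsimp only
    rw [σ.symm_apply_apply, Pi.smul_apply, smul_eq_mul, mul_assoc, inv_mul_cancel₀ (hd' j), mul_one]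
  have ep : Monomial.monM σ d' *ᵥ Pi.single p 1 = η • (Pi.single p 1 : V) := by
    funext i
    rw [monM_mulVec]
    by_cases hi : i = p
    · rw [hi, hsym]; simp [d']
    · have : σ.symm i ≠ p := fun e => hi (by rw [← hσ, ← e, σ.apply_symm_apply])
      simp [this, hi]
  refine ⟨by simp [hsym, hc], by simp [hρ', hsym, hρ], α', ?_, ?_⟩
  · have e1 : ρ' ⬝ᵥ (fun i => d (σ.symm i) * c (σ.symm i)) = ρ ⬝ᵥ c := by
      rw [ec, Matrix.dotProduct_mulVec, eρ]
    have e2 : α' p = α p := by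
      rw [hα']; dsimp only
      rw [hsym, show d' p = η from Function.update_self _ _ _]
      field_simp
    rw [e1, e2, he]
  · have key : Monomial.monM σ d' * (1 + vecMulVec c ρ + rowP p α) =
        (1 + vecMulVec (fun i => d (σ.symm i) * c (σ.symm i)) ρ' + rowP p α') *
          Monomial.monM σ d' := by
      rw [ec, rowP, rowP, mul_add, mul_add, add_mul, add_mul, mul_one, one_mul, mul_vecMulVec,
        mul_vecMulVec, vecMulVec_mul, vecMulVec_mul, eρ, eα, ep, smul_vecMulVec,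
        vsmul]
    have h2 := (hM.mul hin).mul hMi
    rwa [key, mul_assoc, hM1, mul_one] at h2

/-- Two lifts with the same axis. -/
theorem Lift.sameAxis (h : Lift K p c ρ) {c' : V} (h' : Lift K p c' ρ)
    (hs : ρ ⬝ᵥ c' = ρ ⬝ᵥ c) : Lift K p ((1 + ρ ⬝ᵥ c)⁻¹ • (c' - c)) ρ := by
  have hne := h.one_add_ne
  obtain ⟨hc, hρ, α, he, hin⟩ := h
  obtain ⟨hc', -, α', he', hin'⟩ := h'
  set s := ρ ⬝ᵥ c with hsdef
  rw [hs] at he'
  have hαp : α' p = α p := by
    have := mul_left_cancel₀ hne (he'.trans he.symm)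
    exact add_left_cancel this
  set θ : F := (α' - α) ⬝ᵥ c * (1 + s)⁻¹ with hθ
  set β : V := (α' - α) - θ • ρ with hβ
  have hβp : β p = 0 := by simp [hβ, hαp, hρ]
  have hd : ρ ⬝ᵥ ((1 + s)⁻¹ • (c' - c)) = 0 := by
    rw [dotProduct_smul, dotProduct_sub, hs, sub_self, smul_zero]
  refine ⟨by simp [hc, hc'], hρ, β, by rw [hd, hβp]; simp, ?_⟩
  obtain ⟨Xi, hXi, hX1, -⟩ := hin.inverse
  have hW : (1 + vecMulVec ((1 + s)⁻¹ • (c' - c)) ρ + rowP p β) *
      (1 + vecMulVec c ρ + rowP p α) = 1 + vecMulVec c' ρ + rowP p α' := by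
    have e1 : β ⬝ᵥ c = θ := by
      rw [hβ, sub_dotProduct, smul_dotProduct, ← hsdef, smul_eq_mul, hθ]
      field_simp
      ring
    have e2 : (rowP p α' : Mn) = rowP p α + (rowP p β + θ • vecMulVec (Pi.single p 1) ρ) := by
      rw [← vsmul, ← rowP, ← rowP_add, ← rowP_add]
      congr 1
      simp [hβ]
    have e3 : vecMulVec c' ρ = vecMulVec c ρ +
        ((1 : F) + s) • vecMulVec ((1 + s)⁻¹ • (c' - c)) ρ := by
      rw [← smul_vecMulVec, smul_smul, mul_inv_cancel₀ hne, one_smul, ← add_vecMulVec,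
        add_sub_cancel]
    rw [e2, e3]
    simp only [rowP, add_mul, mul_add, one_mul, mul_one, vecMulVec_mul_vecMulVec, ← hsdef, e1,
      dot_single_zero hρ, dot_single_zero hβp, zero_smul, vecMulVec_zero, vsmul,
      add_smul, one_smul]
    abel
  have h2 := hin'.mul hXi
  rwa [← hW, mul_assoc, hX1, mul_one] at h2

/-- Two lifts with the same centre. -/
theorem Lift.sameCentre (h : Lift K p c ρ) {ρ' : V} (h' : Lift K p c ρ')
    (hs : ρ' ⬝ᵥ c = ρ ⬝ᵥ c) : Lift K p c ((1 + ρ ⬝ᵥ c)⁻¹ • (ρ' - ρ)) := by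
  have hne := h.one_add_ne
  obtain ⟨hc, hρ, α, he, hin⟩ := h
  obtain ⟨-, hρ', α', he', hin'⟩ := h'
  set s := ρ ⬝ᵥ c with hsdef
  rw [hs] at he'
  have hαp : α' p = α p := by
    have := mul_left_cancel₀ hne (he'.trans he.symm)
    exact add_left_cancel this
  set κ : V := (1 + s)⁻¹ • (ρ' - ρ) with hκ
  set δ : V := (α' - α) - (α ⬝ᵥ c) • κ with hδ
  set β : V := (1 + s) • δ with hβ
  have hκp : κ p = 0 := by simp [hκ, hρ, hρ']
  have hβp : β p = 0 := by simp [hβ, hδ, hκp, hαp]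
  have hd : κ ⬝ᵥ c = 0 := by
    rw [hκ, smul_dotProduct, sub_dotProduct, hs, ← hsdef, sub_self, smul_zero]
  refine ⟨hc, hκp, β, by rw [hd, hβp]; simp, ?_⟩
  obtain ⟨Xi, hXi, -, hX1⟩ := hin.inverse
  have hW : (1 + vecMulVec c ρ + rowP p α) * (1 + vecMulVec c κ + rowP p β) =
      1 + vecMulVec c ρ' + rowP p α' := by
    have e2 : (rowP p α' : Mn) =
        rowP p α + ((α ⬝ᵥ c) • rowP p κ + (rowP p β + (α p) • rowP p β)) := by
      rw [← rowP_smul, ← rowP_smul, ← rowP_add, ← rowP_add, ← rowP_add]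
      congr 1
      have e4 : β + α p • β = δ := by
        rw [hβ, smul_smul, ← add_smul, show (1 : F) + s + α p * (1 + s) = 1 by
          linear_combination he, one_smul]
      rw [e4, hδ]
      abel
    have e3 : vecMulVec c ρ' = vecMulVec c ρ + ((1 : F) + s) • vecMulVec c κ := by
      rw [← vsmul, hκ, smul_smul, mul_inv_cancel₀ hne, one_smul, ← vecMulVec_add,
        add_sub_cancel]
    rw [e2, e3]
    simp only [rowP, add_mul, mul_add, one_mul, mul_one, vecMulVec_mul_vecMulVec, ← hsdef,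
      dotProduct_single, hρ, zero_mul, zero_smul, vecMulVec_zero, vsmul,
      add_smul, one_smul]
    abel
  have h2 := hXi.mul hin'
  rwa [← hW, ← mul_assoc, hX1, one_mul] at h2

/-- Conjugation of one lift by another. -/
theorem Lift.conjLift {c₂ ρ₂ : V} (hX : Lift K p c ρ) (hY : Lift K p c₂ ρ₂) :
    Lift K p (c + (ρ₂ ⬝ᵥ c) • c₂) (ρ - ((ρ ⬝ᵥ c₂) * (1 + ρ₂ ⬝ᵥ c₂)⁻¹) • ρ₂) := by
  have hne := hY.one_add_ne
  obtain ⟨hc, hρ, α, he, hin⟩ := hX
  obtain ⟨hc₂, hρ₂, β, he₂, hin₂⟩ := hY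
  set Y : Mn := 1 + vecMulVec c₂ ρ₂ + rowP p β with hYdef
  obtain ⟨Yi, hYi, hY1, hY2⟩ := hin₂.inverse
  set c' : V := c + (ρ₂ ⬝ᵥ c) • c₂ with hc'
  set ρ' : V := ρ - ((ρ ⬝ᵥ c₂) * (1 + ρ₂ ⬝ᵥ c₂)⁻¹) • ρ₂ with hρ'
  set η : F := 1 + β p with hη
  set α' : V := (β ⬝ᵥ c) • ρ' + η • (α ᵥ* Yi) with hα'
  have hc'p : c' p = 0 := by simp [hc', hc, hc₂]
  have hρ'p : ρ' p = 0 := by simp [hρ', hρ, hρ₂]
  have eY : ∀ v : V, Y *ᵥ v = v + (ρ₂ ⬝ᵥ v) • c₂ + (β ⬝ᵥ v) • (Pi.single p 1 : V) := fun v => by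
    simp [hYdef, rowP, Matrix.add_mulVec, Matrix.vecMulVec_mulVec]
  have eρ : ρ' ᵥ* Y = ρ := by
    rw [hYdef, Matrix.vecMul_add, Matrix.vecMul_add, Matrix.vecMul_one, rowP,
      Matrix.vecMul_vecMulVec, Matrix.vecMul_vecMulVec, dot_single_zero hρ'p, zero_smul, add_zero,
      hρ', sub_dotProduct, smul_dotProduct, smul_eq_mul]
    funext i
    simp only [Pi.add_apply, Pi.sub_apply, Pi.smul_apply, smul_eq_mul]
    field_simp
    ring
  have ep : Y *ᵥ Pi.single p 1 = η • (Pi.single p 1 : V) := by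
    rw [eY, dot_single_zero hρ₂, dotProduct_single, mul_one, zero_smul, add_zero, hη, add_smul,
      one_smul]
  have ec : Y *ᵥ c = c' + (β ⬝ᵥ c) • (Pi.single p 1 : V) := by rw [eY, hc']
  have eαp : α' p = α p := by
    have h1 : (α ᵥ* Yi) ⬝ᵥ (Y *ᵥ Pi.single p 1) = α ⬝ᵥ Pi.single p 1 := by
      rw [Matrix.dotProduct_mulVec, Matrix.vecMul_vecMul, hY2, Matrix.vecMul_one]
    rw [ep, dotProduct_smul, dotProduct_single, dotProduct_single, mul_one, mul_one, smul_eq_mul]
      at h1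
    simp [hα', hρ'p, h1]
  have es : ρ' ⬝ᵥ c' = ρ ⬝ᵥ c := by
    conv_rhs => rw [← eρ, ← Matrix.dotProduct_mulVec, ec, dotProduct_add, dotProduct_smul,
      dot_single_zero hρ'p, smul_zero, add_zero]
  refine ⟨hc'p, hρ'p, α', by rw [es, eαp, he], ?_⟩
  have key : Y * (1 + vecMulVec c ρ + rowP p α) = (1 + vecMulVec c' ρ' + rowP p α') * Y := by
    have e1 : α' ᵥ* Y = (β ⬝ᵥ c) • ρ + η • α := by
      rw [hα', Matrix.add_vecMul, Matrix.smul_vecMul, Matrix.smul_vecMul, eρ, Matrix.vecMul_vecMul,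
        hY2, Matrix.vecMul_one]
    simp only [rowP, mul_add, add_mul _ _ Y, mul_one, one_mul]
    rw [mul_vecMulVec, mul_vecMulVec, vecMulVec_mul, vecMulVec_mul, eρ, e1, ec, ep]
    simp only [add_vecMulVec, smul_vecMulVec, vecMulVec_add, vsmul]
    abel
  have h2 := (hin₂.mul hin).mul hYi
  rwa [key, mul_assoc, hY1, mul_one] at h2

/-! ### Consequences -/

variable [Fintype F]

/-- Disjoint centre and axis. -/
theorem top_of_disjoint (hq : 5 ≤ Fintype.card F) (hN : HasMono K) (hn : 5 ≤ n)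
    (h : Lift K p c ρ) (hd : ∀ i, c i ≠ 0 → ρ i = 0) (hc : c ≠ 0) (hρ : ρ ≠ 0) : K = ⊤ := by
  obtain ⟨hcp, hρp, α, he, hin⟩ := h
  have hs : ρ ⬝ᵥ c = 0 := Finset.sum_eq_zero fun i _ => by
    by_cases hi : c i = 0
    · rw [hi, mul_zero]
    · rw [hd i hi, zero_mul]
  rw [hs, add_zero, one_mul, add_eq_left] at he
  refine top_of_mixed hq hN hn (R := fun i => c i ≠ 0) (A := vecMulVec c ρ) ?_ ?_ ?_ ?_ he hin
  · intro i j hij
    rw [vecMulVec_apply] at hij
    exact ⟨left_ne_zero_of_mul hij, fun hj => right_ne_zero_of_mul hij (hd j hj)⟩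
  · exact fun j => by simp [vecMulVec_apply, hcp]
  · exact fun i => by simp [vecMulVec_apply, hρp]
  · intro e
    obtain ⟨i, hi⟩ := Function.ne_iff.1 hc
    obtain ⟨j, hj⟩ := Function.ne_iff.1 hρ
    exact mul_ne_zero hi hj (congrFun (congrFun e i) j)

theorem top_of_centre_off (hq : 5 ≤ Fintype.card F) (hN : HasMono K) (hn : 5 ≤ n)
    (h : Lift K p c ρ) {a : Fin n} (hca : c a ≠ 0) (hρa : ρ a = 0) (hρ : ρ ≠ 0) : K = ⊤ := by
  classical
  obtain ⟨μ, hμ⟩ := exists_avoid hq {0, 1} (Finset.card_le_two.trans (by omega))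
  simp only [Finset.mem_insert, Finset.mem_singleton, not_or] at hμ
  have h1 := h.conj hN 1 rfl (Function.update (1 : V) a μ) fun i _ => by
    by_cases hi : i = a <;> simp [hi, hμ.1]
  set c' : V := fun i => Function.update (1 : V) a μ ((1 : Equiv.Perm (Fin n)).symm i) *
    c ((1 : Equiv.Perm (Fin n)).symm i) with hc'
  have eρ : (fun i => ρ ((1 : Equiv.Perm (Fin n)).symm i) *
      (Function.update (1 : V) a μ ((1 : Equiv.Perm (Fin n)).symm i))⁻¹) = ρ := funext fun i => by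
    by_cases hi : i = a
    · subst hi; simp [one_symm_apply, hρa]
    · simp [one_symm_apply, hi]
  rw [eρ] at h1
  have ec : c' - c = Pi.single a ((μ - 1) * c a) := funext fun i => by
    by_cases hi : i = a
    · subst hi; simp [one_symm_apply, hc', sub_mul]
    · simp [one_symm_apply, hc', hi]
  have hs : ρ ⬝ᵥ c' = ρ ⬝ᵥ c := by
    rw [← sub_eq_zero, ← dotProduct_sub, ec, dotProduct_single, hρa, zero_mul]
  have h2 := h.sameAxis h1 hs
  rw [ec] at h2
  refine top_of_disjoint hq hN hn h2 (fun i hi => ?_) ?_ hρ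
  · by_cases hia : i = a
    · exact hia ▸ hρa
    · exact absurd (by simp [hia]) hi
  · intro e
    have := congrFun e a
    simp [h.one_add_ne, sub_ne_zero.2 hμ.2, hca] at this

theorem top_of_axis_off (hq : 5 ≤ Fintype.card F) (hN : HasMono K) (hn : 5 ≤ n)
    (h : Lift K p c ρ) {a : Fin n} (hρa : ρ a ≠ 0) (hca : c a = 0) (hc : c ≠ 0) : K = ⊤ := by
  classical
  obtain ⟨μ, hμ⟩ := exists_avoid hq {0, 1} (Finset.card_le_two.trans (by omega))
  simp only [Finset.mem_insert, Finset.mem_singleton, not_or] at hμ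
  have h1 := h.conj hN 1 rfl (Function.update (1 : V) a μ) fun i _ => by
    by_cases hi : i = a <;> simp [hi, hμ.1]
  set ρ' : V := fun i => ρ ((1 : Equiv.Perm (Fin n)).symm i) *
      (Function.update (1 : V) a μ ((1 : Equiv.Perm (Fin n)).symm i))⁻¹ with hρ'
  have ec : (fun i => Function.update (1 : V) a μ ((1 : Equiv.Perm (Fin n)).symm i) *
    c ((1 : Equiv.Perm (Fin n)).symm i)) = c := funext fun i => by
    by_cases hi : i = a
    · subst hi; simp [one_symm_apply, hca]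
    · simp [one_symm_apply, hi]
  rw [ec] at h1
  have eρ : ρ' - ρ = Pi.single a ((μ⁻¹ - 1) * ρ a) := funext fun i => by
    by_cases hi : i = a
    · subst hi; simp [one_symm_apply, hρ', sub_mul, mul_comm]; ring
    · simp [one_symm_apply, hρ', hi]
  have hs : ρ' ⬝ᵥ c = ρ ⬝ᵥ c := by
    rw [← sub_eq_zero, ← sub_dotProduct, eρ, single_dotProduct, hca, mul_zero]
  have h2 := h.sameCentre h1 hs
  rw [eρ] at h2
  refine top_of_disjoint hq hN hn h2 (fun i hi => ?_) hc ?_
  · by_cases hia : i = a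
    · exact absurd (hia ▸ hca) hi
    · simp [hia]
  · intro e
    have := congrFun e a
    simp [h.one_add_ne, hρa] at this
    exact hμ.2 (inv_eq_one.1 (sub_eq_zero.1 this))

theorem top_of_unequal (hq : 5 ≤ Fintype.card F) (hN : HasMono K) (hn : 5 ≤ n)
    (h : Lift K p c ρ) {a b e : Fin n} (hab : a ≠ b) (hea : e ≠ a) (heb : e ≠ b)
    (hρa : ρ a ≠ 0) (hρb : ρ b ≠ 0) (hρe : ρ e ≠ 0) (hP : ρ a * c a ≠ ρ b * c b) : K = ⊤ := by
  classical
  have hap : a ≠ p := fun e' => hρa (e' ▸ h.rp)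
  have hbp : b ≠ p := fun e' => hρb (e' ▸ h.rp)
  let d : V := fun i => if i = a then ρ a * (ρ b)⁻¹ else if i = b then ρ b * (ρ a)⁻¹ else 1
  have h1 := h.conj hN (Equiv.swap a b) (Equiv.swap_apply_of_ne_of_ne hap.symm hbp.symm) d
    fun i _ => by
      simp only [d]; split_ifs <;> simp [hρa, hρb]
  set c' : V := fun i => d ((Equiv.swap a b).symm i) * c ((Equiv.swap a b).symm i) with hc'
  have eρ : (fun i => ρ ((Equiv.swap a b).symm i) * (d ((Equiv.swap a b).symm i))⁻¹) = ρ :=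
    funext fun i => by
      rw [Equiv.symm_swap]
      by_cases hia : i = a
      · subst hia
        rw [Equiv.swap_apply_left]
        simp only [d, if_neg hab.symm, if_true]
        field_simp
      by_cases hib : i = b
      · subst hib
        rw [Equiv.swap_apply_right]
        simp only [d, if_true]
        field_simp
      · rw [Equiv.swap_apply_of_ne_of_ne hia hib]
        simp [d, hia, hib]
  rw [eρ] at h1
  have hs : ρ ⬝ᵥ c' = ρ ⬝ᵥ c := by
    show ∑ i, ρ i * c' i = ∑ i, ρ i * c i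
    rw [← Equiv.sum_comp (Equiv.swap a b) (fun i => ρ i * c' i)]
    refine Finset.sum_congr rfl fun i _ => ?_
    have := congrFun eρ (Equiv.swap a b i)
    simp only [Equiv.symm_swap, Equiv.swap_apply_self] at this
    have hdi : d i ≠ 0 := by simp only [d]; split_ifs <;> simp [hρa, hρb]
    simp only [hc', Equiv.symm_swap, Equiv.swap_apply_self, ← this]
    field_simp
  have h2 := h.sameAxis h1 hs
  refine top_of_axis_off hq hN hn h2 hρe ?_ ?_
  · simp [hc', Equiv.swap_apply_of_ne_of_ne hea heb, d, hea, heb]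
  · intro e'
    have := congrFun e' b
    simp [hc', d, h.one_add_ne, sub_eq_zero] at this
    field_simp at this
    exact hP (by linear_combination this)

/-- A lift with a centre of weight at least two gives everything. -/
theorem top_of_lift (hq : 5 ≤ Fintype.card F) (hN : HasMono K) (hn : 5 ≤ n) (h : Lift K p c ρ)
    (hρ0 : ρ ≠ 0) (hlam : (1 + ρ ⬝ᵥ c) ^ 2 ≠ 1) {a b : Fin n} (hab : a ≠ b) (hca : c a ≠ 0)
    (hcb : c b ≠ 0) : K = ⊤ := by
  classical
  by_contra hK'
  apply hK'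
  by_cases hsupp : ∀ i, c i = 0 ↔ ρ i = 0
  swap
  · push Not at hsupp
    obtain ⟨i, hi⟩ := hsupp
    rcases hi with ⟨h1, h2⟩ | ⟨h1, h2⟩
    · exact top_of_axis_off hq hN hn h h2 h1 (fun e => hca (congrFun e a))
    · exact top_of_centre_off hq hN hn h h1 h2 hρ0
  have nz : ∀ i, c i ≠ 0 → ρ i ≠ 0 := fun i hi e => hi ((hsupp i).2 e)
  have hap : a ≠ p := fun e => hca (e ▸ h.cp)
  have hbp : b ≠ p := fun e => hcb (e ▸ h.cp)
  -- weight at least three
  have big : ∀ {c ρ : V}, Lift K p c ρ → (1 + ρ ⬝ᵥ c) ^ 2 ≠ 1 → ∀ {a b e : Fin n}, a ≠ b → e ≠ a →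
      e ≠ b → c a ≠ 0 → c b ≠ 0 → c e ≠ 0 → K = ⊤ := by
    intro c ρ h hlam a b e hab hea heb hca hcb hce
    have hc0 : c ≠ 0 := fun e' => hca (congrFun e' a)
    by_cases hρa : ρ a = 0
    · by_cases hρ : ρ = 0
      · exact absurd (by rw [hρ, zero_dotProduct, add_zero, one_pow]) hlam
      · exact top_of_centre_off hq hN hn h hca hρa hρ
    have hρ : ρ ≠ 0 := fun e' => hρa (congrFun e' a)
    by_cases hρb : ρ b = 0
    · exact top_of_centre_off hq hN hn h hcb hρb hρ
    by_cases hρe : ρ e = 0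
    · exact top_of_centre_off hq hN hn h hce hρe hρ
    by_cases hP : ρ a * c a = ρ b * c b
    swap
    · exact top_of_unequal hq hN hn h hab hea heb hρa hρb hρe hP
    set P : F := ρ a * c a with hPdef
    have hP0 : P ≠ 0 := mul_ne_zero hρa hca
    set s : F := ρ ⬝ᵥ c with hs
    have hl0 : 1 + s ≠ 0 := h.one_add_ne
    -- the set of scaled coordinates
    obtain ⟨T, haT, hbT, hT0, hTs⟩ : ∃ T : Finset (Fin n), a ∈ T ∧ b ∉ T ∧
        (∑ i ∈ T, ρ i * c i ≠ 0) ∧ ((∑ i ∈ T, ρ i * c i) * s ≠ -(1 + s) ∨ (2 : F) = 0) := by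
      by_cases hd : P * s = -(1 + s) ∧ (2 : F) ≠ 0
      · by_cases hPe : ρ e * c e = P
        · refine ⟨{a, e}, by simp, by simp [hab.symm, heb.symm], ?_, Or.inl ?_⟩ <;>
            rw [Finset.sum_pair hea.symm, hPe, ← hPdef, ← two_mul]
          · exact mul_ne_zero hd.2 hP0
          · rw [mul_assoc, hd.1]
            exact fun e' => hl0 (by linear_combination -e')
        · exact absurd (top_of_unequal hq hN hn h hea.symm hab.symm heb.symm hρa hρe hρb
            (Ne.symm hPe)) (fun hK => hK' hK)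
      · refine ⟨{a}, by simp, by simp [hab.symm], ?_, ?_⟩ <;> rw [Finset.sum_singleton, ← hPdef]
        · exact hP0
        · push Not at hd
          by_cases h' : P * s = -(1 + s)
          · exact Or.inr (hd h')
          · exact Or.inl h'
    set Pe : F := ∑ i ∈ T, ρ i * c i with hPe
    obtain ⟨μ, hμ0, hμ1, hμA, hμC, hμB⟩ : ∃ μ : F, μ ≠ 0 ∧ μ ≠ 1 ∧
        μ * ((1 + s) * (s - Pe) + Pe) + ((1 + s) * Pe + s - Pe) ≠ 0 ∧
        1 + Pe + (s - Pe) * μ ≠ 0 ∧ (Pe * s ≠ -(1 + s) ∨ μ * (1 + s) ≠ 1) := by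
      have hA : ∀ μ : F, μ * ((1 + s) * (s - Pe) + Pe) + ((1 + s) * Pe + s - Pe) = 0 →
          μ = -(((1 + s) * Pe + s - Pe) * ((1 + s) * (s - Pe) + Pe)⁻¹) := by
        intro μ e'
        by_cases hk : (1 + s) * (s - Pe) + Pe = 0
        · rw [hk, mul_zero, zero_add] at e'
          exfalso
          refine hlam ?_
          have e1 : s * (1 + s - Pe) = 0 := by linear_combination hk
          rcases mul_eq_zero.1 e1 with e2 | e2
          · rw [e2, add_zero, one_pow]
          · have e3 := sub_eq_zero.1 e2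
            rw [← e3] at e'
            linear_combination e'
        · field_simp
          linear_combination e'
      have hC : ∀ μ : F, 1 + Pe + (s - Pe) * μ = 0 → μ = -((1 + Pe) * (s - Pe)⁻¹) := by
        intro μ e'
        by_cases hk : s - Pe = 0
        · rw [hk, zero_mul, add_zero] at e'
          exact absurd (show 1 + s = 0 by rw [sub_eq_zero.1 hk, e']) hl0
        · field_simp
          linear_combination e'
      rcases hTs with hTs | h2
      · obtain ⟨μ, hμ⟩ := exists_avoid hq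
          {0, 1, -(((1 + s) * Pe + s - Pe) * ((1 + s) * (s - Pe) + Pe)⁻¹),
            -((1 + Pe) * (s - Pe)⁻¹)} Finset.card_le_four
        simp only [Finset.mem_insert, Finset.mem_singleton, not_or] at hμ
        exact ⟨μ, hμ.1, hμ.2.1, fun e' => hμ.2.2.1 (hA μ e'), fun e' => hμ.2.2.2 (hC μ e'),
          Or.inl hTs⟩
      · obtain ⟨μ, hμ⟩ : ∃ μ, μ ∉ ({0, 1, -(((1 + s) * Pe + s - Pe) *
            ((1 + s) * (s - Pe) + Pe)⁻¹), -((1 + Pe) * (s - Pe)⁻¹), (1 + s)⁻¹} : Finset F) := by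
          by_contra hc
          push Not at hc
          have h6 : Fintype.card F ≤ 5 :=
            (Finset.card_le_card (s := Finset.univ) fun x _ => hc x).trans Finset.card_le_five
          have h5 : ((Fintype.card F : ℕ) : F) = 0 := FiniteField.cast_card_eq_zero F
          rw [show Fintype.card F = 5 by omega] at h5
          exact one_ne_zero (α := F) (by push_cast at h5; linear_combination h5 - 2 * h2)
        simp only [Finset.mem_insert, Finset.mem_singleton, not_or] at hμ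
        exact ⟨μ, hμ.1, hμ.2.1, fun e' => hμ.2.2.1 (hA μ e'), fun e' => hμ.2.2.2.1 (hC μ e'),
          Or.inr fun e' => hμ.2.2.2.2 (eq_inv_of_mul_eq_one_left e')⟩
    have h1 := h.conj hN 1 rfl (fun i => if i ∈ T then μ else 1) fun i _ => by
      split_ifs <;> simp [hμ0]
    set c₂ : V := fun i => (fun i => if i ∈ T then μ else 1) ((1 : Equiv.Perm (Fin n)).symm i) *
      c ((1 : Equiv.Perm (Fin n)).symm i) with hc₂
    set ρ₂ : V := fun i => ρ ((1 : Equiv.Perm (Fin n)).symm i) *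
      ((fun i => if i ∈ T then μ else 1) ((1 : Equiv.Perm (Fin n)).symm i))⁻¹ with hρ₂
    have hs2 : ρ₂ ⬝ᵥ c₂ = s := by
      refine Finset.sum_congr rfl fun i _ => ?_
      by_cases hi : i ∈ T <;> simp [hc₂, hρ₂, one_symm_apply, hi] <;> field_simp
    have hsum : ∀ f : F, (∑ i, ρ i * (if i ∈ T then f else 1) * c i) = s - Pe + Pe * f := by
      intro f
      rw [show s - Pe + Pe * f = s + Pe * (f - 1) by ring, hs, hPe, Finset.sum_mul,
        ← Finset.univ_inter T, ← Finset.sum_ite_mem, dotProduct, ← Finset.sum_add_distrib]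
      refine Finset.sum_congr rfl fun i _ => ?_
      simp only [Finset.univ_inter]
      split_ifs <;> ring
    have σ1 : ρ₂ ⬝ᵥ c = s - Pe + Pe * μ⁻¹ := by
      rw [← hsum μ⁻¹]
      refine Finset.sum_congr rfl fun i _ => ?_
      by_cases hi : i ∈ T <;> simp [hρ₂, one_symm_apply, hi]
    have σ2 : ρ ⬝ᵥ c₂ = s - Pe + Pe * μ := by
      rw [← hsum μ]
      refine Finset.sum_congr rfl fun i _ => ?_
      by_cases hi : i ∈ T <;> simp [hc₂, one_symm_apply, hi] <;> ring
    have h2 := h.conjLift h1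
    rw [hs2, σ1, σ2] at h2
    set σ : F := s - Pe + Pe * μ⁻¹ with hσdef
    set σ' : F := s - Pe + Pe * μ with hσ'def
    set c' : V := c + σ • c₂ with hc'
    set ρ' : V := ρ - (σ' * (1 + s)⁻¹) • ρ₂ with hρ'
    have inT : ∀ i, i ∈ T → c' i = (1 + σ * μ) * c i ∧
        ρ' i = (1 - σ' * (1 + s)⁻¹ * μ⁻¹) * ρ i := fun i hi => by
      constructor <;> simp [one_symm_apply, hc', hρ', hc₂, hρ₂, hi] <;> ring
    have outT : ∀ i, i ∉ T → c' i = (1 + σ) * c i ∧
        ρ' i = (1 - σ' * (1 + s)⁻¹) * ρ i := fun i hi => by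
      constructor <;> simp [one_symm_apply, hc', hρ', hc₂, hρ₂, hi] <;> ring
    have hC' : 1 + σ * μ ≠ 0 := fun e' => hμC (by
      rw [hσdef] at e'
      field_simp at e'
      linear_combination e')
    have hc'a : c' a ≠ 0 := by rw [(inT a haT).1]; exact mul_ne_zero hC' hca
    have hc'0 : c' ≠ 0 := fun e' => hc'a (congrFun e' a)
    by_cases hρ'b : ρ' b = 0
    · by_cases hc'b : c' b = 0
      · exfalso
        rw [(outT b hbT).1] at hc'b
        rw [(outT b hbT).2] at hρ'b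
        have k1 := (mul_eq_zero.1 hc'b).resolve_right hcb
        have k2 := (mul_eq_zero.1 hρ'b).resolve_right hρb
        rw [hσdef] at k1
        rw [hσ'def] at k2
        field_simp at k1 k2
        -- `μ = (1 + s)⁻¹` and `Pe * s = -(1 + s)`
        have k3 : Pe * s = -(1 + s) := by
          have k4 : Pe * μ = 1 + Pe := by linear_combination -k2
          have k5 : (1 + s - Pe) * (1 + Pe) + Pe * Pe = 0 := by
            linear_combination Pe * k1 - (1 + s - Pe) * k4
          linear_combination k5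
        rcases hμB with hB | hB
        · exact hB k3
        · refine hB (mul_left_cancel₀ hT0 ?_)
          linear_combination -(1 + s) * k2 + k3
      · by_cases hρ'0 : ρ' = 0
        · refine absurd ?_ hlam
          obtain ⟨β, hβ, -⟩ := h2.lift
          have key : ρ' ⬝ᵥ c' = s := by
            rw [hc', hρ', sub_dotProduct, dotProduct_add, dotProduct_add, smul_dotProduct,
              smul_dotProduct, dotProduct_smul, dotProduct_smul, σ1, σ2, hs2, ← hs, smul_eq_mul,
              smul_eq_mul, smul_eq_mul, smul_eq_mul]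
            field_simp
            ring
          rw [← key, hρ'0, zero_dotProduct, add_zero, one_pow]
        · exact top_of_centre_off hq hN hn h2 hc'b hρ'b hρ'0
    have hρ'0 : ρ' ≠ 0 := fun e' => hρ'b (congrFun e' b)
    by_cases hρ'a : ρ' a = 0
    · exact top_of_centre_off hq hN hn h2 hc'a hρ'a hρ'0
    have hρ'e : ρ' e ≠ 0 := by
      by_cases heT : e ∈ T
      · rw [(inT a haT).2] at hρ'a
        rw [(inT e heT).2]
        exact mul_ne_zero (left_ne_zero_of_mul hρ'a) hρe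
      · rw [(outT b hbT).2] at hρ'b
        rw [(outT e heT).2]
        exact mul_ne_zero (left_ne_zero_of_mul hρ'b) hρe
    refine top_of_unequal hq hN hn h2 hab hea heb hρ'a hρ'b hρ'e fun e' => hμA ?_
    rw [(inT a haT).1, (inT a haT).2, (outT b hbT).1, (outT b hbT).2,
      mul_mul_mul_comm, mul_mul_mul_comm _ (ρ b), ← hP, hPdef] at e'
    have e2 := mul_right_cancel₀ (mul_ne_zero hρa hca) e'
    rw [hσdef, hσ'def] at e2
    field_simp at e2
    refine (mul_eq_zero.1 (?_ : (μ - 1) * _ = 0)).resolve_left (sub_ne_zero.2 hμ1)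
    linear_combination e2
  by_cases h3 : ∃ e, e ≠ a ∧ e ≠ b ∧ c e ≠ 0
  · obtain ⟨e, hea, heb, hce⟩ := h3
    exact big h hlam hab hea heb hca hcb hce
  push Not at h3
  -- weight two
  obtain ⟨e, he⟩ := exists_fresh {a, b, p} (lt_of_le_of_lt Finset.card_le_three (by omega))
  simp only [Finset.mem_insert, Finset.mem_singleton, not_or] at he
  obtain ⟨hea, heb, hep⟩ := he
  have hce : c e = 0 := h3 e hea heb
  have hρe : ρ e = 0 := (hsupp e).1 hce
  have h1 := h.conj hN (Equiv.swap b e) (Equiv.swap_apply_of_ne_of_ne hbp.symm (Ne.symm hep)) 1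
    fun i _ => one_ne_zero
  set c₂ : V := fun i => (1 : V) ((Equiv.swap b e).symm i) * c ((Equiv.swap b e).symm i) with hc₂
  set ρ₂ : V := fun i => ρ ((Equiv.swap b e).symm i) * ((1 : V) ((Equiv.swap b e).symm i))⁻¹
    with hρ₂
  have c₂v : ∀ i, c₂ i = c (Equiv.swap b e i) := fun i => by simp [hc₂]
  have ρ₂v : ∀ i, ρ₂ i = ρ (Equiv.swap b e i) := fun i => by simp [hρ₂]
  set P : F := ρ a * c a with hPdef
  have dot_ab : ∀ u v : V, (∀ i, i ≠ a → i ≠ b → u i = 0 ∨ v i = 0) →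
      u ⬝ᵥ v = u a * v a + u b * v b := fun u v huv => by
    refine Fintype.sum_eq_add a b hab fun i hi => ?_
    rcases huv i hi.1 hi.2 with e' | e' <;> simp [e']
  have hs : ρ ⬝ᵥ c = P + ρ b * c b := dot_ab ρ c fun i hi hi' => Or.inr (h3 i hi hi')
  have σ1 : ρ₂ ⬝ᵥ c = P := by
    rw [dot_ab ρ₂ c fun i hi hi' => Or.inr (h3 i hi hi'), ρ₂v, ρ₂v,
      Equiv.swap_apply_of_ne_of_ne hab (Ne.symm hea), Equiv.swap_apply_left, hρe, zero_mul, add_zero]
  have σ2 : ρ ⬝ᵥ c₂ = P := by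
    rw [dot_ab ρ c₂ fun i hi hi' => Or.inl ((hsupp i).1 (h3 i hi hi')), c₂v, c₂v,
      Equiv.swap_apply_of_ne_of_ne hab (Ne.symm hea), Equiv.swap_apply_left, hce, mul_zero, add_zero]
  have hs2 : ρ₂ ⬝ᵥ c₂ = ρ ⬝ᵥ c := by
    show ∑ i, ρ₂ i * c₂ i = _
    simp only [c₂v, ρ₂v]
    exact Equiv.sum_comp (Equiv.swap b e) fun i => ρ i * c i
  have h2 := h.conjLift h1
  rw [hs2, σ1, σ2] at h2
  set s : F := ρ ⬝ᵥ c with hsdef
  set c' : V := c + P • c₂ with hc'
  set ρ' : V := ρ - (P * (1 + s)⁻¹) • ρ₂ with hρ'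
  have hl0 : 1 + s ≠ 0 := h.one_add_ne
  have hc'b : c' b ≠ 0 := by simp [hc', c₂v, hce, hcb]
  have hρ'b : ρ' b ≠ 0 := by simp [hρ', ρ₂v, hρe, nz b hcb]
  have hP0 : P ≠ 0 := mul_ne_zero (nz a hca) hca
  have hc'e : c' e ≠ 0 := by simp [hc', c₂v, hce, hcb, hP0]
  have hc0 : c' ≠ 0 := fun e' => hc'b (congrFun e' b)
  have hρ'0 : ρ' ≠ 0 := fun e' => hρ'b (congrFun e' b)
  have hca' : c' a = (1 + P) * c a := by
    simp [hc', c₂v, Equiv.swap_apply_of_ne_of_ne hab (Ne.symm hea)]; ring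
  have hρa' : ρ' a = (1 - P * (1 + s)⁻¹) * ρ a := by
    simp [hρ', ρ₂v, Equiv.swap_apply_of_ne_of_ne hab (Ne.symm hea)]; ring
  by_cases hA : c' a = 0
  · by_cases hB : ρ' a = 0
    · exfalso
      rw [hca'] at hA
      rw [hρa'] at hB
      have e1 := (mul_eq_zero.1 hA).resolve_right hca
      have e2 := (mul_eq_zero.1 hB).resolve_right (nz a hca)
      field_simp at e2
      refine hlam ?_
      have e3 : 1 + s = -1 := by linear_combination e2 + e1
      rw [e3, neg_one_sq]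
    · exact top_of_axis_off hq hN hn h2 hB hA hc0
  · refine big h2 ?_ hab hea heb hA hc'b hc'e
    have : ρ' ⬝ᵥ c' = s := by
      have hec : ∀ i, c' i = c i + P * c₂ i := fun i => by simp [hc']
      rw [hc', hρ', sub_dotProduct, dotProduct_add, dotProduct_add, smul_dotProduct,
        smul_dotProduct, dotProduct_smul, dotProduct_smul, σ1, σ2, hs2, ← hsdef, smul_eq_mul,
        smul_eq_mul, smul_eq_mul, smul_eq_mul]
      field_simp
      ring
    rwa [this]

end CfsgLib.MaxSub.Monomial
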