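/-
The monomial subgroup is maximal in `SL_n` for at least five field elements.
-/
import Cfsg.Agent.Lib.MaxSub.Monomial.Lift

set_option autoImplicit false
set_option maxHeartbeats 600000

namespace CfsgLib.MaxSub.Monomial

open Matrix Module

variable {F : Type*} [Field F] {n : ℕ} {K : Subgroup (Matrix.SpecialLinearGroup (Fin n) F)}

local notation "V" => Fin n → F
local notation "Mn" => Matrix (Fin n) (Fin n) F

/-! ### Monomial matrices near the identity -/

/-- A monomial matrix whose difference with the identity has small image moves few points. -/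
theorem exists_moved_set {σ : Equiv.Perm (Fin n)} {d : V} (W : Submodule F (Fin n → F))
    (h : ∀ x, monM σ d *ᵥ x - x ∈ W) :
    ∃ I : Finset (Fin n), I.card ≤ finrank F W ∧ ∀ i, (σ i ≠ i ∨ d i ≠ 1) →
      i ∈ I ∨ (σ i ≠ i ∧ ∀ j, σ.SameCycle i j → i ≤ j) := by
  classical
  refine ⟨Finset.univ.filter fun i => (σ i ≠ i ∨ d i ≠ 1) ∧
    ¬ (σ i ≠ i ∧ ∀ j, σ.SameCycle i j → i ≤ j), ?_, fun i hi => ?_⟩
  swap
  · by_cases hT : σ i ≠ i ∧ ∀ j, σ.SameCycle i j → i ≤ j
    · exact Or.inr hT
    · exact Or.inl (Finset.mem_filter.2 ⟨Finset.mem_univ i, hi, hT⟩)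
  set I := Finset.univ.filter fun i => (σ i ≠ i ∨ d i ≠ 1) ∧
    ¬ (σ i ≠ i ∧ ∀ j, σ.SameCycle i j → i ≤ j) with hI
  let v : I → W := fun i => ⟨_, h (Pi.single (i : Fin n) 1)⟩
  have hli : LinearIndependent F v := by
    refine LinearIndependent.of_comp W.subtype ?_
    rw [Fintype.linearIndependent_iff]
    intro a ha
    let a' : V := fun i => if hi : i ∈ I then a ⟨i, hi⟩ else 0
    have ha' : monM σ d *ᵥ a' - a' = 0 := by
      rw [← ha]
      have e : a' = ∑ i : I, a i • (Pi.single (i : Fin n) 1 : V) := by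
        funext k
        simp only [Finset.sum_apply, Pi.smul_apply, smul_eq_mul, Pi.single_apply, mul_ite, mul_one,
          mul_zero, a']
        split_ifs with hk
        · rw [Finset.sum_eq_single ⟨k, hk⟩ (fun i _ hi => if_neg fun e => hi (Subtype.ext e.symm))
            (fun h' => absurd (Finset.mem_univ _) h'), if_pos rfl]
        · exact (Finset.sum_eq_zero fun i _ => if_neg fun e => hk (by rw [e]; exact i.2)).symm
      rw [e, Matrix.mulVec_sum, ← Finset.sum_sub_distrib]
      refine Finset.sum_congr rfl fun i _ => ?_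
      show _ = a i • (monM σ d *ᵥ Pi.single (i : Fin n) 1 - Pi.single (i : Fin n) 1)
      rw [smul_sub, Matrix.mulVec_smul]
    have hrec : ∀ k, d k * a' k = a' (σ k) := fun k => by
      have := congrFun ha' (σ k)
      rwa [Pi.sub_apply, monM_mulVec, σ.symm_apply_apply, Pi.zero_apply, sub_eq_zero] at this
    intro i
    have hi := (Finset.mem_filter.1 i.2).2
    have hai : a' i = a i := dif_pos i.2
    by_cases hfix : σ i = (i : Fin n)
    · have := hrec i
      rw [hfix] at this
      have h1 : (d i - 1) * a' i = 0 := by linear_combination this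
      rw [← hai]
      exact (mul_eq_zero.1 h1).resolve_left (sub_ne_zero.2 (hi.1.resolve_left (not_not.2 hfix)))
    · set C := Finset.univ.filter fun j => σ.SameCycle i j
      have hCne : C.Nonempty := ⟨i, Finset.mem_filter.2
        ⟨Finset.mem_univ _, Equiv.Perm.SameCycle.refl _ _⟩⟩
      have ht := Finset.mem_filter.1 (C.min'_mem hCne)
      have hmin : ∀ j, σ.SameCycle (C.min' hCne) j → C.min' hCne ≤ j := fun j hj =>
        C.min'_le j (Finset.mem_filter.2 ⟨Finset.mem_univ j, ht.2.trans hj⟩)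
      have htI : C.min' hCne ∉ I := fun hm => (Finset.mem_filter.1 hm).2.2
        ⟨fun e => hfix (ht.2.apply_eq_self_iff.2 e), hmin⟩
      obtain ⟨m, hm⟩ := ht.2.symm.exists_nat_pow_eq
      have key : ∀ m : ℕ, a' ((σ ^ m) (C.min' hCne)) = 0 := fun m => by
        induction m with
        | zero => exact dif_neg htI
        | succ m ih => rw [pow_succ', Equiv.Perm.mul_apply, ← hrec, ih, mul_zero]
      rw [← hai, ← hm]
      exact key m
  rw [← Fintype.card_coe]
  exact hli.fintype_card_le_finrank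

/-- The difference is supported on few coordinates. -/
theorem exists_supp {σ : Equiv.Perm (Fin n)} {d : V} (W : Submodule F (Fin n → F))
    (h : ∀ x, monM σ d *ᵥ x - x ∈ W) :
    ∃ M : Finset (Fin n), M.card ≤ 2 * finrank F W ∧ (∀ i, σ i ≠ i → i ∈ M) ∧
      ∀ x i, i ∉ M → (monM σ d *ᵥ x - x) i = 0 := by
  classical
  obtain ⟨I, hI, hIm⟩ := exists_moved_set W h
  set T := Finset.univ.filter fun i => σ i ≠ i ∧ ∀ j, σ.SameCycle i j → i ≤ j
  have hT : T.card ≤ I.card := by
    refine Finset.card_le_card_of_injOn σ (fun t ht => ?_) σ.injective.injOn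
    obtain ⟨h1, h2⟩ := (Finset.mem_filter.1 ht).2
    refine (hIm (σ t) (Or.inl fun e => h1 (σ.injective e))).resolve_right fun h3 => h1 ?_
    exact le_antisymm (h3.2 t (Equiv.Perm.sameCycle_apply_left.2 (Equiv.Perm.SameCycle.refl σ t)))
      (h2 (σ t) (Equiv.Perm.sameCycle_apply_right.2 (Equiv.Perm.SameCycle.refl σ t)))
  have hmem : ∀ i, (σ i ≠ i ∨ d i ≠ 1) → i ∈ I ∪ T := fun i hi => (hIm i hi).elim
    (fun h => Finset.mem_union_left _ h)
    fun h => Finset.mem_union_right _ (Finset.mem_filter.2 ⟨Finset.mem_univ i, h⟩)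
  refine ⟨I ∪ T, (Finset.card_union_le I T).trans (by omega), fun i hi => hmem i (Or.inl hi),
    fun x i hi => ?_⟩
  have h1 : σ i = i := by_contra fun e => hi (hmem i (Or.inl e))
  have h2 : d i = 1 := by_contra fun e => hi (hmem i (Or.inr e))
  have h3 : σ.symm i = i := by rw [Equiv.symm_apply_eq, h1]
  rw [Pi.sub_apply, monM_mulVec, h3, h2, one_mul, sub_self]

theorem conj_diag_mem {g gi : Mn} (h1 : g * gi = 1) {D : V} {T : Finset (Fin n)}
    (hT : ∀ i ∉ T, D i = 1) (x : V) :
    (g * Matrix.diagonal D * gi) *ᵥ x - x ∈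
      Submodule.span F (Set.range fun i : T => g.col i) := by
  classical
  have e : (g * Matrix.diagonal D * gi) *ᵥ x - x =
      g *ᵥ (fun i => (D i - 1) * (gi *ᵥ x) i) := by
    conv_lhs => arg 2; rw [← Matrix.one_mulVec x, ← h1]
    rw [← Matrix.mulVec_mulVec, ← Matrix.mulVec_mulVec, ← Matrix.mulVec_mulVec,
      ← Matrix.mulVec_sub]
    congr 1
    funext i
    simp [← Matrix.mulVec_mulVec, Matrix.mulVec_diagonal, sub_mul]
  rw [e, Matrix.mulVec_eq_sum]
  refine Submodule.sum_mem _ fun i _ => ?_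
  rw [op_smul_eq_smul]
  by_cases hi : i ∈ T
  · exact Submodule.smul_mem _ _ (Submodule.subset_span ⟨⟨i, hi⟩, rfl⟩)
  · rw [hT i hi, sub_self, zero_mul, zero_smul]; exact zero_mem _

theorem conj_diag_eigen {g gi : Mn} (h2 : gi * g = 1) (D : V) (i : Fin n) :
    (g * Matrix.diagonal D * gi) *ᵥ g.col i = D i • g.col i := by
  rw [← Matrix.mulVec_single_one, ← Matrix.mulVec_mulVec, ← Matrix.mulVec_mulVec,
    Matrix.mulVec_mulVec _ gi g, h2, Matrix.one_mulVec,
    show Matrix.diagonal D *ᵥ Pi.single i 1 = D i • (Pi.single i 1 : V) from by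
      funext j
      by_cases hj : j = i
      · subst hj; simp [Matrix.mulVec_diagonal]
      · simp [Matrix.mulVec_diagonal, hj]]
  rw [Matrix.mulVec_smul]

theorem finrank_span_cols (g : Mn) (T : Finset (Fin n)) :
    finrank F (Submodule.span F (Set.range fun i : T => g.col i)) ≤ T.card :=
  (finrank_range_le_card _).trans (Fintype.card_coe T).le

/-- A monomial conjugate of a diagonal matrix has sparse eigenvectors. -/
theorem supp_le {g gi : Mn} (h1 : g * gi = 1) (h2 : gi * g = 1) {D : V} (hD : ∀ i, D i ≠ 0)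
    {T : Finset (Fin n)} (hT : ∀ i ∉ T, D i = 1) (hmono : Mono (g * Matrix.diagonal D * gi)) :
    ∃ M : Finset (Fin n), M.card ≤ 2 * T.card ∧ ∀ i, D i ≠ 1 → ∀ k ∉ M, g k i = 0 := by
  obtain ⟨σ, d, -, e⟩ := exists_monM hmono (by
    have hg : g.det * gi.det = 1 := by rw [← Matrix.det_mul, h1, Matrix.det_one]
    rw [Matrix.det_mul, Matrix.det_mul, mul_right_comm, hg, one_mul, Matrix.det_diagonal]
    exact Finset.prod_ne_zero_iff.2 fun i _ => hD i)
  obtain ⟨M, hM, -, hMs⟩ := exists_supp _ (fun x => e ▸ conj_diag_mem h1 hT x)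
  refine ⟨M, hM.trans (Nat.mul_le_mul_left 2 (finrank_span_cols g T)), fun i hi k hk => ?_⟩
  have h3 := hMs (g.col i) k hk
  rw [← e, conj_diag_eigen h2] at h3
  have h4 : (D i - 1) * g k i = 0 := by
    rw [sub_mul, one_mul]
    simpa [Matrix.col_apply] using h3
  exact (mul_eq_zero.1 h4).resolve_left (sub_ne_zero.2 hi)

theorem monM_pow_mulVec_mem {σ : Equiv.Perm (Fin n)} {d : V} (W : Submodule F (Fin n → F))
    (h : ∀ x, monM σ d *ᵥ x - x ∈ W) (k : ℕ) (x : V) : (monM σ d ^ k) *ᵥ x - x ∈ W := by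
  induction k generalizing x with
  | zero => rw [pow_zero, Matrix.one_mulVec, sub_self]; exact zero_mem _
  | succ k ih =>
    rw [pow_succ, ← Matrix.mulVec_mulVec]
    have := add_mem (ih (monM σ d *ᵥ x)) (h x)
    rwa [sub_add_sub_cancel] at this

theorem exists_monM_pow (σ : Equiv.Perm (Fin n)) (d : V) (k : ℕ) :
    ∃ d' : V, monM σ d ^ k = monM (σ ^ k) d' := by
  induction k with
  | zero => exact ⟨fun _ => 1, by rw [pow_zero, pow_zero, monM_one, ← Matrix.diagonal_one]⟩
  | succ k ih =>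
    obtain ⟨d', e⟩ := ih
    exact ⟨_, by rw [pow_succ, e, monM_mul, ← pow_succ]⟩

/-- A monomial conjugate of a two-point torus element sends two axes into one coordinate plane. -/
theorem plane_of_mono {g gi : Mn} (h1 : g * gi = 1) (h2 : gi * g = 1) {z z' : Fin n} (hz : z ≠ z')
    {μ : F} (hμ : μ ≠ 0) (hμ2 : μ ^ 2 ≠ 1) (hμ3 : μ ^ 3 ≠ 1)
    (hmono : Mono (g * Matrix.diagonal (tor z z' μ) * gi)) :
    ∃ a b : Fin n, ∀ k, k ≠ a → k ≠ b → g k z = 0 ∧ g k z' = 0 := by
  classical
  set W := Submodule.span F (Set.range fun i : ({z, z'} : Finset (Fin n)) => g.col i)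
  have hW : finrank F W ≤ 2 := (finrank_span_cols g _).trans Finset.card_le_two
  have hmem : ∀ x, (g * Matrix.diagonal (tor z z' μ) * gi) *ᵥ x - x ∈ W := fun x =>
    conj_diag_mem h1 (fun i hi => by
      simp only [Finset.mem_insert, Finset.mem_singleton, not_or] at hi
      exact tor_other hi.1 hi.2 μ) x
  have hg : g.det * gi.det = 1 := by rw [← Matrix.det_mul, h1, Matrix.det_one]
  obtain ⟨σ, d, -, e⟩ := exists_monM hmono (by
    rw [Matrix.det_mul, Matrix.det_mul, mul_right_comm, hg, one_mul, Matrix.det_diagonal,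
      prod_tor hz hμ]
    exact one_ne_zero)
  have hmem' : ∀ x, monM σ d *ᵥ x - x ∈ W := fun x => e ▸ hmem x
  obtain ⟨I, hI, hIm⟩ := exists_moved_set W hmem'
  obtain ⟨M, hM, hMm, -⟩ := exists_supp W hmem'
  -- the permutation has order two or three
  obtain ⟨k, hk, hσk⟩ : ∃ k, (k = 2 ∨ k = 3) ∧ σ ^ k = 1 := by
    by_cases hsq : ∀ j, σ (σ j) = j
    · exact ⟨2, Or.inl rfl, Equiv.ext fun j => by rw [pow_two, Equiv.Perm.mul_apply]; exact hsq j⟩
    push Not at hsq
    obtain ⟨j, hj⟩ := hsq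
    have hj1 : σ j ≠ j := fun e => hj (by rw [e, e])
    have hj2 : σ (σ j) ≠ σ j := fun e => hj1 (σ.injective e)
    have hj3 : σ (σ (σ j)) = j := by
      by_contra h3
      have hj3' : σ (σ (σ j)) ≠ σ (σ j) := fun e => hj2 (σ.injective e)
      have hj13 : σ (σ (σ j)) ≠ σ j := fun e => hj (σ.injective e)
      set O : Finset (Fin n) := {j, σ j, σ (σ j), σ (σ (σ j))} with hO
      have hOc : O.card = 4 := by
        rw [hO]
        simp [Ne.symm hj1, Ne.symm hj, Ne.symm h3, Ne.symm hj2, Ne.symm hj13, Ne.symm hj3']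
      have hsame : ∀ x ∈ O, σ.SameCycle j x := by
        intro x hx
        simp only [hO, Finset.mem_insert, Finset.mem_singleton] at hx
        rcases hx with rfl | rfl | rfl | rfl
        · exact Equiv.Perm.SameCycle.refl _ _
        all_goals simp only [Equiv.Perm.sameCycle_apply_right]; exact Equiv.Perm.SameCycle.refl _ _
      have hmov : ∀ x ∈ O, σ x ≠ x := fun x hx e =>
        hj1 ((hsame x hx).apply_eq_self_iff.2 e)
      have hle : (O \ I).card ≤ 1 := by
        rw [Finset.card_le_one]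
        intro x hx y hy
        rw [Finset.mem_sdiff] at hx hy
        have h4 := ((hIm x (Or.inl (hmov x hx.1))).resolve_left hx.2).2
        have h5 := ((hIm y (Or.inl (hmov y hy.1))).resolve_left hy.2).2
        exact le_antisymm (h4 y ((hsame x hx.1).symm.trans (hsame y hy.1)))
          (h5 x ((hsame y hy.1).symm.trans (hsame x hx.1)))
      have := Finset.card_le_card_sdiff_add_card (s := O) (t := I)
      omega
    refine ⟨3, Or.inr rfl, Equiv.ext fun i => ?_⟩
    rw [pow_succ, pow_two, Equiv.Perm.mul_apply, Equiv.Perm.mul_apply, Equiv.Perm.one_apply]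
    by_contra hi
    have hi1 : σ i ≠ i := fun e => hi (by rw [e, e, e])
    have hne : ∀ x, σ (σ (σ x)) = x → i ≠ x := fun x hx e => hi (e ▸ hx)
    have a1 := hne j hj3
    have a2 := hne (σ j) (by rw [hj3])
    have a3 := hne (σ (σ j)) (by rw [hj3])
    have b1 : σ i ≠ j := fun e => a3 (σ.injective (by rw [e, hj3]))
    have b2 : σ i ≠ σ j := fun e => a1 (σ.injective e)
    have b3 : σ i ≠ σ (σ j) := fun e => a2 (σ.injective e)
    have hsub : ({j, σ j, σ (σ j), i, σ i} : Finset (Fin n)) ⊆ M := by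
      intro x hx
      simp only [Finset.mem_insert, Finset.mem_singleton] at hx
      rcases hx with rfl | rfl | rfl | rfl | rfl
      · exact hMm _ hj1
      · exact hMm _ hj2
      · exact hMm _ fun e => hj2 (σ.injective e)
      · exact hMm _ hi1
      · exact hMm _ fun e => hi1 (σ.injective e)
    have := Finset.card_le_card hsub
    simp [Ne.symm hj1, Ne.symm hj, Ne.symm hj2, Ne.symm a1, Ne.symm a2, Ne.symm a3,
      Ne.symm b1, Ne.symm b2, Ne.symm b3, Ne.symm hi1] at this
    omega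
  obtain ⟨d', hd'⟩ := exists_monM_pow σ d k
  rw [hσk] at hd'
  obtain ⟨M', hM', hM'm⟩ : ∃ M' : Finset (Fin n), M'.card ≤ 2 ∧ ∀ i, d' i ≠ 1 → i ∈ M' := by
    obtain ⟨I', hI', hIm'⟩ := exists_moved_set W (σ := 1) (d := d') fun x => by
      rw [← hd']; exact monM_pow_mulVec_mem W hmem' k x
    exact ⟨I', hI'.trans hW, fun i hi => (hIm' i (Or.inr hi)).resolve_right fun h => h.1 rfl⟩
  have eig : ∀ i, tor z z' μ i ^ k ≠ 1 → ∀ l, l ∉ M' → g l i = 0 := by
    intro i hi l hl
    have hpow : ∀ k : ℕ, (monM σ d ^ k) *ᵥ g.col i = tor z z' μ i ^ k • g.col i := fun k => by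
      induction k with
      | zero => rw [pow_zero, pow_zero, Matrix.one_mulVec, one_smul]
      | succ k ih =>
        rw [pow_succ, ← Matrix.mulVec_mulVec, ← e, conj_diag_eigen h2, Matrix.mulVec_smul, e, ih,
          smul_smul, pow_succ, mul_comm]
    have h3 := congrFun (hpow k) l
    rw [hd', monM_mulVec, Pi.smul_apply, smul_eq_mul, Matrix.col_apply] at h3
    have hdl : d' l = 1 := by_contra fun hh => hl (hM'm l hh)
    simp only [show ((1 : Equiv.Perm (Fin n)).symm l) = l from rfl, hdl, one_mul,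
      Matrix.col_apply] at h3
    have h4 : (tor z z' μ i ^ k - 1) * g l i = 0 := by linear_combination -h3
    exact (mul_eq_zero.1 h4).resolve_left (sub_ne_zero.2 hi)
  haveI : Nonempty (Fin n) := ⟨z⟩
  have hk1 : μ ^ k ≠ 1 := by rcases hk with rfl | rfl <;> assumption
  obtain ⟨a, b, hab⟩ : ∃ a b, M' ⊆ {a, b} := by
    rcases Nat.lt_or_ge M'.card 2 with h | h
    · rcases Finset.card_le_one_iff_subset_singleton.1 (Nat.le_of_lt_succ h) with ⟨x, hx⟩
      exact ⟨x, x, hx.trans (by simp)⟩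
    · obtain ⟨x, y, -, hxy⟩ := Finset.card_eq_two.1 (le_antisymm hM' h)
      exact ⟨x, y, hxy.le⟩
  refine ⟨a, b, fun l hla hlb => ?_⟩
  have hl : l ∉ M' := fun h => by simpa [hla, hlb] using hab h
  exact ⟨eig z (by rwa [tor_fst]) l hl, eig z' (by rwa [tor_snd hz, inv_pow, Ne, inv_eq_one]) l hl⟩

/-! ### Fixed lines -/

/-- The row of the inverse. -/
theorem inv_col_of_col {A B : Mn} (hAB : B * A = 1) {p : Fin n} (h : ∀ i, i ≠ p → A i p = 0) :
    B p p * A p p = 1 ∧ ∀ i, i ≠ p → B i p = 0 := by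
  have key : ∀ i, (B * A) i p = B i p * A p p := fun i => by
    rw [Matrix.mul_apply, Finset.sum_eq_single p (fun j _ hj => by rw [h j hj, mul_zero])
      (fun h' => absurd (Finset.mem_univ p) h')]
  have h1 : B p p * A p p = 1 := by rw [← key, hAB, Matrix.one_apply_eq]
  refine ⟨h1, fun i hi => ?_⟩
  have := key i
  rw [hAB, Matrix.one_apply_ne hi] at this
  exact (mul_eq_zero.1 this.symm).resolve_right (right_ne_zero_of_mul (h1.trans_ne one_ne_zero))

variable [Fintype F]

theorem exists_mu (hq : 5 ≤ Fintype.card F) : ∃ μ : F, μ ≠ 0 ∧ μ ^ 2 ≠ 1 ∧ μ ^ 3 ≠ 1 := by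
  classical
  obtain ⟨u, hu⟩ := IsCyclic.exists_generator (α := Fˣ)
  have ho : orderOf u = Fintype.card F - 1 := by
    rw [orderOf_eq_card_of_forall_mem_zpowers hu, Nat.card_eq_fintype_card, Fintype.card_units]
  refine ⟨u, u.ne_zero, fun h => ?_, fun h => ?_⟩
  · have := Nat.le_of_dvd (by norm_num) (orderOf_dvd_of_pow_eq_one (Units.ext (by simpa using h) : u ^ 2 = 1))
    omega
  · have := Nat.le_of_dvd (by norm_num) (orderOf_dvd_of_pow_eq_one (Units.ext (by simpa using h) : u ^ 3 = 1))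
    omega

/-- An element fixing a coordinate line which is not monomial gives everything. -/
theorem top_of_fix_line (hq : 5 ≤ Fintype.card F) (hN : HasMono K) (hn : 5 ≤ n) {A : Mn}
    (hA : In K A) {p : Fin n} (hcol : ∀ i, i ≠ p → A i p = 0) (hm : ¬ Mono A) : K = ⊤ := by
  classical
  obtain ⟨B, hB, hAB, hBA⟩ := hA.inverse
  obtain ⟨hpp, hBcol⟩ := inv_col_of_col hBA hcol
  obtain ⟨μ, hμ, hμ2, -⟩ := exists_mu hq
  have hμ1 : μ ≠ 1 := fun e => hμ2 (by rw [e, one_pow])
  by_cases hz : ∃ z a b, z ≠ p ∧ a ≠ b ∧ a ≠ p ∧ b ≠ p ∧ A a z ≠ 0 ∧ A b z ≠ 0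
  · obtain ⟨z, a, b, hzp, hab, hap, hbp, haz, hbz⟩ := hz
    set ρ : V := B z with hρ
    set c : V := (μ - 1) • (A.col z - A p z • Pi.single p 1) with hc
    set α : V := ((μ - 1) * A p z) • ρ + ((μ⁻¹ - 1) * A p p) • B p with hα
    have hρp : ρ p = 0 := hBcol z hzp
    have hs : ρ ⬝ᵥ c = μ - 1 := by
      have e1 : ρ ⬝ᵥ A.col z = 1 := by
        rw [← Matrix.one_apply_eq (α := F) z, ← hBA]; rfl
      rw [hc, dotProduct_smul, dotProduct_sub, e1, dotProduct_smul, dot_single_zero hρp, smul_zero,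
        sub_zero, smul_eq_mul, mul_one]
    have hL : Lift K p c ρ := by
      refine ⟨by simp [hc], hρp, α, ?_, ?_⟩
      · rw [hs, hα]
        simp only [Pi.add_apply, Pi.smul_apply, smul_eq_mul, hρp, mul_zero, zero_add]
        rw [mul_assoc, mul_comm (A p p), hpp, mul_one]
        field_simp
        ring
      · convert ((hA.mul (In.diagonal hN (tor z p μ) (prod_tor hzp hμ))).mul hB) using 1
        ext i j
        rw [Matrix.mul_apply]
        simp only [Matrix.mul_diagonal, Matrix.add_apply, vecMulVec_apply, rowP_apply]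
        have e1 : ∑ k, A i k * tor z p μ k * B k j =
            (1 : Mn) i j + ((μ - 1) * (A i z * B z j) + (μ⁻¹ - 1) * (A i p * B p j)) := by
          rw [← hAB, Matrix.mul_apply, ← sub_eq_iff_eq_add', ← Finset.sum_sub_distrib,
            Fintype.sum_eq_add z p hzp fun k hk => by rw [tor_other hk.1 hk.2]; ring]
          rw [tor_fst, tor_snd hzp]
          ring
        rw [e1]
        by_cases hi : i = p
        · subst hi
          simp [hc, hα, hρ]
          ring
        · simp [hc, hρ, hi, hcol i hi]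
          ring
    refine top_of_lift hq hN hn hL ?_ (by rwa [hs, add_sub_cancel]) hab ?_ ?_
    · intro e
      rw [e, zero_dotProduct] at hs
      exact hμ1 (sub_eq_zero.1 hs.symm)
    · simp [hc, hap, haz, sub_ne_zero.2 hμ1]
    · simp [hc, hbp, hbz, sub_ne_zero.2 hμ1]
  · push Not at hz
    have hex : ∀ z, z ≠ p → ∃ i, i ≠ p ∧ A i z ≠ 0 := by
      intro z hzp
      by_contra h
      push Not at h
      have e := congrFun (congrFun hBA z) z
      rw [Matrix.mul_apply, Finset.sum_eq_single p (fun k _ hk => by rw [h k hk, mul_zero])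
        (fun h' => absurd (Finset.mem_univ p) h'), hBcol z hzp, zero_mul, Matrix.one_apply_eq] at e
      exact zero_ne_one e
    choose f hf hfA using hex
    let f' : Fin n → Fin n := fun z => if hz : z = p then p else f z hz
    have hoff : ∀ z i, i ≠ p → i ≠ f' z → A i z = 0 := by
      intro z i hi hi'
      by_cases hzp : z = p
      · exact hzp ▸ hcol i hi
      · simp only [f', dif_neg hzp] at hi'
        exact hz z (f z hzp) i hzp (Ne.symm hi') (hf z hzp) hi (hfA z hzp)
    let M : Mn := Matrix.of fun i z => if i = f' z then A i z else 0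
    have hM : Mono M := fun z => ⟨f' z, fun k hk => by simp [M, hk]⟩
    let β : V := fun z => if z = p then 0 else A p z * (A p p)⁻¹
    have hβ : β p = 0 := if_pos rfl
    have hApp : A p p ≠ 0 := right_ne_zero_of_mul (hpp.trans_ne one_ne_zero)
    have hMp : M.col p = A p p • (Pi.single p 1 : V) := funext fun i => by
      by_cases hi : i = p
      · subst hi; simp [M, f', Matrix.col_apply]
      · simp [M, f', Matrix.col_apply, hi]
    have hAM : A = M * (1 + rowP p β) := by
      rw [mul_add, mul_one, rowP, mul_vecMulVec, Matrix.mulVec_single_one, hMp]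
      ext i z
      simp only [Matrix.add_apply, vecMulVec_apply, Pi.smul_apply, smul_eq_mul, Pi.single_apply]
      by_cases hzp : z = p
      · subst hzp
        by_cases hi : i = z
        · subst hi; simp [M, f', β]
        · simp [M, f', β, hi, hcol i hi]
      by_cases hi : i = p
      · subst hi
        have : i ≠ f' z := by simp only [f', dif_neg hzp]; exact Ne.symm (hf z hzp)
        simp [M, β, hzp, this]
        field_simp
      · by_cases hi' : i = f' z
        · subst hi'; simp [M, hi]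
        · simp [M, hi', hi, hoff z i hi hi']
    have hdetM : M.det = 1 := by
      have h := hA.det
      rw [hAM, Matrix.det_mul, rowP] at h
      rwa [show (1 + vecMulVec (Pi.single p 1 : V) β).det = 1 by
        rw [vecMulVec_eq Unit, Matrix.det_one_add_replicateCol_mul_replicateRow, dotProduct_single,
          hβ, zero_mul, add_zero], mul_one] at h
    have hMK : In K M := ⟨⟨M, hdetM⟩, hN _ hM, rfl⟩
    obtain ⟨Mi, hMi, -, hMi1⟩ := hMK.inverse
    have h2 := hMi.mul hA
    rw [hAM, ← mul_assoc, hMi1, one_mul] at h2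
    refine top_of_shaped hq hN hn (shaped_rowP hβ) (fun e => hm ?_) h2
    rw [hAM, e, add_zero, mul_one]
    exact hM

theorem top_of_fixes (hq : 5 ≤ Fintype.card F) (hN : HasMono K) (hn : 5 ≤ n) {A : Mn}
    (hA : In K A) {p j : Fin n} (hcol : ∀ i, i ≠ j → A i p = 0) (hm : ¬ Mono A) : K = ⊤ := by
  classical
  by_cases hjp : j = p
  · exact top_of_fix_line hq hN hn hA (hjp ▸ hcol) hm
  let σ := Equiv.swap j p
  let e : V := fun i => if i = j then -1 else 1
  have hp : ((Equiv.Perm.sign σ : ℤ) : F) * ∏ i, e i = 1 := by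
    rw [Equiv.Perm.sign_swap hjp, Fintype.prod_eq_single j (fun i hi => if_neg hi)]
    simp [e]
  have hM := In.monM hN σ e hp
  refine top_of_fix_line hq hN hn (hM.mul hA) (p := p) (fun i hi => ?_) fun h => hm ?_
  · show (Monomial.monM σ e *ᵥ A.col p) i = 0
    rw [monM_mulVec, Matrix.col_apply, hcol _ (fun h => hi ?_), mul_zero]
    rw [← σ.apply_symm_apply i, h]
    exact Equiv.swap_apply_left j p
  · obtain ⟨Mi, -, hm1, hm2⟩ := hM.inverse
    have := (mono_inverse (mono_monM σ e) hm1).mul h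
    rwa [← mul_assoc, hm2, one_mul] at this

/-- Three zeros in a column of the inverse. -/
theorem mono_of_three (hq : 5 ≤ Fintype.card F) (hN : HasMono K) (hn : 5 ≤ n) (hK : K ≠ ⊤)
    {g gi : Mn} (hg : In K g) (hgi : In K gi) (h1 : g * gi = 1) (h2 : gi * g = 1) {p : Fin n}
    {Z : Finset (Fin n)} (hZ : ∀ z ∈ Z, gi z p = 0) (hc : 3 ≤ Z.card) : Mono g := by
  classical
  by_contra hm
  obtain ⟨μ, hμ, hμ2, hμ3⟩ := exists_mu hq
  have plane : ∀ z ∈ Z, ∀ z' ∈ Z, z ≠ z' → ∃ a b, ∀ k, k ≠ a → k ≠ b → g k z = 0 ∧ g k z' = 0 := by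
    intro z hz z' hz' hne
    refine plane_of_mono h1 h2 hne hμ hμ2 hμ3 (by_contra fun hu => hK ?_)
    refine top_of_fix_line hq hN hn ((hg.mul (In.diagonal hN _ (prod_tor hne hμ))).mul hgi)
      (p := p) (fun i hi => ?_) hu
    rw [← Matrix.one_apply_ne (α := F) hi, ← h1, Matrix.mul_apply, Matrix.mul_apply]
    refine Finset.sum_congr rfl fun k _ => ?_
    rw [Matrix.mul_diagonal]
    by_cases hk : k = z
    · rw [hk, hZ z hz, mul_zero, mul_zero]
    by_cases hk' : k = z'
    · rw [hk', hZ z' hz', mul_zero, mul_zero]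
    · rw [tor_other hk hk', mul_one]
  obtain ⟨z₁, hz₁, z₂, hz₂, z₃, hz₃, h12, h13, h23⟩ := Finset.two_lt_card.1 hc
  obtain ⟨a, b, hab⟩ := plane z₁ hz₁ z₂ hz₂ h12
  obtain ⟨a', b', hab'⟩ := plane z₁ hz₁ z₃ hz₃ h13
  obtain ⟨a'', b'', hab''⟩ := plane z₂ hz₂ z₃ hz₃ h23
  -- the three columns are not in one plane
  by_cases hone : ∃ j, ∀ i, i ≠ j → g i z₁ = 0
  · obtain ⟨j, hj⟩ := hone
    exact hK (top_of_fixes hq hN hn hg hj hm)
  push Not at hone
  obtain ⟨i₁, hi₁', hi₁⟩ := hone a
  obtain ⟨i₂, hi₂', hi₂⟩ := hone b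
  have e1 : i₁ = b := by_contra fun h => hi₁ (hab i₁ hi₁' h).1
  have e2 : i₂ = a := by_contra fun h => hi₂ (hab i₂ h hi₂').1
  rw [e1] at hi₁ hi₁'
  rw [e2] at hi₂
  have hb' : b = a' ∨ b = b' := by_contra fun h => by
    push Not at h; exact hi₁ (hab' b h.1 h.2).1
  have ha' : a = a' ∨ a = b' := by_contra fun h => by
    push Not at h; exact hi₂ (hab' a h.1 h.2).1
  have h3 : ∀ k, k ≠ a → k ≠ b → g k z₁ = 0 ∧ g k z₂ = 0 ∧ g k z₃ = 0 := by
    intro k hka hkb
    refine ⟨(hab k hka hkb).1, (hab k hka hkb).2, (hab' k ?_ ?_).2⟩ <;> intro e <;> grind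
  let W := Submodule.span F (Set.range ![(Pi.single a 1 : V), Pi.single b 1])
  have hW : finrank F W ≤ 2 := (finrank_range_le_card _).trans (by simp)
  have hin : ∀ z : ({z₁, z₂, z₃} : Finset (Fin n)), g.col z ∈ W := by
    rintro ⟨z, hz⟩
    have hzero : ∀ k, k ≠ a → k ≠ b → g k z = 0 := fun k hka hkb => by
      obtain ⟨u1, u2, u3⟩ := h3 k hka hkb
      simp only [Finset.mem_insert, Finset.mem_singleton] at hz
      rcases hz with rfl | rfl | rfl <;> assumption
    rw [show g.col z = g a z • (Pi.single a 1 : V) + g b z • Pi.single b 1 from funext fun k => by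
      simp only [Matrix.col_apply, Pi.add_apply, Pi.smul_apply, smul_eq_mul, Pi.single_apply]
      by_cases hka : k = a
      · subst hka; simp [Ne.symm hi₁']
      by_cases hkb : k = b
      · subst hkb; simp [hi₁']
      · simp [hka, hkb, hzero k hka hkb]]
    exact add_mem (Submodule.smul_mem _ _ (Submodule.subset_span ⟨0, rfl⟩))
      (Submodule.smul_mem _ _ (Submodule.subset_span ⟨1, rfl⟩))
  have hli : LinearIndependent F fun z : ({z₁, z₂, z₃} : Finset (Fin n)) => (⟨_, hin z⟩ : W) := by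
    refine LinearIndependent.of_comp W.subtype ?_
    exact (Matrix.linearIndependent_cols_of_isUnit ⟨⟨g, gi, h1, h2⟩, rfl⟩).comp Subtype.val
      Subtype.val_injective
  have := hli.fintype_card_le_finrank
  rw [Fintype.card_coe, Finset.card_insert_of_notMem (by simp [h12, h13]),
    Finset.card_pair h23] at this
  omega

/-- Two zeros in a column of the inverse. -/
theorem mono_of_two (hq : 5 ≤ Fintype.card F) (hN : HasMono K) (hn : 5 ≤ n) (hK : K ≠ ⊤)
    {g gi : Mn} (hg : In K g) (hgi : In K gi) (h1 : g * gi = 1) (h2 : gi * g = 1) {p z z' : Fin n}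
    (hne : z ≠ z') (hz : gi z p = 0) (hz' : gi z' p = 0) : Mono g := by
  classical
  by_contra hm
  obtain ⟨μ, hμ, hμ2, hμ3⟩ := exists_mu hq
  obtain ⟨a, b, hab⟩ : ∃ a b, ∀ k, k ≠ a → k ≠ b → g k z = 0 ∧ g k z' = 0 := by
    refine plane_of_mono h1 h2 hne hμ hμ2 hμ3 (by_contra fun hu => hK ?_)
    refine top_of_fix_line hq hN hn ((hg.mul (In.diagonal hN _ (prod_tor hne hμ))).mul hgi)
      (p := p) (fun i hi => ?_) hu
    rw [← Matrix.one_apply_ne (α := F) hi, ← h1, Matrix.mul_apply, Matrix.mul_apply]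
    refine Finset.sum_congr rfl fun k _ => ?_
    rw [Matrix.mul_diagonal]
    by_cases hk : k = z
    · rw [hk, hz, mul_zero, mul_zero]
    by_cases hk' : k = z'
    · rw [hk', hz', mul_zero, mul_zero]
    · rw [tor_other hk hk', mul_one]
  refine hm (mono_of_three hq hN hn hK hg hgi h1 h2 (p := a)
    (Z := Finset.univ \ {z, z'}) (fun x hx => ?_) ?_)
  · simp only [Finset.mem_sdiff, Finset.mem_univ, true_and, Finset.mem_insert, Finset.mem_singleton,
      not_or] at hx
    have e1 : gi x a * g a z + (if a = b then 0 else gi x b * g b z) = 0 := by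
      refine Eq.trans ?_ ((congrFun (congrFun h2 x) z).trans (Matrix.one_apply_ne hx.1))
      rw [Matrix.mul_apply]
      split_ifs with hab'
      · rw [add_zero, Finset.sum_eq_single a (fun k _ hk => by
          rw [(hab k hk (hab' ▸ hk)).1, mul_zero]) (fun h => absurd (Finset.mem_univ a) h)]
      · rw [Fintype.sum_eq_add a b hab' fun k hk => by rw [(hab k hk.1 hk.2).1, mul_zero]]
    have e2 : gi x a * g a z' + (if a = b then 0 else gi x b * g b z') = 0 := by
      refine Eq.trans ?_ ((congrFun (congrFun h2 x) z').trans (Matrix.one_apply_ne hx.2))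
      rw [Matrix.mul_apply]
      split_ifs with hab'
      · rw [add_zero, Finset.sum_eq_single a (fun k _ hk => by
          rw [(hab k hk (hab' ▸ hk)).2, mul_zero]) (fun h => absurd (Finset.mem_univ a) h)]
      · rw [Fintype.sum_eq_add a b hab' fun k hk => by rw [(hab k hk.1 hk.2).2, mul_zero]]
    by_cases hab' : a = b
    · rw [if_pos hab', add_zero] at e1
      refine (mul_eq_zero.1 e1).resolve_right fun h0 => ?_
      have := Matrix.det_eq_zero_of_column_eq_zero z (A := g) fun k => by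
        by_cases hk : k = a
        · rw [hk, h0]
        · exact (hab k hk (hab' ▸ hk)).1
      rw [hg.det] at this
      exact one_ne_zero this
    rw [if_neg hab'] at e1 e2
    have hdet : g a z * g b z' - g a z' * g b z ≠ 0 := by
      intro h0
      have hli := (Matrix.linearIndependent_cols_of_isUnit (A := g) ⟨⟨g, gi, h1, h2⟩, rfl⟩).comp
        ![z, z'] (by
          intro i j; fin_cases i <;> fin_cases j <;> simp [hne, Ne.symm hne])
      rw [Fintype.linearIndependent_iff] at hli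
      have hrel : ∀ k, g k z * g b z' - g k z' * g b z = 0 ∧ g k z * g a z' - g k z' * g a z = 0 := by
        intro k
        by_cases hka : k = a
        · subst hka; exact ⟨h0, by ring⟩
        by_cases hkb : k = b
        · subst hkb; exact ⟨by ring, by linear_combination -h0⟩
        · obtain ⟨u1, u2⟩ := hab k hka hkb
          simp [u1, u2]
      have hb := hli ![g b z', -g b z] (by
        funext k; simp [Fin.sum_univ_two, Matrix.col_apply]; linear_combination (hrel k).1)
      have ha := hli ![g a z', -g a z] (by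
        funext k; simp [Fin.sum_univ_two, Matrix.col_apply]; linear_combination (hrel k).2)
      have := Matrix.det_eq_zero_of_column_eq_zero z (A := g) fun k => by
        by_cases hka : k = a
        · subst hka; simpa using ha 1
        by_cases hkb : k = b
        · subst hkb; simpa using hb 1
        · exact (hab k hka hkb).1
      rw [hg.det] at this
      exact one_ne_zero this
    refine (mul_eq_zero.1 (?_ : _ * gi x a = 0)).resolve_left hdet
    linear_combination g b z' * e1 - g b z * e2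
  · rw [Finset.card_univ_diff, Fintype.card_fin]
    have : ({z, z'} : Finset (Fin n)).card ≤ 2 := Finset.card_le_two
    omega

/-- A non-monomial member has at most one zero in each column. -/
theorem col_zero_le (hq : 5 ≤ Fintype.card F) (hN : HasMono K) (hn : 5 ≤ n) (hK : K ≠ ⊤) {A : Mn}
    (hA : In K A) (hm : ¬ Mono A) {p z z' : Fin n} (hne : z ≠ z') (hz : A z p = 0)
    (hz' : A z' p = 0) : False := by
  obtain ⟨B, hB, hAB, hBA⟩ := hA.inverse
  exact hm (mono_inverse (mono_of_two hq hN hn hK hB hA hBA hAB hne hz hz') hBA)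

/-- A column of a non-monomial member is not supported on few points. -/
theorem col_dense (hq : 5 ≤ Fintype.card F) (hN : HasMono K) (hn : 5 ≤ n) (hK : K ≠ ⊤) {A : Mn}
    (hA : In K A) (hm : ¬ Mono A) (p : Fin n) (M : Finset (Fin n)) (hM : M.card + 2 ≤ n) :
    ∃ k ∉ M, A k p ≠ 0 := by
  classical
  by_contra h
  push Not at h
  obtain ⟨z, hz⟩ := exists_fresh M (by omega)
  obtain ⟨z', hz'⟩ := exists_fresh (insert z M)
    (lt_of_le_of_lt (Finset.card_insert_le _ _) (by omega))
  simp only [Finset.mem_insert, not_or] at hz'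
  exact col_zero_le hq hN hn hK hA hm (Ne.symm hz'.1) (h z hz) (h z' hz'.2)

/-- Some non-monomial member has an inverse with a zero. -/
theorem exists_zero (hq : 5 ≤ Fintype.card F) (hN : HasMono K) (hn : 5 ≤ n) (hK : K ≠ ⊤) {g₀ : Mn}
    (hg₀ : In K g₀) (hm₀ : ¬ Mono g₀) : ∃ g gi, In K g ∧ In K gi ∧ g * gi = 1 ∧
      gi * g = 1 ∧ ¬ Mono g ∧ ∃ p z₀, gi z₀ p = 0 := by
  classical
  obtain ⟨B, hB, hAB, hBA⟩ := hg₀.inverse
  by_cases hA0 : ∃ k p, g₀ k p = 0
  · obtain ⟨k, p, h⟩ := hA0
    exact ⟨B, g₀, hB, hg₀, hBA, hAB, fun h' => hm₀ (mono_inverse h' hBA), p, k, h⟩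
  by_cases hB0 : ∃ k p, B k p = 0
  · obtain ⟨k, p, h⟩ := hB0
    exact ⟨g₀, B, hg₀, hB, hAB, hBA, hm₀, p, k, h⟩
  push Not at hA0 hB0
  let p : Fin n := ⟨0, by omega⟩
  obtain ⟨k, a, b, hkp, hab⟩ : ∃ k a b, k ≠ p ∧ g₀ k a * B a p ≠ g₀ k b * B b p := by
    by_contra h
    push Not at h
    let k₁ : Fin n := ⟨1, by omega⟩
    let k₂ : Fin n := ⟨2, by omega⟩
    let a : Fin n := ⟨0, by omega⟩
    have hrows := (Matrix.linearIndependent_rows_of_isUnit (A := g₀)
      ⟨⟨g₀, B, hAB, hBA⟩, rfl⟩).comp ![k₁, k₂] (by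
        intro i j; fin_cases i <;> fin_cases j <;> simp [k₁, k₂, Fin.ext_iff])
    rw [Fintype.linearIndependent_iff] at hrows
    have := hrows ![g₀ k₂ a, -g₀ k₁ a] (by
      funext i
      rw [Finset.sum_apply, Fin.sum_univ_two]
      show g₀ k₂ a * g₀ k₁ i + -(g₀ k₁ a) * g₀ k₂ i = 0
      have e1 := h k₁ i a (by simp [k₁, p, Fin.ext_iff])
      have e2 := h k₂ i a (by simp [k₂, p, Fin.ext_iff])
      refine mul_right_cancel₀ (hB0 i p) ?_
      rw [zero_mul]
      linear_combination g₀ k₂ a * e1 - g₀ k₁ a * e2) 0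
    exact hA0 k₂ a (by simpa using this)
  have hne : a ≠ b := fun e => hab (e ▸ rfl)
  set μ := g₀ k b * B b p * (g₀ k a * B a p)⁻¹ with hμ
  have hμ0 : μ ≠ 0 :=
    mul_ne_zero (mul_ne_zero (hA0 _ _) (hB0 _ _)) (inv_ne_zero (mul_ne_zero (hA0 _ _) (hB0 _ _)))
  have hwa : g₀ k a * B a p ≠ 0 := mul_ne_zero (hA0 _ _) (hB0 _ _)
  have hμ1 : μ ≠ 1 := fun e => hab (by
    rw [hμ, ← div_eq_mul_inv, div_eq_one_iff_eq hwa] at e; exact e.symm)
  set D := Matrix.diagonal (tor a b μ)
  have hD := In.diagonal hN _ (prod_tor hne hμ0)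
  have hDi := In.diagonal hN _ (prod_tor hne (inv_ne_zero hμ0))
  have hDD : D * Matrix.diagonal (tor a b μ⁻¹) = 1 ∧ Matrix.diagonal (tor a b μ⁻¹) * D = 1 := by
    rw [Matrix.diagonal_mul_diagonal, Matrix.diagonal_mul_diagonal, ← Matrix.diagonal_one]
    constructor <;> congr 1 <;> funext i <;> unfold tor <;> split_ifs <;> field_simp
  set x := g₀ * D * B
  set xi := g₀ * Matrix.diagonal (tor a b μ⁻¹) * B
  have hx : In K x := (hg₀.mul hD).mul hB
  have hxi : In K xi := (hg₀.mul hDi).mul hB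
  have e1 : x * xi = 1 := by
    show g₀ * D * B * (g₀ * Matrix.diagonal (tor a b μ⁻¹) * B) = 1
    rw [show g₀ * D * B * (g₀ * Matrix.diagonal (tor a b μ⁻¹) * B) =
      g₀ * D * (B * g₀) * Matrix.diagonal (tor a b μ⁻¹) * B by simp only [mul_assoc], hBA, mul_one,
      mul_assoc g₀, hDD.1, mul_one, hAB]
  have e2 : xi * x = 1 := by
    show g₀ * Matrix.diagonal (tor a b μ⁻¹) * B * (g₀ * D * B) = 1
    rw [show g₀ * Matrix.diagonal (tor a b μ⁻¹) * B * (g₀ * D * B) =
      g₀ * Matrix.diagonal (tor a b μ⁻¹) * (B * g₀) * D * B by simp only [mul_assoc], hBA, mul_one,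
      mul_assoc g₀, hDD.2, mul_one, hAB]
  refine ⟨xi, x, hxi, hx, e2, e1, fun hmx => ?_, p, k, ?_⟩
  · obtain ⟨M, hM, hMs⟩ := supp_le hAB hBA (D := tor a b μ⁻¹) (T := {a, b})
      (fun i => by unfold tor; split_ifs <;> simp [hμ0]) (fun i hi => by
        simp only [Finset.mem_insert, Finset.mem_singleton, not_or] at hi
        exact tor_other hi.1 hi.2 _) hmx
    have : ({a, b} : Finset (Fin n)).card ≤ 2 := Finset.card_le_two
    obtain ⟨l, hl⟩ := exists_fresh M (by omega)
    exact hA0 l a (hMs a (by rw [tor_fst]; exact fun e => hμ1 (inv_eq_one.1 e)) l hl)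
  · show (g₀ * D * B) k p = 0
    rw [Matrix.mul_apply]
    simp only [D, Matrix.mul_diagonal]
    have e0 : ∑ i, g₀ k i * B i p = 0 := by
      rw [← Matrix.mul_apply, hAB, Matrix.one_apply_ne hkp]
    rw [← sub_zero (∑ i, g₀ k i * tor a b μ i * B i p)]
    conv_lhs => arg 2; rw [← e0]
    rw [← Finset.sum_sub_distrib,
      Fintype.sum_eq_add a b hne fun i hi => by rw [tor_other hi.1 hi.2]; ring,
      tor_fst, tor_snd hne, hμ]
    have hwb : g₀ k b ≠ 0 ∧ B b p ≠ 0 := ⟨hA0 _ _, hB0 _ _⟩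
    have hwa' : g₀ k a ≠ 0 ∧ B a p ≠ 0 := ⟨hA0 _ _, hB0 _ _⟩
    field_simp [hwb.1, hwb.2, hwa'.1, hwa'.2]
    ring

/-- **The monomial group is maximal.** -/
theorem top_of_not_mono (hq : 5 ≤ Fintype.card F) (hN : HasMono K) (hn : 10 ≤ n) {g₀ : Mn}
    (hg₀ : In K g₀) (hm₀ : ¬ Mono g₀) : K = ⊤ := by
  classical
  by_contra hK
  -- a non-monomial member has at most one zero in each column
  have good : ∀ {A : Mn}, In K A → ¬ Mono A → ∀ p z z', z ≠ z' → A z p = 0 → A z' p = 0 → False :=
    fun hA hm _ _ _ hne hz hz' => col_zero_le hq hN (by omega) hK hA hm hne hz hz'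
  have dense : ∀ {A : Mn}, In K A → ¬ Mono A → ∀ p, ∀ M : Finset (Fin n), M.card + 2 ≤ n →
      ∃ k ∉ M, A k p ≠ 0 := fun hA hm => col_dense hq hN (by omega) hK hA hm
  obtain ⟨g, gi, hg, hgi, h1, h2, hm, p, z₀, hz₀⟩ := exists_zero hq hN (by omega) hK hg₀ hm₀
  -- sparse rows
  have hgim : ¬ Mono gi := fun h => hm (mono_inverse h h2)
  have rows : ∀ {A : Mn}, In K A → ¬ Mono A → ∀ i i' : Fin n, i ≠ i' → ∀ S S' : Finset (Fin n),
      S.card + S'.card < n → (∀ j ∉ S, A i j = 0) → (∀ j ∉ S', A i' j = 0) → False := by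
    intro A hA hm i i' hne S S' hc hS hS'
    obtain ⟨j, hj⟩ := exists_fresh (S ∪ S') (lt_of_le_of_lt (Finset.card_union_le _ _) hc)
    simp only [Finset.mem_union, not_or] at hj
    exact good hA hm j i i' hne (hS j hj.1) (hS' j hj.2)
  let Sparse : Mn → ℕ → Fin n → Prop := fun A r i => ∃ S : Finset (Fin n), S.card ≤ r ∧
    ∀ j ∉ S, A i j = 0
  obtain ⟨U, hU, hUp, hUg, hUi⟩ : ∃ U : Finset (Fin n), U.card ≤ 4 ∧ p ∈ U ∧
      (∀ i, Sparse g 4 i → i ∈ U) ∧ (∀ i, Sparse gi 2 i → ∀ j ∉ U, gi i j = 0) := by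
    obtain ⟨G, hG, hGs⟩ : ∃ G : Finset (Fin n), G.card ≤ 1 ∧ ∀ i, Sparse g 4 i → i ∈ G := by
      by_cases h : ∃ i, Sparse g 4 i
      · obtain ⟨i, S, hS, hSi⟩ := h
        refine ⟨{i}, by simp, fun i' ⟨S', hS', hSi'⟩ => ?_⟩
        by_contra hne
        exact rows hg hm i i' (fun e => hne (by simp [e])) S S' (by omega) hSi hSi'
      · exact ⟨∅, by simp, fun i hi => absurd ⟨i, hi⟩ h⟩
    obtain ⟨H, hH, hHs⟩ : ∃ H : Finset (Fin n), H.card ≤ 2 ∧
        ∀ i, Sparse gi 2 i → ∀ j ∉ H, gi i j = 0 := by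
      by_cases h : ∃ i, Sparse gi 2 i
      · obtain ⟨i, S, hS, hSi⟩ := h
        refine ⟨S, hS, fun i' ⟨S', hS', hSi'⟩ => ?_⟩
        by_cases hne : i = i'
        · subst hne; exact hSi
        · exact (rows hgi hgim i i' hne S S' (by omega) hSi hSi').elim
      · exact ⟨∅, by simp, fun i hi => absurd ⟨i, hi⟩ h⟩
    refine ⟨insert p (G ∪ H), ?_, Finset.mem_insert_self _ _,
      fun i hi => Finset.mem_insert_of_mem (Finset.mem_union_left _ (hGs i hi)),
      fun i hi j hj => hHs i hi j fun h =>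
        hj (Finset.mem_insert_of_mem (Finset.mem_union_right _ h))⟩
    have := Finset.card_insert_le p (G ∪ H)
    have := Finset.card_union_le G H
    omega
  obtain ⟨k, hk⟩ := exists_fresh U (by omega)
  obtain ⟨l, hl⟩ := exists_fresh (insert k U)
    (lt_of_le_of_lt (Finset.card_insert_le _ _) (by omega))
  simp only [Finset.mem_insert, not_or] at hl
  obtain ⟨hlk, hlU⟩ := hl
  set φ : F → F → V := fun a b i => a * g k i + b * g l i with hφ
  have single : ∀ a b, (a ≠ 0 ∨ b ≠ 0) → ∀ i, (∀ j, j ≠ i → φ a b j = 0) → False := by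
    intro a b hab i hi
    have e : ∀ j, φ a b i * gi i j = a * (1 : Mn) k j + b * (1 : Mn) l j := by
      intro j
      rw [← h1, Matrix.mul_apply, Matrix.mul_apply, Finset.mul_sum, Finset.mul_sum,
        ← Finset.sum_add_distrib, Finset.sum_eq_single i]
      · simp only [hφ]; ring
      · intro x _ hx
        have := hi x hx
        simp only [hφ] at this
        linear_combination gi x j * this
      · exact fun h => absurd (Finset.mem_univ i) h
    have hi0 : φ a b i ≠ 0 := by
      intro h0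
      have ek := e k
      have el := e l
      rw [h0, zero_mul] at ek el
      simp [hlk, Ne.symm hlk] at ek el
      exact hab.elim (fun h => h ek.symm) fun h => h el.symm
    have hsp : Sparse gi 2 i := ⟨{k, l}, Finset.card_le_two, fun j hj => by
      simp only [Finset.mem_insert, Finset.mem_singleton, not_or] at hj
      have := e j
      rw [Matrix.one_apply_ne (Ne.symm hj.1), Matrix.one_apply_ne (Ne.symm hj.2), mul_zero,
        mul_zero, add_zero] at this
      exact (mul_eq_zero.1 this).resolve_left hi0⟩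
    have ek := e k
    have el := e l
    rw [hUi i hsp k hk, mul_zero] at ek
    rw [hUi i hsp l hlU, mul_zero] at el
    simp [hlk, Ne.symm hlk] at ek el
    exact hab.elim (fun h => h ek.symm) fun h => h el.symm
  -- the position of the zero
  obtain ⟨z', hz'⟩ : ∃ z', ∀ a b, (a ≠ 0 ∨ b ≠ 0) → ∀ i, ¬ ∀ j, j ≠ i → j ≠ z' → φ a b j = 0 := by
    by_cases h : ∃ a b, (a ≠ 0 ∨ b ≠ 0) ∧ ∃ S : Finset (Fin n), S.card ≤ 2 ∧ ∀ j ∉ S, φ a b j = 0
    · obtain ⟨a₀, b₀, hab₀, S, hS, hS0⟩ := h
      obtain ⟨z', hz'⟩ := exists_fresh S (by omega)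
      refine ⟨z', fun a b hab i hi => ?_⟩
      by_cases hdet : a₀ * b - a * b₀ = 0
      · -- proportional
        refine single a b hab i fun j hj => ?_
        by_cases hjz : j = z'
        · subst hjz
          have h0 := hS0 j hz'
          simp only [hφ] at h0 ⊢
          rcases hab₀ with ha | hb
          · refine mul_left_cancel₀ ha ?_
            linear_combination g l j * hdet + a * h0
          · refine mul_left_cancel₀ hb ?_
            linear_combination -g k j * hdet + b * h0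
        · exact hi j hj hjz
      · refine hk (hUg k ⟨S ∪ {i, z'}, ?_, fun j hj => ?_⟩)
        · have := Finset.card_union_le S {i, z'}
          have : ({i, z'} : Finset (Fin n)).card ≤ 2 := Finset.card_le_two
          omega
        · simp only [Finset.mem_union, Finset.mem_insert, Finset.mem_singleton, not_or] at hj
          have h0 := hS0 j hj.1
          have h3 := hi j hj.2.1 hj.2.2
          simp only [hφ] at h0 h3
          refine (mul_eq_zero.1 (?_ : (a₀ * b - a * b₀) * g k j = 0)).resolve_left hdet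
          linear_combination b * h0 - b₀ * h3
    · refine ⟨p, fun a b hab i hi => h ⟨a, b, hab, {i, p}, Finset.card_le_two, fun j hj => ?_⟩⟩
      simp only [Finset.mem_insert, Finset.mem_singleton, not_or] at hj
      exact hi j hj.1 hj.2
  obtain ⟨i, hiz, hki⟩ : ∃ i, i ≠ z' ∧ g k i ≠ 0 := by
    by_contra h
    push Not at h
    exact hz' 1 0 (Or.inl one_ne_zero) z' fun j hj _ => by simp [hφ, h j hj]
  obtain ⟨j, hjz, hdet⟩ : ∃ j, j ≠ z' ∧ g k i * g l j - g k j * g l i ≠ 0 := by
    by_contra h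
    push Not at h
    exact hz' (-g l i) (g k i) (Or.inr hki) z' fun j hj _ => by
      simp only [hφ]; linear_combination h j hj
  have hij : i ≠ j := fun e => hdet (by rw [e, sub_self])
  set D₀ := g k i * g l j - g k j * g l i with hD₀
  set A₀ : V := fun c => if c = i ∨ c = j ∨ c = z' then 0 else g l j * g k c - g k j * g l c with hA₀
  set B₀ : V := fun c => if c = i ∨ c = j ∨ c = z' then 0 else g k i * g l c - g l i * g k c with hB₀
  obtain ⟨c₀, hc₀⟩ : ∃ c, A₀ c ≠ 0 := by
    by_contra h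
    push Not at h
    refine hz' (g l j) (-g k j) ?_ i fun c hci hcz => ?_
    · by_contra h'; push Not at h'
      exact hdet (by rw [hD₀, h'.1, neg_eq_zero.1 h'.2]; ring)
    · simp only [hφ]
      by_cases hcj : c = j
      · rw [hcj]; ring
      · have := h c
        simp [hA₀, hci, hcz, hcj] at this
        linear_combination this
  obtain ⟨c₁, hc₁⟩ : ∃ c, B₀ c ≠ 0 := by
    by_contra h
    push Not at h
    refine hz' (-g l i) (g k i) (Or.inr hki) j fun c hcj hcz => ?_
    simp only [hφ]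
    by_cases hci : c = i
    · rw [hci]; ring
    · have := h c
      simp [hB₀, hci, hcz, hcj] at this
      linear_combination this
  have hc₀' : c₀ ≠ i ∧ c₀ ≠ j ∧ c₀ ≠ z' := by
    refine ⟨fun e => hc₀ ?_, fun e => hc₀ ?_, fun e => hc₀ ?_⟩ <;> simp [hA₀, e]
  -- values on the free coordinates
  obtain ⟨u₀, hu₀, t₁, t₂, ht, hv⟩ : ∃ u₀ : V, (∀ c, u₀ c ≠ 0) ∧ ∃ t₁ t₂ : F, t₁ ≠ t₂ ∧
      ∀ t ∈ ({t₁, t₂} : Finset F), t ≠ 0 ∧ A₀ ⬝ᵥ Function.update u₀ c₀ t ≠ 0 ∧
        B₀ ⬝ᵥ Function.update u₀ c₀ t ≠ 0 := by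
    have upd : ∀ (X u : V) (c : Fin n) (t : F),
        X ⬝ᵥ Function.update u c t = X ⬝ᵥ u + X c * (t - u c) := by
      intro X u c t
      rw [show Function.update u c t = u + Pi.single c (t - u c) from funext fun x => by
        by_cases hx : x = c
        · subst hx; simp
        · simp [hx], dotProduct_add, dotProduct_single]
    obtain ⟨u₀, hu₀, hBu⟩ : ∃ u₀ : V, (∀ c, u₀ c ≠ 0) ∧ (B₀ c₀ = 0 → B₀ ⬝ᵥ u₀ ≠ 0) := by
      obtain ⟨t, ht⟩ := exists_avoid hq {0, 1 - (B₀ ⬝ᵥ (1 : V)) * (B₀ c₁)⁻¹}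
        (Finset.card_le_two.trans (by omega))
      simp only [Finset.mem_insert, Finset.mem_singleton, not_or] at ht
      refine ⟨Function.update 1 c₁ t, fun c => ?_, fun _ h => ht.2 ?_⟩
      · by_cases hc : c = c₁ <;> simp [hc, ht.1]
      · rw [upd, Pi.one_apply] at h
        field_simp
        linear_combination h
    set rA := u₀ c₀ - (A₀ ⬝ᵥ u₀) * (A₀ c₀)⁻¹
    set rB := u₀ c₀ - (B₀ ⬝ᵥ u₀) * (B₀ c₀)⁻¹
    obtain ⟨t₁, ht₁⟩ := exists_avoid hq {0, rA, rB} (Finset.card_le_three.trans (by omega))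
    obtain ⟨t₂, ht₂⟩ := exists_avoid hq {0, rA, rB, t₁} Finset.card_le_four
    simp only [Finset.mem_insert, Finset.mem_singleton, not_or] at ht₁ ht₂
    refine ⟨u₀, hu₀, t₁, t₂, Ne.symm ht₂.2.2.2, fun t ht => ?_⟩
    obtain ⟨ht0, htA, htB⟩ : t ≠ 0 ∧ t ≠ rA ∧ t ≠ rB := by
      simp only [Finset.mem_insert, Finset.mem_singleton] at ht
      rcases ht with rfl | rfl
      · exact ht₁
      · exact ⟨ht₂.1, ht₂.2.1, ht₂.2.2.1⟩
    refine ⟨ht0, fun h => htA ?_, fun h => ?_⟩
    · rw [upd] at h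
      simp only [rA]
      field_simp
      linear_combination h
    · rw [upd] at h
      by_cases hB : B₀ c₀ = 0
      · rw [hB, zero_mul, add_zero] at h; exact hBu hB h
      · refine htB ?_
        simp only [rB]
        field_simp
        linear_combination h
  let w : F → V := fun t c => if c = z' then 0 else if c = i then -(A₀ ⬝ᵥ Function.update u₀ c₀ t) * D₀⁻¹
    else if c = j then -(B₀ ⬝ᵥ Function.update u₀ c₀ t) * D₀⁻¹ else Function.update u₀ c₀ t c
  set σ := Equiv.swap z₀ z' with hσ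
  let R : V := gi.col p
  have hR : ∀ x, x ≠ z₀ → R x ≠ 0 := fun x hx h => good hgi hgim p x z₀ hx h hz₀
  have hsg : ((Equiv.Perm.sign σ : ℤ) : F) * ((Equiv.Perm.sign σ : ℤ) : F) = 1 := by
    rcases Int.units_eq_one_or (Equiv.Perm.sign σ) with e | e <;> simp [e]
  have elem : ∀ t ∈ ({t₁, t₂} : Finset F), ∃ d : V, (∀ x, d x ≠ 0) ∧
      (∀ x, x ≠ z₀ → d x = w t (σ x) * (R x)⁻¹) ∧ In K (monM σ d) ∧
      Mono (g * monM σ d * gi) := by
    intro t ht'
    obtain ⟨ht0, htA, htB⟩ := hv t ht'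
    have hw : ∀ x, x ≠ z' → w t x ≠ 0 := by
      intro x hx
      simp only [w, if_neg hx]
      split_ifs
      · exact mul_ne_zero (neg_ne_zero.2 htA) (inv_ne_zero hdet)
      · exact mul_ne_zero (neg_ne_zero.2 htB) (inv_ne_zero hdet)
      · by_cases hxc : x = c₀ <;> simp [hxc, ht0, hu₀]
    have hσne : ∀ x, x ≠ z₀ → σ x ≠ z' := fun x hx e => hx (σ.injective (by
      rw [e, hσ, Equiv.swap_apply_left]))
    set T : F := ∏ x ∈ Finset.univ.erase z₀, w t (σ x) * (R x)⁻¹ with hT
    have hT0 : T ≠ 0 := Finset.prod_ne_zero_iff.2 fun x hx => mul_ne_zero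
      (hw _ (hσne x (Finset.ne_of_mem_erase hx))) (inv_ne_zero (hR x (Finset.ne_of_mem_erase hx)))
    set d : V := fun x => if x = z₀ then ((Equiv.Perm.sign σ : ℤ) : F) * T⁻¹
      else w t (σ x) * (R x)⁻¹ with hd
    have hd0 : ∀ x, d x ≠ 0 := fun x => by
      simp only [hd]
      split_ifs with hx
      · exact mul_ne_zero (left_ne_zero_of_mul (hsg.trans_ne one_ne_zero)) (inv_ne_zero hT0)
      · exact mul_ne_zero (hw _ (hσne x hx)) (inv_ne_zero (hR x hx))
    have hin := In.monM hN σ d (by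
      rw [← Finset.mul_prod_erase Finset.univ d (Finset.mem_univ z₀),
        Finset.prod_congr rfl (fun x hx => show d x = w t (σ x) * (R x)⁻¹ from
          if_neg (Finset.ne_of_mem_erase hx)), ← hT]
      simp only [hd, if_pos rfl]
      field_simp
      linear_combination hsg)
    refine ⟨d, hd0, fun x hx => if_neg hx, hin, by_contra fun hm' => ?_⟩
    have emR : Monomial.monM σ d *ᵥ R = w t := by
      funext x
      rw [monM_mulVec]
      by_cases hx : σ.symm x = z₀
      · have : x = z' := by rw [← σ.apply_symm_apply x, hx, hσ, Equiv.swap_apply_left]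
        rw [hx, show R z₀ = 0 from hz₀, mul_zero, this]
        simp [w]
      · simp only [hd, if_neg hx, σ.apply_symm_apply]
        rw [mul_assoc, inv_mul_cancel₀ (hR _ hx), mul_one]
    have col : ∀ r, (g * monM σ d * gi) r p = ∑ x, g r x * w t x := fun r => by
      show ((g * monM σ d * gi).col p) r = (g *ᵥ w t) r
      rw [← emR, Matrix.mulVec_mulVec, ← Matrix.mulVec_single_one, ← Matrix.mulVec_mulVec,
        Matrix.mulVec_single_one]
    set u := Function.update u₀ c₀ t
    have lin : ∀ r, D₀ * (∑ x, g r x * w t x) = ∑ c, u c *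
        (if c = i ∨ c = j ∨ c = z' then 0 else D₀ * g r c) - g r i * (A₀ ⬝ᵥ u) -
          g r j * (B₀ ⬝ᵥ u) := by
      intro r
      rw [Finset.mul_sum, ← Finset.sum_erase_add _ _ (Finset.mem_univ i),
        ← Finset.sum_erase_add _ _ (Finset.mem_erase.2 ⟨hij.symm, Finset.mem_univ j⟩),
        ← Finset.sum_erase_add (Finset.univ) (fun c => u c *
          (if c = i ∨ c = j ∨ c = z' then 0 else D₀ * g r c)) (Finset.mem_univ i),
        ← Finset.sum_erase_add (Finset.univ.erase i) (fun c => u c *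
          (if c = i ∨ c = j ∨ c = z' then 0 else D₀ * g r c))
          (Finset.mem_erase.2 ⟨hij.symm, Finset.mem_univ j⟩)]
      simp only [true_or, or_true, if_true, mul_zero, add_zero]
      rw [Finset.sum_congr rfl (fun c hc => show D₀ * (g r c * w t c) = u c *
        (if c = i ∨ c = j ∨ c = z' then 0 else D₀ * g r c) from by
          simp only [Finset.mem_erase] at hc
          by_cases hcz : c = z'
          · simp [w, hcz]
          · simp [w, u, hcz, hc.1, hc.2.1]; ring)]
      simp only [w, u, if_neg hiz, if_neg hjz, if_neg hij.symm, if_true]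
      field_simp
      ring
    refine good ((hg.mul hin).mul hgi) hm' p k l (Ne.symm hlk) ?_ ?_ <;>
      rw [col] <;> refine mul_left_cancel₀ hdet ?_ <;>
      rw [lin, mul_zero, dotProduct, dotProduct, Finset.mul_sum, Finset.mul_sum,
        ← Finset.sum_sub_distrib, ← Finset.sum_sub_distrib] <;>
      refine Finset.sum_eq_zero fun c _ => ?_ <;>
      simp only [hA₀, hB₀, hD₀] <;> split_ifs <;> ring
  obtain ⟨d₁, hd₁0, hd₁, hm₁, hx₁⟩ := elem t₁ (by simp)
  obtain ⟨d₂, hd₂0, hd₂, hm₂, hx₂⟩ := elem t₂ (by simp)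
  set D : V := fun x => d₁ (σ.symm x) * (d₂ (σ.symm x))⁻¹ with hD
  have eD : monM σ d₁ = Matrix.diagonal D * monM σ d₂ := by
    rw [← monM_one, monM_mul, one_mul]
    congr 1
    funext x
    simp [hD, σ.symm_apply_apply, mul_assoc, inv_mul_cancel₀ (hd₂0 x)]
  have hDm : Mono (g * Matrix.diagonal D * gi) := by
    obtain ⟨Mi, hMi, hM1, hM2⟩ := hm₂.inverse
    have e1 : g * monM σ d₂ * gi * (g * Mi * gi) = 1 := by
      rw [show g * monM σ d₂ * gi * (g * Mi * gi) = g * monM σ d₂ * (gi * g) * Mi * gi by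
        simp only [mul_assoc], h2, mul_one, mul_assoc g, hM1, mul_one, h1]
    have := hx₁.mul (mono_inverse hx₂ e1)
    rwa [eD, show g * (Matrix.diagonal D * monM σ d₂) * gi * (g * Mi * gi) =
      g * Matrix.diagonal D * (monM σ d₂ * (gi * g) * Mi) * gi by simp only [mul_assoc], h2, mul_one,
      hM1, mul_one] at this
  obtain ⟨M, hM, hMs⟩ := supp_le h1 h2 (D := D) (T := {i, j, c₀, z'})
    (fun x => mul_ne_zero (hd₁0 _) (inv_ne_zero (hd₂0 _))) (fun x hx => by
      simp only [Finset.mem_insert, Finset.mem_singleton, not_or] at hx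
      have hx0 : σ.symm x ≠ z₀ := fun e => hx.2.2.2 (by
        rw [← σ.apply_symm_apply x, e, hσ, Equiv.swap_apply_left])
      have h0 := hd₂0 (σ.symm x)
      rw [hd₂ _ hx0, σ.apply_symm_apply] at h0
      show d₁ (σ.symm x) * (d₂ (σ.symm x))⁻¹ = 1
      rw [hd₁ _ hx0, hd₂ _ hx0, σ.apply_symm_apply,
        show w t₁ x = w t₂ x by simp [w, hx.1, hx.2.1, hx.2.2.1, hx.2.2.2]]
      exact mul_inv_cancel₀ h0) hDm
  have : ({i, j, c₀, z'} : Finset (Fin n)).card ≤ 4 := Finset.card_le_four
  obtain ⟨r, hr, hr'⟩ := dense hg hm c₀ M (by omega)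
  refine hr' (hMs c₀ (fun e => ht ?_) r hr)
  have hx0 : σ.symm c₀ ≠ z₀ := fun e' => hc₀'.2.2 (by
    rw [← σ.apply_symm_apply c₀, e', hσ, Equiv.swap_apply_left])
  have h0 := hd₂0 (σ.symm c₀)
  have hR0 := hR _ hx0
  simp only [hD] at e
  rw [hd₁ _ hx0, hd₂ _ hx0, σ.apply_symm_apply] at e
  rw [hd₂ _ hx0, σ.apply_symm_apply] at h0
  have e2 := mul_right_cancel₀ (inv_ne_zero hR0) ((mul_inv_eq_one₀ h0).1 e)
  simpa [w, hc₀'.1, hc₀'.2.1, hc₀'.2.2] using e2

end CfsgLib.MaxSub.Monomial
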