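/-
The monomial subgroup is maximal in `SL_6` for at least five field elements.
-/
import Cfsg.Agent.Lib.MaxSub.Monomial.Main

set_option autoImplicit false
set_option maxHeartbeats 400000

namespace CfsgLib.MaxSub.Monomial

open Matrix Module

variable {F : Type*} [Field F] {n : ℕ} {K : Subgroup (Matrix.SpecialLinearGroup (Fin n) F)}

local notation "V" => Fin n → F
local notation "Mn" => Matrix (Fin n) (Fin n) F

/-- The inverse transpose. -/
def invTr (F : Type*) [Field F] (n : ℕ) :
    Matrix.SpecialLinearGroup (Fin n) F →* Matrix.SpecialLinearGroup (Fin n) F :=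
  MonoidHom.mk' (fun y => Matrix.SpecialLinearGroup.transpose y⁻¹) fun a b => Subtype.ext (by
    show ((a * b)⁻¹).1ᵀ = (a⁻¹).1ᵀ * (b⁻¹).1ᵀ
    rw [_root_.mul_inv_rev, Matrix.SpecialLinearGroup.coe_mul, Matrix.transpose_mul])

theorem invTr_val (y : Matrix.SpecialLinearGroup (Fin n) F) : (invTr F n y).1 = (y⁻¹).1ᵀ := rfl

theorem invTr_invTr (y : Matrix.SpecialLinearGroup (Fin n) F) : invTr F n (invTr F n y) = y := by
  have h : (invTr F n y⁻¹).1 = y.1ᵀ := by rw [invTr_val, inv_inv]
  refine Subtype.ext ?_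
  rw [invTr_val, ← map_inv, h, Matrix.transpose_transpose]

theorem mono_transpose {A : Mn} (h : Mono A) (hd : A.det ≠ 0) : Mono Aᵀ := by
  obtain ⟨σ, d, -, rfl⟩ := exists_monM h hd
  refine fun j => ⟨σ.symm j, fun k hk => ?_⟩
  rw [Matrix.transpose_apply, monM_apply, if_neg fun e => hk (by rw [e, σ.symm_apply_apply])]

theorem hasMono_invTr (hN : HasMono K) : HasMono (K.comap (invTr F n)) := fun y hy => hN _ (by
  rw [invTr_val]
  refine mono_transpose (mono_inverse hy ?_) ?_
  · rw [← Matrix.SpecialLinearGroup.coe_mul, mul_inv_cancel, Matrix.SpecialLinearGroup.coe_one]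
  · rw [(y⁻¹).2]; exact one_ne_zero)

variable [Fintype F]

/-- A non-monomial member has at most one zero in each row. -/
theorem row_zero_le (hq : 5 ≤ Fintype.card F) (hN : HasMono K) (hn : 5 ≤ n) (hK : K ≠ ⊤) {A : Mn}
    (hA : In K A) (hm : ¬ Mono A) {p z z' : Fin n} (hne : z ≠ z') (hz : A p z = 0)
    (hz' : A p z' = 0) : False := by
  obtain ⟨a, ha, rfl⟩ := hA
  refine col_zero_le (K := K.comap (invTr F n)) (A := a.1ᵀ) hq (hasMono_invTr hN) hn (fun h => hK ?_)
    ⟨Matrix.SpecialLinearGroup.transpose a, ?_, rfl⟩ (fun h => hm ?_) (p := p) hne hz hz'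
  · refine eq_top_iff.2 fun y _ => ?_
    have : invTr F n y ∈ K.comap (invTr F n) := by rw [h]; exact Subgroup.mem_top _
    rwa [Subgroup.mem_comap, invTr_invTr] at this
  · rw [Subgroup.mem_comap]
    have e : Matrix.SpecialLinearGroup.transpose a = invTr F n a⁻¹ := Subtype.ext (by
      rw [invTr_val, inv_inv]; rfl)
    rw [e, invTr_invTr]
    exact inv_mem ha
  · have := mono_transpose h (by rw [Matrix.det_transpose, a.2]; exact one_ne_zero)
    rwa [Matrix.transpose_transpose] at this

variable {K : Subgroup (Matrix.SpecialLinearGroup (Fin 6) F)}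

/-- A monomial conjugate of a diagonal matrix with two fixed axes: the other eigenvalues are
cube roots of unity. -/
theorem cube_of_mono (hq : 5 ≤ Fintype.card F) (hN : HasMono K) (hK : K ≠ ⊤)
    {g gi : Matrix (Fin 6) (Fin 6) F} (hg : In K g) (h1 : g * gi = 1) (h2 : gi * g = 1)
    (hm : ¬ Mono g) {D : Fin 6 → F} (hD : ∏ i, D i = 1) {T : Finset (Fin 6)} (hTc : T.card ≤ 4)
    (hT : ∀ i ∉ T, D i = 1) (hne : ∃ i, D i ≠ 1)
    (hmono : Mono (g * Matrix.diagonal D * gi)) : ∀ i, D i ^ 3 = 1 := by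
  classical
  obtain ⟨σ, e, -, he⟩ := exists_monM hmono (by
    rw [Matrix.det_mul, Matrix.det_mul, mul_right_comm, ← Matrix.det_mul, h1, Matrix.det_one,
      one_mul, Matrix.det_diagonal, hD]
    exact one_ne_zero)
  have hrec : ∀ x i, e x * g x i = D i * g (σ x) i := fun x i => by
    have := congrFun (conj_diag_eigen (g := g) h2 D i) (σ x)
    rw [he, monM_mulVec, σ.symm_apply_apply] at this
    exact this
  -- the diagonal has non-trivial values at two places
  obtain ⟨i₀, i₁, hi01, hi₀, hi₁⟩ : ∃ i₀ i₁, i₀ ≠ i₁ ∧ D i₀ ≠ 1 ∧ D i₁ ≠ 1 := by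
    obtain ⟨i₀, hi₀⟩ := hne
    by_contra hc
    push Not at hc
    exact hi₀ (by rw [← hD, Fintype.prod_eq_single i₀ fun i hi => hc i₀ i (Ne.symm hi) hi₀])
  obtain ⟨j₀, hj₀⟩ := exists_fresh T (by omega)
  obtain ⟨j₁, hj₁⟩ := exists_fresh (insert j₀ T)
    (lt_of_le_of_lt (Finset.card_insert_le _ _) (by omega))
  simp only [Finset.mem_insert, not_or] at hj₁
  -- no fixed point
  have hfix : ∀ x, σ x ≠ x := by
    intro x hx
    have h0 : ∀ i, D i ≠ e x → g x i = 0 := fun i hi => by
      have := hrec x i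
      rw [hx] at this
      refine (mul_eq_zero.1 (?_ : (D i - e x) * g x i = 0)).resolve_left (sub_ne_zero.2 hi)
      linear_combination -this
    have hex : e x = 1 := by
      by_contra hc
      exact row_zero_le hq hN (by norm_num) hK hg hm (Ne.symm hj₁.1)
        (h0 j₀ (by rw [hT _ hj₀]; exact Ne.symm hc)) (h0 j₁ (by rw [hT _ hj₁.2]; exact Ne.symm hc))
    exact row_zero_le hq hN (by norm_num) hK hg hm hi01 (h0 i₀ (by rwa [hex])) (h0 i₁ (by rwa [hex]))
  -- representatives of the orbits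
  set W := Finset.univ.filter fun w : Fin 6 => ∀ y, σ.SameCycle w y → w ≤ y with hW
  have hWmem : ∀ w ∈ W, ∀ y, σ.SameCycle w y → w ≤ y := fun w hw => (Finset.mem_filter.1 hw).2
  have hWsame : ∀ w ∈ W, ∀ w' ∈ W, σ.SameCycle w w' → w = w' := fun w hw w' hw' h =>
    le_antisymm (hWmem w hw w' h) (hWmem w' hw' w h.symm)
  have hrep : ∀ x, ∃ w ∈ W, σ.SameCycle w x := fun x => by
    set C := Finset.univ.filter fun y => σ.SameCycle x y
    have hC : C.Nonempty := ⟨x, Finset.mem_filter.2
      ⟨Finset.mem_univ _, Equiv.Perm.SameCycle.refl _ _⟩⟩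
    have hm' := (Finset.mem_filter.1 (C.min'_mem hC)).2
    exact ⟨C.min' hC, Finset.mem_filter.2 ⟨Finset.mem_univ _, fun y hy =>
      C.min'_le y (Finset.mem_filter.2 ⟨Finset.mem_univ y, hm'.trans hy⟩)⟩, hm'.symm⟩
  have hclass : ∀ (C : Finset (Fin 6)) (lam : F), lam ≠ 0 → (∀ i ∈ C, D i = lam) → C.card ≤ W.card := by
    intro C lam hlam hC
    by_contra hlt
    push Not at hlt
    let Φ : (C → F) →ₗ[F] (W → F) := Matrix.mulVecLin (Matrix.of fun (w : W) (i : C) => g w i)
    have hnz : LinearMap.ker Φ ≠ ⊥ := by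
      refine LinearMap.ker_ne_bot_of_finrank_lt ?_
      rw [Module.finrank_fintype_fun_eq_card, Module.finrank_fintype_fun_eq_card, Fintype.card_coe,
        Fintype.card_coe]
      exact hlt
    obtain ⟨β, hβ, hβ0⟩ := Submodule.exists_mem_ne_zero_of_ne_bot hnz
    let u : Fin 6 → F := fun x => ∑ i : C, g x i * β i
    have huW : ∀ w ∈ W, u w = 0 := fun w hw => congrFun (LinearMap.mem_ker.1 hβ) ⟨w, hw⟩
    have hurec : ∀ x, u x = 0 → u (σ x) = 0 := fun x hx => by
      have h3 : lam * u (σ x) = e x * u x := by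
        simp only [u, Finset.mul_sum]
        refine Finset.sum_congr rfl fun i _ => ?_
        have := hrec x i
        rw [hC i i.2] at this
        linear_combination -β i * this
      rw [hx, mul_zero] at h3
      exact (mul_eq_zero.1 h3).resolve_left hlam
    have hu : u = 0 := funext fun x => by
      obtain ⟨w, hw, hwx⟩ := hrep x
      obtain ⟨m, rfl⟩ := hwx.exists_nat_pow_eq
      clear hwx
      induction m with
      | zero => exact huW w hw
      | succ m ih => rw [pow_succ', Equiv.Perm.mul_apply]; exact hurec _ ih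
    refine hβ0 (funext fun i => ?_)
    have := congrFun (congrArg (gi *ᵥ ·) hu) i
    simp only [Matrix.mulVec_zero, Pi.zero_apply] at this
    rw [Pi.zero_apply, ← this]
    show _ = ∑ x, gi i x * ∑ j : C, g x j * β j
    simp only [Finset.mul_sum, ← mul_assoc]
    rw [Finset.sum_comm]
    simp only [← Finset.sum_mul, ← Matrix.mul_apply, h2, Matrix.one_apply]
    rw [Finset.sum_eq_single i (fun j _ hj => by
      rw [if_neg (fun e' => hj (Subtype.ext e'.symm)), zero_mul])
      (fun h => absurd (Finset.mem_univ i) h), if_pos rfl, one_mul]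
  have hDne : ∀ i, D i ≠ 0 := fun i h => zero_ne_one
    ((Finset.prod_eq_zero (Finset.mem_univ i) h).symm.trans hD)
  -- the fixed axes and the others
  set C₁ := Finset.univ.filter fun i => D i = 1 with hC₁
  have hC₁c : C₁.card ≤ W.card := hclass C₁ 1 one_ne_zero fun i hi => (Finset.mem_filter.1 hi).2
  have hC₁2 : 2 ≤ C₁.card := by
    have h6 : (Finset.univ \ T).card ≤ C₁.card := Finset.card_le_card fun i hi =>
      Finset.mem_filter.2 ⟨Finset.mem_univ i, hT i (Finset.mem_sdiff.1 hi).2⟩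
    rw [Finset.card_univ_sdiff, Fintype.card_fin] at h6
    omega
  have hW2 : ∀ (b : ℕ), (∀ w ∈ W, ∀ w' ∈ W, ∀ i j : Fin b, (σ ^ (i : ℕ)) w = (σ ^ (j : ℕ)) w' →
      w = w' ∧ i = j) → b * W.card ≤ 6 := by
    intro b hb
    have := Finset.card_le_card_of_injOn (s := (Finset.univ : Finset (Fin b)) ×ˢ W)
      (t := (Finset.univ : Finset (Fin 6))) (fun a => (σ ^ (a.1 : ℕ)) a.2) (fun _ _ => Finset.mem_univ _)
      (fun a ha a' ha' h => by
        simp only [Finset.coe_product, Set.mem_prod, Finset.coe_univ, Set.mem_univ, true_and,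
          Finset.mem_coe] at ha ha'
        obtain ⟨h3, h4⟩ := hb _ ha _ ha' _ _ h
        exact Prod.ext h4 h3)
    simpa using this
  have hsame : ∀ w ∈ W, ∀ w' ∈ W, ∀ a b : ℕ, (σ ^ a) w = (σ ^ b) w' → w = w' := by
    intro w hw w' hw' a b h
    refine hWsame w hw w' hw' (Equiv.Perm.SameCycle.trans (y := (σ ^ a) w) ?_ ?_)
    · exact Equiv.Perm.sameCycle_pow_right.2 (Equiv.Perm.SameCycle.refl _ _)
    · rw [h]; exact Equiv.Perm.sameCycle_pow_left.2 (Equiv.Perm.SameCycle.refl _ _)
  have hW3 : W.card ≤ 3 := by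
    have := hW2 2 fun w hw w' hw' i j h => by
      obtain rfl := hsame w hw w' hw' _ _ h
      refine ⟨rfl, ?_⟩
      fin_cases i <;> fin_cases j <;> first
        | rfl
        | (exfalso; simp at h; exact hfix w h)
        | (exfalso; simp at h; exact hfix w h.symm)
    omega
  by_cases hinv : ∃ x, σ (σ x) = x
  · obtain ⟨x, hx⟩ := hinv
    -- all values are signs
    exfalso
    have hD2 : ∀ i, D i * D i = 1 ∨ g x i = 0 := fun i => by
      by_cases h0 : g x i = 0
      · exact Or.inr h0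
      refine Or.inl ?_
      obtain ⟨j, hj, hj'⟩ : ∃ j, D j = 1 ∧ g x j ≠ 0 := by
        by_contra hc
        push Not at hc
        exact row_zero_le hq hN (by norm_num) hK hg hm (Ne.symm hj₁.1) (hc j₀ (hT _ hj₀))
          (hc j₁ (hT _ hj₁.2))
      have a1 := hrec x j
      have a2 := hrec (σ x) j
      have b1 := hrec x i
      have b2 := hrec (σ x) i
      rw [hx] at a2 b2
      rw [hj, one_mul] at a1 a2
      have hee : e x * e (σ x) = 1 := by
        refine mul_right_cancel₀ hj' ?_
        linear_combination e (σ x) * a1 + a2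
      refine mul_right_cancel₀ h0 ?_
      linear_combination -e (σ x) * b1 - D i * b2 + g x i * hee
    have hD2' : ∀ i, D i * D i = 1 := fun i => (hD2 i).resolve_right fun h0 => by
      have h3 : g (σ x) i = 0 := by
        have := hrec x i
        rw [h0, mul_zero] at this
        exact (mul_eq_zero.1 this.symm).resolve_left (hDne i)
      exact col_zero_le hq hN (by norm_num) hK hg hm (Ne.symm (hfix x)) h0 h3
    have hneg : ∀ i, D i ≠ 1 → D i = -1 := fun i hi => by
      refine eq_neg_of_add_eq_zero_left ((mul_eq_zero.1 (?_ : (D i - 1) * (D i + 1) = 0)).resolve_left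
        (sub_ne_zero.2 hi))
      linear_combination hD2' i
    set C₂ := Finset.univ.filter fun i => ¬ D i = 1 with hC₂
    have hC₂c : C₂.card ≤ W.card := hclass C₂ (-1) (neg_ne_zero.2 one_ne_zero)
      fun i hi => hneg i (Finset.mem_filter.1 hi).2
    have hsum : C₁.card + C₂.card = 6 := by
      rw [hC₁, hC₂, Finset.card_filter_add_card_filter_not, Finset.card_univ, Fintype.card_fin]
    have h3 : C₂.card = 3 := by omega
    have hprod : (∏ i, D i) = (-1) ^ C₂.card := by
      rw [← Finset.prod_filter_mul_prod_filter_not Finset.univ (fun i => D i = 1) D,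
        Finset.prod_eq_one (fun i hi => (Finset.mem_filter.1 hi).2), one_mul,
        Finset.prod_congr rfl (fun i hi => hneg i (Finset.mem_filter.1 hi).2), Finset.prod_const]
    rw [hD, h3] at hprod
    refine hi₀ ?_
    rw [hneg i₀ hi₀]
    linear_combination -hprod
  push Not at hinv
  -- two orbits of length three
  have inj3 : ∀ w ∈ W, ∀ w' ∈ W, ∀ i j : Fin 3, (σ ^ (i : ℕ)) w = (σ ^ (j : ℕ)) w' →
      w = w' ∧ i = j := fun w hw w' hw' i j h => by
    obtain rfl := hsame w hw w' hw' _ _ h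
    refine ⟨rfl, ?_⟩
    fin_cases i <;> fin_cases j <;> first
      | rfl
      | (exfalso; simp [pow_two] at h; exact hfix w h)
      | (exfalso; simp [pow_two] at h; exact hfix w h.symm)
      | (exfalso; simp [pow_two] at h; exact hinv w h)
      | (exfalso; simp [pow_two] at h; exact hinv w h.symm)
  have hW2' : W.card = 2 := by
    have := hW2 3 inj3
    omega
  obtain ⟨w, hw⟩ : W.Nonempty := Finset.card_pos.1 (by omega)
  have h3w : σ (σ (σ w)) = w := by
    have hsurj := Finset.surj_on_of_inj_on_of_card_le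
      (s := (Finset.univ : Finset (Fin 3)) ×ˢ W) (t := (Finset.univ : Finset (Fin 6)))
      (fun a _ => (σ ^ (a.1 : ℕ)) a.2) (fun _ _ => Finset.mem_univ _)
      (fun a a' ha ha' h => by
        simp only [Finset.mem_product, Finset.mem_univ, true_and] at ha ha'
        obtain ⟨h3, h4⟩ := inj3 _ ha _ ha' _ _ h
        exact Prod.ext h4 h3)
      (by rw [Finset.card_product]; simp [hW2'])
      (σ (σ (σ w))) (Finset.mem_univ _)
    obtain ⟨⟨i, w'⟩, hmem, hi⟩ := hsurj
    simp only [Finset.mem_product, Finset.mem_univ, true_and] at hmem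
    have h' : (σ ^ 3) w = (σ ^ (i : ℕ)) w' := hi
    obtain rfl := hsame w hw w' hmem 3 _ h'
    fin_cases i
    · exact hi
    · exfalso; simp at hi; exact hinv w hi
    · exfalso; simp [pow_two] at hi; exact hfix w hi
  intro i
  have h0 : g w i ≠ 0 := fun h0 => by
    have := hrec w i
    rw [h0, mul_zero] at this
    exact col_zero_le hq hN (by norm_num) hK hg hm (Ne.symm (hfix w)) h0
      ((mul_eq_zero.1 this.symm).resolve_left (hDne i))
  obtain ⟨j, hj, hj'⟩ : ∃ j, D j = 1 ∧ g w j ≠ 0 := by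
    by_contra hc
    push Not at hc
    exact row_zero_le hq hN (by norm_num) hK hg hm (Ne.symm hj₁.1) (hc j₀ (hT _ hj₀))
      (hc j₁ (hT _ hj₁.2))
  have a1 := hrec w j
  have a2 := hrec (σ w) j
  have a3 := hrec (σ (σ w)) j
  have b1 := hrec w i
  have b2 := hrec (σ w) i
  have b3 := hrec (σ (σ w)) i
  rw [h3w] at a3 b3
  rw [hj, one_mul] at a1 a2 a3
  have hee : e w * e (σ w) * e (σ (σ w)) = 1 := by
    refine mul_right_cancel₀ hj' ?_
    linear_combination e (σ w) * e (σ (σ w)) * a1 + e (σ (σ w)) * a2 + a3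
  refine mul_right_cancel₀ h0 ?_
  linear_combination -e (σ w) * e (σ (σ w)) * b1 - D i * e (σ (σ w)) * b2 - D i ^ 2 * b3 +
    g w i * hee

/-- **The monomial group is maximal in dimension six.** -/
theorem top_of_not_mono_six (hq : 5 ≤ Fintype.card F) (hN : HasMono K)
    {g₀ : Matrix (Fin 6) (Fin 6) F} (hg₀ : In K g₀) (hm₀ : ¬ Mono g₀) : K = ⊤ := by
  classical
  by_contra hK
  obtain ⟨g, gi, hg, hgi, h1, h2, hm, p, z₀, hz₀⟩ := exists_zero hq hN (by norm_num) hK hg₀ hm₀
  have hgim : ¬ Mono gi := fun h => hm (mono_inverse h h2)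
  obtain ⟨a, ha⟩ := exists_fresh ({z₀} : Finset (Fin 6)) (by simp)
  obtain ⟨b, hb⟩ := exists_fresh ({z₀, a} : Finset (Fin 6))
    (lt_of_le_of_lt Finset.card_le_two (by omega))
  obtain ⟨c, hc⟩ := exists_fresh ({z₀, a, b} : Finset (Fin 6))
    (lt_of_le_of_lt Finset.card_le_three (by omega))
  obtain ⟨k, hk⟩ := exists_fresh ({p} : Finset (Fin 6)) (by simp)
  obtain ⟨l, hl⟩ := exists_fresh ({p, k} : Finset (Fin 6))
    (lt_of_le_of_lt Finset.card_le_two (by omega))
  simp only [Finset.mem_insert, Finset.mem_singleton, not_or] at ha hb hc hk hl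
  -- two conditions on three weights
  let f : Fin 3 → Fin 6 := ![a, b, c]
  let Φ : (Fin 3 → F) →ₗ[F] (Fin 2 → F) :=
    Matrix.mulVecLin (Matrix.of fun r i => g (![k, l] r) (f i))
  have hker : LinearMap.ker Φ ≠ ⊥ := LinearMap.ker_ne_bot_of_finrank_lt (by simp)
  obtain ⟨x, hx, hx0⟩ := Submodule.exists_mem_ne_zero_of_ne_bot hker
  have hxk : g k a * x 0 + g k b * x 1 + g k c * x 2 = 0 := by
    simpa [Φ, f, Matrix.mulVec, dotProduct, Fin.sum_univ_three] using
      congrFun (LinearMap.mem_ker.1 hx) 0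
  have hxl : g l a * x 0 + g l b * x 1 + g l c * x 2 = 0 := by
    simpa [Φ, f, Matrix.mulVec, dotProduct, Fin.sum_univ_three] using
      congrFun (LinearMap.mem_ker.1 hx) 1
  have hR : ∀ i, i ≠ z₀ → gi i p ≠ 0 := fun i hi h =>
    col_zero_le hq hN (by norm_num) hK hgi hgim hi h hz₀
  let v : Fin 6 → F := fun i => if i = a then x 0 * (gi a p)⁻¹ else if i = b then x 1 * (gi b p)⁻¹
    else if i = c then x 2 * (gi c p)⁻¹ else 0
  obtain ⟨i₀, hi₀, hv0⟩ : ∃ i₀, i₀ ≠ z₀ ∧ v i₀ ≠ 0 := by
    by_contra hcon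
    push Not at hcon
    refine hx0 (funext fun j => ?_)
    have e0 := hcon a ha
    have e1 := hcon b hb.1
    have e2 := hcon c hc.1
    simp only [v, if_pos, if_neg hb.2, if_neg hc.2.1, if_neg hc.2.2, mul_eq_zero, inv_eq_zero,
      hR a ha, hR b hb.1, hR c hc.1, or_false] at e0 e1 e2
    fin_cases j <;> simp [e0, e1, e2]
  set bad : Finset F := {0, -(v a)⁻¹, -(v b)⁻¹, -(v c)⁻¹} with hbad
  have cube : ∀ s ∉ bad, (1 + s * v i₀) ^ 3 = 1 ∧ 1 + s * v i₀ ≠ 1 := by
    intro s hs
    simp only [hbad, Finset.mem_insert, Finset.mem_singleton, not_or] at hs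
    have hs0 : ∀ i, i ≠ z₀ → 1 + s * v i ≠ 0 := by
      intro i hi h0
      have hvi : v i ≠ 0 := fun h => by rw [h, mul_zero, add_zero] at h0; exact one_ne_zero h0
      have hsi : s = -(v i)⁻¹ := by field_simp; linear_combination h0
      by_cases hia : i = a
      · exact hs.2.1 (hia ▸ hsi)
      by_cases hib : i = b
      · exact hs.2.2.1 (hib ▸ hsi)
      by_cases hic : i = c
      · exact hs.2.2.2 (hic ▸ hsi)
      exact hvi (by simp [v, hia, hib, hic])
    set T := ∏ i ∈ Finset.univ.erase z₀, (1 + s * v i) with hT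
    have hT0 : T ≠ 0 := Finset.prod_ne_zero_iff.2 fun i hi => hs0 i (Finset.ne_of_mem_erase hi)
    set D : Fin 6 → F := fun i => if i = z₀ then T⁻¹ else 1 + s * v i with hD
    have hprod : ∏ i, D i = 1 := by
      rw [← Finset.mul_prod_erase Finset.univ D (Finset.mem_univ z₀),
        Finset.prod_congr rfl (fun i hi => show D i = 1 + s * v i from
          if_neg (Finset.ne_of_mem_erase hi)), ← hT, show D z₀ = T⁻¹ from if_pos rfl,
        inv_mul_cancel₀ hT0]
    have hi1 : 1 + s * v i₀ ≠ 1 := fun h =>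
      mul_ne_zero hs.1 hv0 (by linear_combination h)
    have hcol : ∀ r, r ≠ p → g r a * x 0 + g r b * x 1 + g r c * x 2 = 0 →
        (g * Matrix.diagonal D * gi) r p = 0 := by
      intro r hr he
      have e0 : ∑ i, g r i * gi i p = 0 := by
        rw [← Matrix.mul_apply, h1, Matrix.one_apply_ne hr]
      rw [Matrix.mul_apply]
      simp only [Matrix.mul_diagonal]
      conv_lhs => rw [← sub_zero (∑ i, g r i * D i * gi i p), ← e0]
      rw [← Finset.sum_sub_distrib,
        Finset.sum_congr rfl (fun i _ => show g r i * D i * gi i p - g r i * gi i p =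
          s * (g r i * (v i * gi i p)) from by
          by_cases hi : i = z₀
          · subst hi; rw [hz₀]; ring
          · simp only [hD, if_neg hi]; ring), ← Finset.mul_sum,
        ← Finset.sum_subset (Finset.subset_univ ({a, b, c} : Finset (Fin 6))) fun i _ hi => by
          simp only [Finset.mem_insert, Finset.mem_singleton, not_or] at hi
          simp [v, hi.1, hi.2.1, hi.2.2],
        Finset.sum_insert (by simp [Ne.symm hb.2, Ne.symm hc.2.1]), Finset.sum_pair (Ne.symm hc.2.2)]
      simp only [v, if_pos, if_neg hb.2, if_neg hc.2.1, if_neg hc.2.2]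
      rw [mul_assoc (x 0), inv_mul_cancel₀ (hR a ha), mul_assoc (x 1),
        inv_mul_cancel₀ (hR b hb.1), mul_assoc (x 2), inv_mul_cancel₀ (hR c hc.1)]
      linear_combination s * he
    have hmono : Mono (g * Matrix.diagonal D * gi) := by
      by_contra hnm
      exact col_zero_le hq hN (by norm_num) hK ((hg.mul (In.diagonal hN D hprod)).mul hgi) hnm
        (Ne.symm hl.2) (hcol k hk hxk) (hcol l hl.1 hxl)
    have := cube_of_mono hq hN hK hg h1 h2 hm hprod (T := {a, b, c, z₀}) Finset.card_le_four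
      (fun i hi => by
        simp only [Finset.mem_insert, Finset.mem_singleton, not_or] at hi
        simp [hD, v, hi.1, hi.2.1, hi.2.2.1, hi.2.2.2])
      ⟨i₀, by simpa only [hD, if_neg hi₀] using hi1⟩ hmono i₀
    rw [show D i₀ = 1 + s * v i₀ from if_neg hi₀] at this
    exact ⟨this, hi1⟩
  -- the cube roots of unity are too few
  have hbadc : bad.card ≤ 4 := Finset.card_le_four
  by_cases h7 : 7 ≤ Fintype.card F
  · have h3 : 2 < (Finset.univ \ bad).card := by rw [Finset.card_univ_sdiff]; omega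
    obtain ⟨s₁, hs₁, s₂, hs₂, s₃, hs₃, h12, h13, h23⟩ := Finset.two_lt_card.1 h3
    simp only [Finset.mem_sdiff, Finset.mem_univ, true_and] at hs₁ hs₂ hs₃
    have key : ∀ s ∉ bad, ∀ t ∉ bad, s ≠ t → (1 + s * v i₀) + (1 + t * v i₀) = -1 := by
      intro s hs t ht hst
      obtain ⟨h3s, h1s⟩ := cube s hs
      obtain ⟨h3t, h1t⟩ := cube t ht
      have qs : (1 + s * v i₀) ^ 2 + (1 + s * v i₀) + 1 = 0 :=
        (mul_eq_zero.1 (?_ : ((1 + s * v i₀) - 1) * _ = 0)).resolve_left (sub_ne_zero.2 h1s)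
      have qt : (1 + t * v i₀) ^ 2 + (1 + t * v i₀) + 1 = 0 :=
        (mul_eq_zero.1 (?_ : ((1 + t * v i₀) - 1) * _ = 0)).resolve_left (sub_ne_zero.2 h1t)
      · refine eq_neg_of_add_eq_zero_left ((mul_eq_zero.1
          (?_ : ((s - t) * v i₀) * ((1 + s * v i₀) + (1 + t * v i₀) + 1) = 0)).resolve_left
            (mul_ne_zero (sub_ne_zero.2 hst) hv0))
        linear_combination qs - qt
      · linear_combination h3t
      · linear_combination h3s
    refine h23 (mul_right_cancel₀ hv0 ?_)
    linear_combination key s₁ hs₁ s₂ hs₂ h12 - key s₁ hs₁ s₃ hs₃ h13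
  · obtain ⟨s, hs⟩ := exists_avoid hq bad hbadc
    obtain ⟨h3, h1'⟩ := cube s hs
    have hne : (1 + s * v i₀) ≠ 0 := fun h => by rw [h] at h3; simp at h3
    have hp := FiniteField.pow_card_sub_one_eq_one _ hne
    rcases (show Fintype.card F = 5 ∨ Fintype.card F = 6 by omega) with e | e <;>
      rw [e] at hp <;> refine h1' ?_
    · linear_combination hp - (1 + s * v i₀) * h3
    · refine mul_left_cancel₀ hne ?_
      have h6 : (1 + s * v i₀) ^ 6 = 1 := by linear_combination ((1 + s * v i₀) ^ 3 + 1) * h3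
      linear_combination (h6 - (1 + s * v i₀) * hp) * (1 + s * v i₀)

end CfsgLib.MaxSub.Monomial
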