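/-
The monomial subgroup is maximal in `SL_8` for at least five field elements.
-/
import Cfsg.Agent.Lib.MaxSub.Monomial.Six

set_option autoImplicit false
set_option maxHeartbeats 600000

namespace CfsgLib.MaxSub.Monomial

open Matrix Module

variable {F : Type*} [Field F] [Fintype F] {K : Subgroup (Matrix.SpecialLinearGroup (Fin 8) F)}

/-- A monomial conjugate of a diagonal matrix moving at most four axes: it negates exactly four axes. -/
theorem neg_of_mono (hq : 5 ≤ Fintype.card F) (hN : HasMono K) (hK : K ≠ ⊤)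
    {g gi : Matrix (Fin 8) (Fin 8) F} (hg : In K g) (h1 : g * gi = 1) (h2 : gi * g = 1)
    (hm : ¬ Mono g) {D : Fin 8 → F} (hD : ∏ i, D i = 1) {T : Finset (Fin 8)} (hTc : T.card ≤ 4)
    (hT : ∀ i ∉ T, D i = 1) (hne : ∃ i, D i ≠ 1)
    (hmono : Mono (g * Matrix.diagonal D * gi)) : ∀ i ∈ T, D i = -1 ∧ (-1 : F) ≠ 1 := by
  classical
  have h6 : (5 : ℕ) ≤ 8 := by norm_num
  obtain ⟨σ, e, -, he⟩ := exists_monM hmono (by
    rw [Matrix.det_mul, Matrix.det_mul, mul_right_comm, ← Matrix.det_mul, h1, Matrix.det_one,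
      one_mul, Matrix.det_diagonal, hD]
    exact one_ne_zero)
  have hrec : ∀ x i, e x * g x i = D i * g (σ x) i := fun x i => by
    have := congrFun (conj_diag_eigen (g := g) h2 D i) (σ x)
    rw [he, monM_mulVec, σ.symm_apply_apply] at this
    exact this
  obtain ⟨i₀, i₁, hi01, hi₀, hi₁⟩ : ∃ i₀ i₁, i₀ ≠ i₁ ∧ D i₀ ≠ 1 ∧ D i₁ ≠ 1 := by
    obtain ⟨i₀, hi₀⟩ := hne
    by_contra hc
    push Not at hc
    exact hi₀ (by rw [← hD, Fintype.prod_eq_single i₀ fun i hi => hc i₀ i (Ne.symm hi) hi₀])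
  obtain ⟨j₀, hj₀⟩ := exists_fresh T (by omega)
  obtain ⟨j₁, hj₁⟩ := exists_fresh (insert j₀ T)
    (lt_of_le_of_lt (Finset.card_insert_le _ _) (by omega))
  simp only [Finset.mem_insert, not_or] at hj₁
  -- no fixed point
  have hfix : ∀ x, σ x ≠ x := by
    intro x hx
    have h0 : ∀ i, D i ≠ e x → g x i = 0 := fun i hi => by
      have := hrec x i
      rw [hx] at this
      refine (mul_eq_zero.1 (?_ : (D i - e x) * g x i = 0)).resolve_left (sub_ne_zero.2 hi)
      linear_combination -this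
    have hex : e x = 1 := by
      by_contra hc
      exact row_zero_le hq hN h6 hK hg hm (Ne.symm hj₁.1)
        (h0 j₀ (by rw [hT _ hj₀]; exact Ne.symm hc)) (h0 j₁ (by rw [hT _ hj₁.2]; exact Ne.symm hc))
    exact row_zero_le hq hN h6 hK hg hm hi01 (h0 i₀ (by rwa [hex])) (h0 i₁ (by rwa [hex]))
  -- representatives of the orbits
  set W := Finset.univ.filter fun w : Fin 8 => ∀ y, σ.SameCycle w y → w ≤ y with hW
  have hWmem : ∀ w ∈ W, ∀ y, σ.SameCycle w y → w ≤ y := fun w hw => (Finset.mem_filter.1 hw).2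
  have hWsame : ∀ w ∈ W, ∀ w' ∈ W, σ.SameCycle w w' → w = w' := fun w hw w' hw' h =>
    le_antisymm (hWmem w hw w' h) (hWmem w' hw' w h.symm)
  have hrep : ∀ x, ∃ w ∈ W, σ.SameCycle w x := fun x => by
    set C := Finset.univ.filter fun y => σ.SameCycle x y
    have hC : C.Nonempty := ⟨x, Finset.mem_filter.2
      ⟨Finset.mem_univ _, Equiv.Perm.SameCycle.refl _ _⟩⟩
    have hm' := (Finset.mem_filter.1 (C.min'_mem hC)).2
    exact ⟨C.min' hC, Finset.mem_filter.2 ⟨Finset.mem_univ _, fun y hy =>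
      C.min'_le y (Finset.mem_filter.2 ⟨Finset.mem_univ y, hm'.trans hy⟩)⟩, hm'.symm⟩
  have hclass : ∀ (C : Finset (Fin 8)) (lam : F), lam ≠ 0 → (∀ i ∈ C, D i = lam) → C.card ≤ W.card := by
    intro C lam hlam hC
    by_contra hlt
    push Not at hlt
    let Φ : (C → F) →ₗ[F] (W → F) := Matrix.mulVecLin (Matrix.of fun (w : W) (i : C) => g w i)
    have hnz : LinearMap.ker Φ ≠ ⊥ := by
      refine LinearMap.ker_ne_bot_of_finrank_lt ?_
      rw [Module.finrank_fintype_fun_eq_card, Module.finrank_fintype_fun_eq_card, Fintype.card_coe,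
        Fintype.card_coe]
      exact hlt
    obtain ⟨β, hβ, hβ0⟩ := Submodule.exists_mem_ne_zero_of_ne_bot hnz
    let u : Fin 8 → F := fun x => ∑ i : C, g x i * β i
    have huW : ∀ w ∈ W, u w = 0 := fun w hw => congrFun (LinearMap.mem_ker.1 hβ) ⟨w, hw⟩
    have hurec : ∀ x, u x = 0 → u (σ x) = 0 := fun x hx => by
      have h3 : lam * u (σ x) = e x * u x := by
        simp only [u, Finset.mul_sum]
        refine Finset.sum_congr rfl fun i _ => ?_
        have := hrec x i
        rw [hC i i.2] at this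
        linear_combination -β i * this
      rw [hx, mul_zero] at h3
      exact (mul_eq_zero.1 h3).resolve_left hlam
    have hu : u = 0 := funext fun x => by
      obtain ⟨w, hw, hwx⟩ := hrep x
      obtain ⟨m, rfl⟩ := hwx.exists_nat_pow_eq
      clear hwx
      induction m with
      | zero => exact huW w hw
      | succ m ih => rw [pow_succ', Equiv.Perm.mul_apply]; exact hurec _ ih
    refine hβ0 (funext fun i => ?_)
    have := congrFun (congrArg (gi *ᵥ ·) hu) i
    simp only [Matrix.mulVec_zero, Pi.zero_apply] at this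
    rw [Pi.zero_apply, ← this]
    show _ = ∑ x, gi i x * ∑ j : C, g x j * β j
    simp only [Finset.mul_sum, ← mul_assoc]
    rw [Finset.sum_comm]
    simp only [← Finset.sum_mul, ← Matrix.mul_apply, h2, Matrix.one_apply]
    rw [Finset.sum_eq_single i (fun j _ hj => by
      rw [if_neg (fun e' => hj (Subtype.ext e'.symm)), zero_mul])
      (fun h => absurd (Finset.mem_univ i) h), if_pos rfl, one_mul]
  have hDne : ∀ i, D i ≠ 0 := fun i h => zero_ne_one
    ((Finset.prod_eq_zero (Finset.mem_univ i) h).symm.trans hD)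
  set C₁ := Finset.univ.filter fun i => D i = 1 with hC₁
  have hC₁c : C₁.card ≤ W.card := hclass C₁ 1 one_ne_zero fun i hi => (Finset.mem_filter.1 hi).2
  have hC₁4 : 4 ≤ C₁.card := by
    have h8 : (Finset.univ \ T).card ≤ C₁.card := Finset.card_le_card fun i hi =>
      Finset.mem_filter.2 ⟨Finset.mem_univ i, hT i (Finset.mem_sdiff.1 hi).2⟩
    rw [Finset.card_univ_sdiff, Fintype.card_fin] at h8
    omega
  have hcount : ∀ (b : ℕ), (∀ w ∈ W, ∀ w' ∈ W, ∀ i j : Fin b, (σ ^ (i : ℕ)) w = (σ ^ (j : ℕ)) w' →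
      w = w' ∧ i = j) → b * W.card ≤ 8 := by
    intro b hb
    have := Finset.card_le_card_of_injOn (s := (Finset.univ : Finset (Fin b)) ×ˢ W)
      (t := (Finset.univ : Finset (Fin 8))) (fun a => (σ ^ (a.1 : ℕ)) a.2) (fun _ _ => Finset.mem_univ _)
      (fun a ha a' ha' h => by
        simp only [Finset.coe_product, Set.mem_prod, Finset.coe_univ, Set.mem_univ, true_and,
          Finset.mem_coe] at ha ha'
        obtain ⟨h3, h4⟩ := hb _ ha _ ha' _ _ h
        exact Prod.ext h4 h3)
    simpa using this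
  have hsame : ∀ w ∈ W, ∀ w' ∈ W, ∀ a b : ℕ, (σ ^ a) w = (σ ^ b) w' → w = w' := by
    intro w hw w' hw' a b h
    refine hWsame w hw w' hw' (Equiv.Perm.SameCycle.trans (y := (σ ^ a) w) ?_ ?_)
    · exact Equiv.Perm.sameCycle_pow_right.2 (Equiv.Perm.SameCycle.refl _ _)
    · rw [h]; exact Equiv.Perm.sameCycle_pow_left.2 (Equiv.Perm.SameCycle.refl _ _)
  have hW4 : W.card ≤ 4 := by
    have := hcount 2 fun w hw w' hw' i j h => by
      obtain rfl := hsame w hw w' hw' _ _ h
      refine ⟨rfl, ?_⟩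
      fin_cases i <;> fin_cases j <;> first
        | rfl
        | (exfalso; simp at h; exact hfix w h)
        | (exfalso; simp at h; exact hfix w h.symm)
    omega
  -- some orbit has length two
  obtain ⟨x, hx⟩ : ∃ x, σ (σ x) = x := by
    by_contra hinv
    push Not at hinv
    have := hcount 3 fun w hw w' hw' i j h => by
      obtain rfl := hsame w hw w' hw' _ _ h
      refine ⟨rfl, ?_⟩
      fin_cases i <;> fin_cases j <;> first
        | rfl
        | (exfalso; simp [pow_two] at h; exact hfix w h)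
        | (exfalso; simp [pow_two] at h; exact hfix w h.symm)
        | (exfalso; simp [pow_two] at h; exact hinv w h)
        | (exfalso; simp [pow_two] at h; exact hinv w h.symm)
    omega
  -- all values are signs
  have hD2 : ∀ i, D i * D i = 1 := fun i => by
    have h0 : g x i ≠ 0 := fun h0 => by
      have h3 : g (σ x) i = 0 := by
        have := hrec x i
        rw [h0, mul_zero] at this
        exact (mul_eq_zero.1 this.symm).resolve_left (hDne i)
      exact col_zero_le hq hN h6 hK hg hm (Ne.symm (hfix x)) h0 h3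
    obtain ⟨j, hj, hj'⟩ : ∃ j, D j = 1 ∧ g x j ≠ 0 := by
      by_contra hc
      push Not at hc
      exact row_zero_le hq hN h6 hK hg hm (Ne.symm hj₁.1) (hc j₀ (hT _ hj₀))
        (hc j₁ (hT _ hj₁.2))
    have a1 := hrec x j
    have a2 := hrec (σ x) j
    have b1 := hrec x i
    have b2 := hrec (σ x) i
    rw [hx] at a2 b2
    rw [hj, one_mul] at a1 a2
    have hee : e x * e (σ x) = 1 := by
      refine mul_right_cancel₀ hj' ?_
      linear_combination e (σ x) * a1 + a2
    refine mul_right_cancel₀ h0 ?_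
    linear_combination -e (σ x) * b1 - D i * b2 + g x i * hee
  have hneg : ∀ i, D i ≠ 1 → D i = -1 := fun i hi => by
    refine eq_neg_of_add_eq_zero_left ((mul_eq_zero.1 (?_ : (D i - 1) * (D i + 1) = 0)).resolve_left
      (sub_ne_zero.2 hi))
    linear_combination hD2 i
  have hm1 : (-1 : F) ≠ 1 := fun h => hi₀ (by rw [hneg _ hi₀, h])
  set C₂ := Finset.univ.filter fun i => ¬ D i = 1 with hC₂
  have hC₂c : C₂.card ≤ W.card := hclass C₂ (-1) (neg_ne_zero.2 one_ne_zero)
    fun i hi => hneg i (Finset.mem_filter.1 hi).2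
  have hsum : C₁.card + C₂.card = 8 := by
    rw [hC₁, hC₂, Finset.card_filter_add_card_filter_not, Finset.card_univ, Fintype.card_fin]
  have hsub : C₂ ⊆ T := fun i hi => by_contra fun h => (Finset.mem_filter.1 hi).2 (hT i h)
  have hCT : C₂ = T := Finset.eq_of_subset_of_card_le hsub (by omega)
  intro i hi
  rw [← hCT] at hi
  exact ⟨hneg i (Finset.mem_filter.1 hi).2, hm1⟩

/-- **The monomial group is maximal in dimension eight.** -/
theorem top_of_not_mono_eight (hq : 5 ≤ Fintype.card F) (hN : HasMono K)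
    {g₀ : Matrix (Fin 8) (Fin 8) F} (hg₀ : In K g₀) (hm₀ : ¬ Mono g₀) : K = ⊤ := by
  classical
  by_contra hK
  have h6 : (5 : ℕ) ≤ 8 := by norm_num
  obtain ⟨g, gi, hg, hgi, h1, h2, hm, p, z₀, hz₀⟩ := exists_zero hq hN h6 hK hg₀ hm₀
  have hgim : ¬ Mono gi := fun h => hm (mono_inverse h h2)
  obtain ⟨a, ha⟩ := exists_fresh ({z₀} : Finset (Fin 8)) (by simp)
  obtain ⟨b, hb⟩ := exists_fresh ({z₀, a} : Finset (Fin 8))
    (lt_of_le_of_lt Finset.card_le_two (by omega))
  obtain ⟨c, hc⟩ := exists_fresh ({z₀, a, b} : Finset (Fin 8))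
    (lt_of_le_of_lt Finset.card_le_three (by omega))
  obtain ⟨k, hk⟩ := exists_fresh ({p} : Finset (Fin 8)) (by simp)
  obtain ⟨l, hl⟩ := exists_fresh ({p, k} : Finset (Fin 8))
    (lt_of_le_of_lt Finset.card_le_two (by omega))
  simp only [Finset.mem_insert, Finset.mem_singleton, not_or] at ha hb hc hk hl
  -- two conditions on three weights
  let f : Fin 3 → Fin 8 := ![a, b, c]
  let Φ : (Fin 3 → F) →ₗ[F] (Fin 2 → F) :=
    Matrix.mulVecLin (Matrix.of fun r i => g (![k, l] r) (f i))
  have hker : LinearMap.ker Φ ≠ ⊥ := LinearMap.ker_ne_bot_of_finrank_lt (by simp)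
  obtain ⟨x, hx, hx0⟩ := Submodule.exists_mem_ne_zero_of_ne_bot hker
  have hxk : g k a * x 0 + g k b * x 1 + g k c * x 2 = 0 := by
    simpa [Φ, f, Matrix.mulVec, dotProduct, Fin.sum_univ_three] using
      congrFun (LinearMap.mem_ker.1 hx) 0
  have hxl : g l a * x 0 + g l b * x 1 + g l c * x 2 = 0 := by
    simpa [Φ, f, Matrix.mulVec, dotProduct, Fin.sum_univ_three] using
      congrFun (LinearMap.mem_ker.1 hx) 1
  have hR : ∀ i, i ≠ z₀ → gi i p ≠ 0 := fun i hi h =>
    col_zero_le hq hN h6 hK hgi hgim hi h hz₀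
  let v : Fin 8 → F := fun i => if i = a then x 0 * (gi a p)⁻¹ else if i = b then x 1 * (gi b p)⁻¹
    else if i = c then x 2 * (gi c p)⁻¹ else 0
  obtain ⟨i₀, hi₀, hv0⟩ : ∃ i₀, i₀ ≠ z₀ ∧ v i₀ ≠ 0 := by
    by_contra hcon
    push Not at hcon
    refine hx0 (funext fun j => ?_)
    have e0 := hcon a ha
    have e1 := hcon b hb.1
    have e2 := hcon c hc.1
    simp only [v, if_pos, if_neg hb.2, if_neg hc.2.1, if_neg hc.2.2, mul_eq_zero, inv_eq_zero,
      hR a ha, hR b hb.1, hR c hc.1, or_false] at e0 e1 e2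
    fin_cases j <;> simp [e0, e1, e2]
  -- at a good parameter all three weights are equal
  have good : ∀ s : F, s ≠ 0 → 1 + s * v a ≠ 0 → 1 + s * v b ≠ 0 → 1 + s * v c ≠ 0 →
      s * v a = -2 ∧ s * v b = -2 ∧ s * v c = -2 ∧ (2 : F) ≠ 0 := by
    intro s hsne hsa hsb hsc
    have hs0 : ∀ i, i ≠ z₀ → 1 + s * v i ≠ 0 := by
      intro i hi h0
      by_cases hia : i = a
      · exact hsa (hia ▸ h0)
      by_cases hib : i = b
      · exact hsb (hib ▸ h0)
      by_cases hic : i = c
      · exact hsc (hic ▸ h0)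
      simp [v, hia, hib, hic] at h0
    set T := ∏ i ∈ Finset.univ.erase z₀, (1 + s * v i) with hT
    have hT0 : T ≠ 0 := Finset.prod_ne_zero_iff.2 fun i hi => hs0 i (Finset.ne_of_mem_erase hi)
    set D : Fin 8 → F := fun i => if i = z₀ then T⁻¹ else 1 + s * v i with hD
    have hprod : ∏ i, D i = 1 := by
      rw [← Finset.mul_prod_erase Finset.univ D (Finset.mem_univ z₀),
        Finset.prod_congr rfl (fun i hi => show D i = 1 + s * v i from
          if_neg (Finset.ne_of_mem_erase hi)), ← hT, show D z₀ = T⁻¹ from if_pos rfl,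
        inv_mul_cancel₀ hT0]
    have hi1 : 1 + s * v i₀ ≠ 1 := fun h =>
      mul_ne_zero hsne hv0 (by linear_combination h)
    have hcol : ∀ r, r ≠ p → g r a * x 0 + g r b * x 1 + g r c * x 2 = 0 →
        (g * Matrix.diagonal D * gi) r p = 0 := by
      intro r hr he
      have e0 : ∑ i, g r i * gi i p = 0 := by
        rw [← Matrix.mul_apply, h1, Matrix.one_apply_ne hr]
      rw [Matrix.mul_apply]
      simp only [Matrix.mul_diagonal]
      conv_lhs => rw [← sub_zero (∑ i, g r i * D i * gi i p), ← e0]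
      rw [← Finset.sum_sub_distrib,
        Finset.sum_congr rfl (fun i _ => show g r i * D i * gi i p - g r i * gi i p =
          s * (g r i * (v i * gi i p)) from by
          by_cases hi : i = z₀
          · subst hi; rw [hz₀]; ring
          · simp only [hD, if_neg hi]; ring), ← Finset.mul_sum,
        ← Finset.sum_subset (Finset.subset_univ ({a, b, c} : Finset (Fin 8))) fun i _ hi => by
          simp only [Finset.mem_insert, Finset.mem_singleton, not_or] at hi
          simp [v, hi.1, hi.2.1, hi.2.2],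
        Finset.sum_insert (by simp [Ne.symm hb.2, Ne.symm hc.2.1]), Finset.sum_pair (Ne.symm hc.2.2)]
      simp only [v, if_pos, if_neg hb.2, if_neg hc.2.1, if_neg hc.2.2]
      rw [mul_assoc (x 0), inv_mul_cancel₀ (hR a ha), mul_assoc (x 1),
        inv_mul_cancel₀ (hR b hb.1), mul_assoc (x 2), inv_mul_cancel₀ (hR c hc.1)]
      linear_combination s * he
    have hmono : Mono (g * Matrix.diagonal D * gi) := by
      by_contra hnm
      exact col_zero_le hq hN h6 hK ((hg.mul (In.diagonal hN D hprod)).mul hgi) hnm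
        (Ne.symm hl.2) (hcol k hk hxk) (hcol l hl.1 hxl)
    have key := neg_of_mono hq hN hK hg h1 h2 hm hprod (T := {a, b, c, z₀}) Finset.card_le_four
      (fun i hi => by
        simp only [Finset.mem_insert, Finset.mem_singleton, not_or] at hi
        simp [hD, v, hi.1, hi.2.1, hi.2.2.1, hi.2.2.2])
      ⟨i₀, by simpa only [hD, if_neg hi₀] using hi1⟩ hmono
    obtain ⟨ka, hm1⟩ := key a (by simp)
    obtain ⟨kb, -⟩ := key b (by simp)
    obtain ⟨kc, -⟩ := key c (by simp)
    simp only [hD, if_neg ha, if_neg hb.1, if_neg hc.1] at ka kb kc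
    exact ⟨by linear_combination ka, by linear_combination kb, by linear_combination kc,
      fun h2' => hm1 (by linear_combination -h2')⟩
  have hsol : ∀ (s : F) (w : F), 1 + s * w = 0 → s = -w⁻¹ := fun s w h => by
    have hw : w ≠ 0 := fun e => by rw [e, mul_zero, add_zero] at h; exact one_ne_zero h
    field_simp
    linear_combination h
  obtain ⟨s, hs⟩ := exists_avoid hq {0, -(v a)⁻¹, -(v b)⁻¹, -(v c)⁻¹} Finset.card_le_four
  simp only [Finset.mem_insert, Finset.mem_singleton, not_or] at hs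
  obtain ⟨sa, sb, sc, h20⟩ := good s hs.1 (fun h => hs.2.1 (hsol _ _ h)) (fun h => hs.2.2.1 (hsol _ _ h))
    (fun h => hs.2.2.2 (hsol _ _ h))
  have hab : v b = v a := mul_left_cancel₀ hs.1 (sb.trans sa.symm)
  have hac : v c = v a := mul_left_cancel₀ hs.1 (sc.trans sa.symm)
  obtain ⟨t, ht⟩ := exists_avoid hq {0, s, -(v a)⁻¹} (Finset.card_le_three.trans (by omega))
  simp only [Finset.mem_insert, Finset.mem_singleton, not_or] at ht
  have hta : 1 + t * v a ≠ 0 := fun h => ht.2.2 (hsol _ _ h)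
  obtain ⟨ta, -, -, -⟩ := good t ht.1 hta (by rwa [hab]) (by rwa [hac])
  have hva : v a ≠ 0 := fun e => h20 (by rw [e, mul_zero] at sa; linear_combination sa)
  exact ht.2.1 (mul_right_cancel₀ hva (ta.trans sa.symm))

end CfsgLib.MaxSub.Monomial
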