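/-
The monomial subgroup is maximal in `SL_5` for at least five field elements.

An inverse with a zero gives, for most `s`, a diagonal element `D` with entries affine in `s`, one of them
one, whose conjugate has two zeros in a column; it is monomial.  A fixed point of the permutation makes it a
multiple of the identity plus a dense matrix of rank one, which is not monomial; without fixed points the
entries of `D` are fifth roots of unity, and there are too few of them.
-/
import Cfsg.Agent.Lib.MaxSub.Monomial.Six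

set_option autoImplicit false
set_option maxHeartbeats 600000

namespace CfsgLib.MaxSub.Monomial

open Matrix Module

variable {F : Type*} [Field F] [Fintype F] {K : Subgroup (Matrix.SpecialLinearGroup (Fin 5) F)}

theorem five_orbits : ∀ σ : Equiv.Perm (Fin 5), (∀ x, σ x ≠ x) →
    (∀ x, σ (σ (σ (σ (σ x)))) = x) ∨ ((∃ x, σ (σ x) = x) ∧ ∃ x, σ (σ (σ x)) = x) := by
  decide +kernel

/-- A monomial conjugate of a diagonal matrix fixing an axis: the entries are fifth roots of unity. -/
theorem fifth_of_mono (hq : 5 ≤ Fintype.card F) (hN : HasMono K) (hK : K ≠ ⊤)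
    {g gi : Matrix (Fin 5) (Fin 5) F} (hg : In K g) (hgi : In K gi) (h1 : g * gi = 1) (h2 : gi * g = 1)
    (hm : ¬ Mono g) {D : Fin 5 → F} (hD : ∏ i, D i = 1) {j₀ : Fin 5} (hj₀ : D j₀ = 1)
    (hne : ∃ i, D i ≠ 1) (hmono : Mono (g * Matrix.diagonal D * gi)) : ∀ i, D i ^ 5 = 1 := by
  classical
  have hgim : ¬ Mono gi := fun h => hm (mono_inverse h h2)
  obtain ⟨σ, e, -, he⟩ := exists_monM hmono (by
    rw [Matrix.det_mul, Matrix.det_mul, mul_right_comm, ← Matrix.det_mul, h1, Matrix.det_one,
      one_mul, Matrix.det_diagonal, hD]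
    exact one_ne_zero)
  have hrec : ∀ x i, e x * g x i = D i * g (σ x) i := fun x i => by
    have := congrFun (conj_diag_eigen (g := g) h2 D i) (σ x)
    rw [he, monM_mulVec, σ.symm_apply_apply] at this
    exact this
  obtain ⟨i₀, hi₀⟩ := hne
  have hfix : ∀ x, σ x ≠ x := by
    intro x hx
    have h0 : ∀ i, D i ≠ e x → g x i = 0 := fun i hi => by
      have := hrec x i
      rw [hx] at this
      refine (mul_eq_zero.1 (?_ : (D i - e x) * g x i = 0)).resolve_left (sub_ne_zero.2 hi)
      linear_combination -this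
    have hother : ∀ i i', D i ≠ e x → D i' ≠ e x → i = i' := fun i i' a b =>
      by_contra fun h => row_zero_le hq hN le_rfl hK hg hm h (h0 i a) (h0 i' b)
    -- all values but one agree
    obtain ⟨w, hw⟩ : ∃ w, ∀ i, i ≠ w → D i = e x := by
      by_cases h : ∃ w, D w ≠ e x
      · obtain ⟨w, hw⟩ := h
        exact ⟨w, fun i hi => by_contra fun h' => hi (hother i w h' hw)⟩
      · push Not at h
        exact ⟨0, fun i _ => h i⟩
    set t := e x with ht
    have hwt : D w ≠ t := by
      intro hwt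
      have hall : ∀ i, D i = t := fun i => by
        by_cases hi : i = w
        · rw [hi, hwt]
        · exact hw i hi
      exact hi₀ (by rw [hall, ← hall j₀, hj₀])
    have hrel : ∀ k l, k ≠ l → (g * Matrix.diagonal D * gi) k l = (D w - t) * (g k w * gi w l) := by
      intro k l hkl
      have e0 : ∑ i, g k i * gi i l = 0 := by rw [← Matrix.mul_apply, h1, Matrix.one_apply_ne hkl]
      rw [Matrix.mul_apply]
      simp only [Matrix.mul_diagonal]
      calc ∑ i, g k i * D i * gi i l = ∑ i, ((D i - t) * (g k i * gi i l) + t * (g k i * gi i l)) :=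
            Finset.sum_congr rfl fun i _ => by ring
        _ = _ := by
          rw [Finset.sum_add_distrib, ← Finset.mul_sum, e0, mul_zero, add_zero,
            Finset.sum_eq_single w (fun i _ hi => by rw [hw i hi, sub_self, zero_mul])
              (fun h => absurd (Finset.mem_univ w) h)]
    obtain ⟨l, hl⟩ : ∃ l, gi w l ≠ 0 := by
      by_contra h
      push Not at h
      have := Matrix.det_eq_zero_of_row_eq_zero w (A := gi) h
      rw [hgi.det] at this
      exact one_ne_zero this
    obtain ⟨k, hkl, hkw⟩ : ∃ k, k ≠ l ∧ g k w ≠ 0 := by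
      obtain ⟨k, hk, hk'⟩ := col_dense hq hN le_rfl hK hg hm w {l} (by simp)
      exact ⟨k, by simpa using hk, hk'⟩
    obtain ⟨k', hk'l, hk'w⟩ : ∃ k', k' ∉ ({l, k} : Finset (Fin 5)) ∧ g k' w ≠ 0 :=
      col_dense hq hN le_rfl hK hg hm w {l, k} (by
        have : ({l, k} : Finset (Fin 5)).card ≤ 2 := Finset.card_le_two
        omega)
    simp only [Finset.mem_insert, Finset.mem_singleton, not_or] at hk'l
    obtain ⟨m, hm'⟩ := hmono l
    have hz : ∀ r, r ≠ l → g r w ≠ 0 → r = m := fun r hr hrw => by_contra fun h => by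
      have := hm' r h
      rw [hrel r l hr] at this
      exact mul_ne_zero (sub_ne_zero.2 hwt) (mul_ne_zero hrw hl) this
    exact hk'l.2 ((hz k' hk'l.1 hk'w).trans (hz k hkl hkw).symm)
  have hnz : ∀ x i, g x i ≠ 0 := by
    intro x i h
    have h' : g (σ x) i = 0 := by
      have := hrec x i
      rw [h, mul_zero] at this
      refine (mul_eq_zero.1 this.symm).resolve_left fun hd => ?_
      exact one_ne_zero (hD.symm.trans (Finset.prod_eq_zero (Finset.mem_univ i) hd))
    exact col_zero_le hq hN le_rfl hK hg hm (hfix x) h' h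
  have p2 : ∀ x, σ (σ x) = x → ∀ i, D i ^ 2 = 1 := by
    intro x hx i
    have key : ∀ i, D i ^ 2 = e x * e (σ x) := fun i => by
      have a1 := hrec x i
      have a2 := hrec (σ x) i
      rw [hx] at a2
      refine mul_right_cancel₀ (hnz x i) ?_
      linear_combination -(e (σ x)) * a1 - D i * a2
    rw [key, ← key j₀, hj₀, one_pow]
  have p3 : ∀ x, σ (σ (σ x)) = x → ∀ i, D i ^ 3 = 1 := by
    intro x hx i
    have key : ∀ i, D i ^ 3 = e x * e (σ x) * e (σ (σ x)) := fun i => by
      have a1 := hrec x i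
      have a2 := hrec (σ x) i
      have a3 := hrec (σ (σ x)) i
      rw [hx] at a3
      refine mul_right_cancel₀ (hnz x i) ?_
      linear_combination -(e (σ x) * e (σ (σ x))) * a1 - D i * e (σ (σ x)) * a2 - D i ^ 2 * a3
    rw [key, ← key j₀, hj₀, one_pow]
  intro i
  rcases five_orbits σ hfix with h5 | ⟨⟨x, hx⟩, y, hy⟩
  · have key : ∀ i, D i ^ 5 = e 0 * e (σ 0) * e (σ (σ 0)) * e (σ (σ (σ 0))) * e (σ (σ (σ (σ 0)))) :=
      fun i => by
      have a1 := hrec 0 i
      have a2 := hrec (σ 0) i
      have a3 := hrec (σ (σ 0)) i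
      have a4 := hrec (σ (σ (σ 0))) i
      have a5 := hrec (σ (σ (σ (σ 0)))) i
      rw [h5 0] at a5
      refine mul_right_cancel₀ (hnz 0 i) ?_
      linear_combination -(e (σ 0) * e (σ (σ 0)) * e (σ (σ (σ 0))) * e (σ (σ (σ (σ 0))))) * a1 -
        D i * (e (σ (σ 0)) * e (σ (σ (σ 0))) * e (σ (σ (σ (σ 0))))) * a2 -
        D i ^ 2 * (e (σ (σ (σ 0))) * e (σ (σ (σ (σ 0))))) * a3 - D i ^ 3 * e (σ (σ (σ (σ 0)))) * a4 -
        D i ^ 4 * a5
    rw [key, ← key j₀, hj₀, one_pow]
  · have e2 := p2 x hx i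
    have e3 := p3 y hy i
    have : D i = 1 := by linear_combination e3 - D i * e2
    rw [this, one_pow]

/-- **The monomial group is maximal in dimension five.** -/
theorem top_of_not_mono_five (hq : 5 ≤ Fintype.card F) (hN : HasMono K)
    {g₀ : Matrix (Fin 5) (Fin 5) F} (hg₀ : In K g₀) (hm₀ : ¬ Mono g₀) : K = ⊤ := by
  classical
  by_contra hK
  obtain ⟨g, gi, hg, hgi, h1, h2, hm, p, z₀, hz₀⟩ := exists_zero hq hN le_rfl hK hg₀ hm₀
  have hgim : ¬ Mono gi := fun h => hm (mono_inverse h h2)
  obtain ⟨a, ha⟩ := exists_fresh ({z₀} : Finset (Fin 5)) (by simp)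
  obtain ⟨b, hb⟩ := exists_fresh ({z₀, a} : Finset (Fin 5))
    (lt_of_le_of_lt Finset.card_le_two (by omega))
  obtain ⟨c, hc⟩ := exists_fresh ({z₀, a, b} : Finset (Fin 5))
    (lt_of_le_of_lt Finset.card_le_three (by omega))
  obtain ⟨j₀, hj⟩ := exists_fresh ({z₀, a, b, c} : Finset (Fin 5))
    (lt_of_le_of_lt Finset.card_le_four (by omega))
  obtain ⟨k, hk⟩ := exists_fresh ({p} : Finset (Fin 5)) (by simp)
  obtain ⟨l, hl⟩ := exists_fresh ({p, k} : Finset (Fin 5))
    (lt_of_le_of_lt Finset.card_le_two (by omega))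
  simp only [Finset.mem_insert, Finset.mem_singleton, not_or] at ha hb hc hj hk hl
  -- two conditions on three weights
  let f : Fin 3 → Fin 5 := ![a, b, c]
  let Φ : (Fin 3 → F) →ₗ[F] (Fin 2 → F) :=
    Matrix.mulVecLin (Matrix.of fun r i => g (![k, l] r) (f i))
  have hker : LinearMap.ker Φ ≠ ⊥ := LinearMap.ker_ne_bot_of_finrank_lt (by simp)
  obtain ⟨x, hx, hx0⟩ := Submodule.exists_mem_ne_zero_of_ne_bot hker
  have hxk : g k a * x 0 + g k b * x 1 + g k c * x 2 = 0 := by
    simpa [Φ, f, Matrix.mulVec, dotProduct, Fin.sum_univ_three] using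
      congrFun (LinearMap.mem_ker.1 hx) 0
  have hxl : g l a * x 0 + g l b * x 1 + g l c * x 2 = 0 := by
    simpa [Φ, f, Matrix.mulVec, dotProduct, Fin.sum_univ_three] using
      congrFun (LinearMap.mem_ker.1 hx) 1
  have hR : ∀ i, i ≠ z₀ → gi i p ≠ 0 := fun i hi h =>
    col_zero_le hq hN le_rfl hK hgi hgim hi h hz₀
  let v : Fin 5 → F := fun i => if i = a then x 0 * (gi a p)⁻¹ else if i = b then x 1 * (gi b p)⁻¹
    else if i = c then x 2 * (gi c p)⁻¹ else 0
  obtain ⟨i₀, hi₀, hv0⟩ : ∃ i₀, i₀ ≠ z₀ ∧ v i₀ ≠ 0 := by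
    by_contra hcon
    push Not at hcon
    refine hx0 (funext fun j => ?_)
    have e0 := hcon a ha
    have e1 := hcon b hb.1
    have e2 := hcon c hc.1
    simp only [v, if_pos, if_neg hb.2, if_neg hc.2.1, if_neg hc.2.2, mul_eq_zero, inv_eq_zero,
      hR a ha, hR b hb.1, hR c hc.1, or_false] at e0 e1 e2
    fin_cases j <;> simp [e0, e1, e2]
  set bad : Finset F := {0, -(v a)⁻¹, -(v b)⁻¹, -(v c)⁻¹} with hbad
  have roots : ∀ s ∉ bad, (1 + s * v i₀) ^ 5 = 1 ∧ 1 + s * v i₀ ≠ 1 := by
    intro s hs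
    simp only [hbad, Finset.mem_insert, Finset.mem_singleton, not_or] at hs
    have hs0 : ∀ i, i ≠ z₀ → 1 + s * v i ≠ 0 := by
      intro i hi h0
      have hvi : v i ≠ 0 := fun h => by rw [h, mul_zero, add_zero] at h0; exact one_ne_zero h0
      have hsi : s = -(v i)⁻¹ := by field_simp; linear_combination h0
      by_cases hia : i = a
      · exact hs.2.1 (hia ▸ hsi)
      by_cases hib : i = b
      · exact hs.2.2.1 (hib ▸ hsi)
      by_cases hic : i = c
      · exact hs.2.2.2 (hic ▸ hsi)
      exact hvi (by simp [v, hia, hib, hic])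
    set T := ∏ i ∈ Finset.univ.erase z₀, (1 + s * v i) with hT
    have hT0 : T ≠ 0 := Finset.prod_ne_zero_iff.2 fun i hi => hs0 i (Finset.ne_of_mem_erase hi)
    set D : Fin 5 → F := fun i => if i = z₀ then T⁻¹ else 1 + s * v i with hD
    have hprod : ∏ i, D i = 1 := by
      rw [← Finset.mul_prod_erase Finset.univ D (Finset.mem_univ z₀),
        Finset.prod_congr rfl (fun i hi => show D i = 1 + s * v i from
          if_neg (Finset.ne_of_mem_erase hi)), ← hT, show D z₀ = T⁻¹ from if_pos rfl,
        inv_mul_cancel₀ hT0]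
    have hi1 : 1 + s * v i₀ ≠ 1 := fun h =>
      mul_ne_zero hs.1 hv0 (by linear_combination h)
    have hcol : ∀ r, r ≠ p → g r a * x 0 + g r b * x 1 + g r c * x 2 = 0 →
        (g * Matrix.diagonal D * gi) r p = 0 := by
      intro r hr he
      have e0 : ∑ i, g r i * gi i p = 0 := by
        rw [← Matrix.mul_apply, h1, Matrix.one_apply_ne hr]
      rw [Matrix.mul_apply]
      simp only [Matrix.mul_diagonal]
      conv_lhs => rw [← sub_zero (∑ i, g r i * D i * gi i p), ← e0]
      rw [← Finset.sum_sub_distrib,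
        Finset.sum_congr rfl (fun i _ => show g r i * D i * gi i p - g r i * gi i p =
          s * (g r i * (v i * gi i p)) from by
          by_cases hi : i = z₀
          · subst hi; rw [hz₀]; ring
          · simp only [hD, if_neg hi]; ring), ← Finset.mul_sum,
        ← Finset.sum_subset (Finset.subset_univ ({a, b, c} : Finset (Fin 5))) fun i _ hi => by
          simp only [Finset.mem_insert, Finset.mem_singleton, not_or] at hi
          simp [v, hi.1, hi.2.1, hi.2.2],
        Finset.sum_insert (by simp [Ne.symm hb.2, Ne.symm hc.2.1]), Finset.sum_pair (Ne.symm hc.2.2)]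
      simp only [v, if_pos, if_neg hb.2, if_neg hc.2.1, if_neg hc.2.2]
      rw [mul_assoc (x 0), inv_mul_cancel₀ (hR a ha), mul_assoc (x 1),
        inv_mul_cancel₀ (hR b hb.1), mul_assoc (x 2), inv_mul_cancel₀ (hR c hc.1)]
      linear_combination s * he
    have hmono : Mono (g * Matrix.diagonal D * gi) := by
      by_contra hnm
      exact col_zero_le hq hN le_rfl hK ((hg.mul (In.diagonal hN D hprod)).mul hgi) hnm
        (Ne.symm hl.2) (hcol k hk hxk) (hcol l hl.1 hxl)
    have hj1 : D j₀ = 1 := by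
      simp [hD, v, hj.1, hj.2.1, hj.2.2.1, hj.2.2.2]
    have := fifth_of_mono hq hN hK hg hgi h1 h2 hm hprod hj1
      ⟨i₀, by simpa only [hD, if_neg hi₀] using hi1⟩ hmono i₀
    rw [show D i₀ = 1 + s * v i₀ from if_neg hi₀] at this
    exact ⟨this, hi1⟩
  -- the fifth roots of unity are too few
  have hbadc : bad.card ≤ 4 := Finset.card_le_four
  obtain ⟨s, hs⟩ := exists_avoid hq bad hbadc
  obtain ⟨h5, hne1⟩ := roots s hs
  have h11 : 11 ≤ Fintype.card F := by
    have hne : (1 + s * v i₀) ≠ 0 := fun h => by rw [h] at h5; simp at h5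
    have ho : orderOf (1 + s * v i₀) = 5 := by
      haveI : Fact (Nat.Prime 5) := ⟨by norm_num⟩
      exact orderOf_eq_prime h5 hne1
    have hd : 5 ∣ Fintype.card F - 1 := by
      rw [← ho]
      exact orderOf_dvd_of_pow_eq_one (FiniteField.pow_card_sub_one_eq_one _ hne)
    by_contra hlt
    have h6 : Fintype.card F = 6 := by omega
    obtain ⟨q, hcq⟩ := CharP.exists F
    obtain ⟨m, hq', hcard⟩ := FiniteField.card F q
    rw [h6] at hcard
    have h2d : 2 ∣ q ^ (m : ℕ) := ⟨3, hcard.symm.trans (by norm_num)⟩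
    have h3d : 3 ∣ q ^ (m : ℕ) := ⟨2, hcard.symm.trans (by norm_num)⟩
    have e2 := (Nat.prime_dvd_prime_iff_eq Nat.prime_two hq').1 (Nat.prime_two.dvd_of_dvd_pow h2d)
    have e3 := (Nat.prime_dvd_prime_iff_eq Nat.prime_three hq').1 (Nat.prime_three.dvd_of_dvd_pow h3d)
    omega
  have hcard : (Finset.univ \ bad).card ≤ (Polynomial.nthRootsFinset 5 (1 : F)).card := by
    refine Finset.card_le_card_of_injOn (fun s => 1 + s * v i₀) (fun t ht => ?_) fun t _ t' _ h => ?_
    · simp only [Finset.coe_sdiff, Set.mem_sdiff, Finset.mem_coe] at ht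
      exact (Polynomial.mem_nthRootsFinset (by norm_num) (1 : F)).2 (roots t ht.2).1
    · exact mul_right_cancel₀ hv0 (by linear_combination h)
  have h5' : (Polynomial.nthRootsFinset 5 (1 : F)).card ≤ 5 := by
    rw [Polynomial.nthRootsFinset_def]
    exact (Multiset.toFinset_card_le _).trans (Polynomial.card_nthRoots 5 1)
  rw [Finset.card_univ_sdiff] at hcard
  omega

end CfsgLib.MaxSub.Monomial
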