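/-
The monomial subgroup is maximal in `SL_4` for at least seven field elements.

An element of an overgroup outside it leads to one fixing a coordinate line: a conjugate of a torus element
fixing the pointwise three coordinates of a column, or two of them.  Its image on the quotient by the line
gives all of `SL_3`, so some root element lifts.
-/
import Cfsg.Agent.Lib.MaxSub.Monomial.Separate
import Cfsg.Agent.Lib.MaxSub.SLThree.Decomp.Main

set_option autoImplicit false
set_option maxHeartbeats 600000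

namespace CfsgLib.MaxSub.Monomial.Four

open Matrix Module CfsgLib.MaxSub.Monomial

variable {F : Type*} [Field F] {K : Subgroup (Matrix.SpecialLinearGroup (Fin 4) F)}

local notation "V" => Fin 4 → F
local notation "Mn" => Matrix (Fin 4) (Fin 4) F
local notation "M3" => Matrix (Fin 3) (Fin 3) F

theorem exists_pow_ne [Fintype F] {k : ℕ} (hk : 0 < k) (h : k + 1 < Fintype.card F) :
    ∃ a : F, a ≠ 0 ∧ ∀ j, 0 < j → j ≤ k → a ^ j ≠ 1 := by
  classical
  obtain ⟨u, hu⟩ := IsCyclic.exists_generator (α := Fˣ)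
  have ho : orderOf u = Fintype.card F - 1 := by
    rw [orderOf_eq_card_of_forall_mem_zpowers hu, Nat.card_eq_fintype_card, Fintype.card_units]
  refine ⟨u, u.ne_zero, fun j hj hjk e => ?_⟩
  have := Nat.le_of_dvd hj (orderOf_dvd_of_pow_eq_one (Units.ext (by simpa using e) : u ^ j = 1))
  omega

/-! ### Elements fixing the first line -/

/-- The matrix with a one at the first place and a block after it. -/
def ext3 (A : Matrix (Fin 3) (Fin 3) F) : Matrix (Fin 4) (Fin 4) F :=
  Matrix.of fun i j => Fin.cases (motive := fun _ => F) (Fin.cases (motive := fun _ => F) 1 (fun _ => 0) j)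
    (fun i' => Fin.cases (motive := fun _ => F) 0 (fun j' => A i' j') j) i

theorem ext3_00 (A : M3) : ext3 A 0 0 = 1 := rfl

theorem ext3_0s (A : M3) (j : Fin 3) : ext3 A 0 j.succ = 0 := by simp [ext3]

theorem ext3_s0 (A : M3) (i : Fin 3) : ext3 A i.succ 0 = 0 := by simp [ext3]

theorem ext3_ss (A : M3) (i j : Fin 3) : ext3 A i.succ j.succ = A i j := by simp [ext3]

theorem det_ext3 (A : M3) : (ext3 A).det = A.det := by
  rw [Matrix.det_succ_column_zero, Fin.sum_univ_succ, Finset.sum_eq_zero (fun i _ => by rw [ext3_s0]; ring),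
    add_zero, ext3_00, Fin.succAbove_zero]
  simp only [Fin.val_zero, pow_zero, one_mul]
  congr 1

theorem mono_ext3 {A : M3} (h : Mono A) : Mono (ext3 A) := by
  intro j
  refine Fin.cases ⟨0, fun k hk => ?_⟩ (fun j' => ?_) j
  · obtain ⟨k', rfl⟩ := Fin.exists_succ_eq.2 hk
    exact ext3_s0 A k'
  · obtain ⟨i, hi⟩ := h j'
    refine ⟨i.succ, fun k hk => ?_⟩
    refine Fin.cases (fun _ => ext3_0s A j') (fun k' hk' => ?_) k hk
    rw [ext3_ss]
    exact hi k' fun e => hk' (by rw [e])

/-- The block after the first place. -/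
def sub3 (A : Matrix (Fin 4) (Fin 4) F) : Matrix (Fin 3) (Fin 3) F := A.submatrix Fin.succ Fin.succ

theorem sub3_mul (A B : Mn) (hA : ∀ i, i ≠ 0 → A i 0 = 0) : sub3 (A * B) = sub3 A * sub3 B := by
  ext i j
  simp [sub3, Matrix.mul_apply, Fin.sum_univ_succ, hA i.succ (Fin.succ_ne_zero i)]

/-- The group induced on the quotient by the first line. -/
def quot (K : Subgroup (Matrix.SpecialLinearGroup (Fin 4) F)) :
    Subgroup (Matrix.SpecialLinearGroup (Fin 3) F) where
  carrier := {A | ∃ X, In K X ∧ (∀ i, i ≠ 0 → X i 0 = 0) ∧ sub3 X = A.1}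
  one_mem' := ⟨1, ⟨1, one_mem K, rfl⟩, fun i hi => Matrix.one_apply_ne hi, by
    ext i j; simp [sub3, Matrix.one_apply, Fin.succ_inj]⟩
  mul_mem' := by
    rintro A B ⟨X, hX, hXc, hXA⟩ ⟨Y, hY, hYc, hYB⟩
    refine ⟨X * Y, hX.mul hY, fun i hi => ?_, by rw [sub3_mul X Y hXc, hXA, hYB]; rfl⟩
    rw [Matrix.mul_apply, Finset.sum_eq_zero]
    intro k _
    by_cases hk : k = 0
    · rw [hk, hXc i hi, zero_mul]
    · rw [hYc k hk, mul_zero]
  inv_mem' := by
    rintro A ⟨X, hX, hXc, hXA⟩
    obtain ⟨Y, hY, h1, h2⟩ := hX.inverse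
    have hYc : ∀ i, i ≠ 0 → Y i 0 = 0 := by
      intro i hi
      have key : ∀ i, (Y * X) i 0 = Y i 0 * X 0 0 := fun i => by
        rw [Matrix.mul_apply, Finset.sum_eq_single 0 (fun j _ hj => by rw [hXc j hj, mul_zero])
          (fun h' => absurd (Finset.mem_univ _) h')]
      have e1 := key 0
      have e2 := key i
      rw [h2, Matrix.one_apply_eq] at e1
      rw [h2, Matrix.one_apply_ne hi] at e2
      exact (mul_eq_zero.1 e2.symm).resolve_right (right_ne_zero_of_mul (e1.symm.trans_ne one_ne_zero))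
    refine ⟨Y, hY, hYc, ?_⟩
    refine left_inv_eq_right_inv (a := A.1) ?_ ?_
    · rw [← hXA, ← sub3_mul Y X hYc, h2]
      ext i j; simp [sub3, Matrix.one_apply, Fin.succ_inj]
    · rw [← Matrix.SpecialLinearGroup.coe_mul, mul_inv_cancel, Matrix.SpecialLinearGroup.coe_one]

/-- A row at the first place gives a root element. -/
theorem top_of_row [Fintype F] (hq : 7 ≤ Fintype.card F) (hN : HasMono K) {β : V} (hβ0 : β 0 = 0)
    (hne : β ≠ 0) (h : In K (1 + rowP 0 β)) : K = ⊤ := by
  classical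
  obtain ⟨μ, hμ, hμk⟩ := exists_pow_ne (F := F) (k := 2) (by norm_num) (by omega)
  have hμ1 : μ ≠ 1 := by simpa using hμk 1 (by norm_num) (by norm_num)
  obtain ⟨k, hk⟩ : ∃ k, β k ≠ 0 := Function.ne_iff.1 hne
  have hk0 : k ≠ 0 := fun e => hk (e ▸ hβ0)
  obtain ⟨l, m, hl0, hlk, hm0, hmk, hlm⟩ : ∃ l m : Fin 4, l ≠ 0 ∧ l ≠ k ∧ m ≠ 0 ∧ m ≠ k ∧ l ≠ m :=
    (by decide : ∀ k : Fin 4, ∃ l m : Fin 4, l ≠ 0 ∧ l ≠ k ∧ m ≠ 0 ∧ m ≠ k ∧ l ≠ m) k
  have hs := shaped_rowP (p := (0 : Fin 4)) hβ0
  have h1 := sep_step hN hs h (d := tor k m μ) (prod_tor hmk.symm hμ)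
  have h2 := sep_step hN (hs.dop _) h1 (d := tor k l μ) (prod_tor hlk.symm hμ)
  refine top_of_root hN (by norm_num) (a := 0) (b := k) (Ne.symm hk0)
    (ν := (μ⁻¹ - 1) * ((μ⁻¹ - 1) * β k)) ?_ (?_ : In K _)
  · have : μ⁻¹ - 1 ≠ 0 := sub_ne_zero.2 (by rwa [Ne, inv_eq_one])
    exact mul_ne_zero this (mul_ne_zero this hk)
  convert h2 using 1
  congr 1
  ext i j
  simp only [dop_tor_apply, rowP_apply, Matrix.single_apply]
  by_cases hi : i = 0
  · subst hi
    have e1 : tor k m μ (0 : Fin 4) = 1 := tor_other (Ne.symm hk0) (Ne.symm hm0) μ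
    have e2 : tor k l μ (0 : Fin 4) = 1 := tor_other (Ne.symm hk0) (Ne.symm hl0) μ
    simp only [e1, e2, true_and, if_true]
    by_cases hj : k = j
    · subst hj; simp [tor_fst]
    · have hjc : j = 0 ∨ j = l ∨ j = m := by
        have := (by decide : ∀ k l m j : Fin 4, k ≠ 0 → l ≠ 0 → l ≠ k → m ≠ 0 → m ≠ k → l ≠ m → k ≠ j →
          j = 0 ∨ j = l ∨ j = m)
        exact this k l m j hk0 hl0 hlk hm0 hmk hlm hj
      rcases hjc with rfl | rfl | rfl
      · simp [hj, hβ0]
      · simp [hj, tor_other hlk hlm μ]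
      · simp [hj, tor_other hmk (Ne.symm hlm) μ]
  · simp [hi, Ne.symm hi]

/-- A non-monomial element fixing the first line gives everything. -/
theorem top_of_first [Fintype F] (hq : 7 ≤ Fintype.card F) (hN : HasMono K) {A : Mn} (hA : In K A)
    (hcol : ∀ i, i ≠ 0 → A i 0 = 0) (hm : ¬ Mono A) : K = ⊤ := by
  classical
  have hdet : A 0 0 * (sub3 A).det = 1 := by
    have h := hA.det
    rw [Matrix.det_succ_column_zero, Fin.sum_univ_succ,
      Finset.sum_eq_zero (fun i _ => by rw [hcol _ (Fin.succ_ne_zero i)]; ring), add_zero,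
      Fin.succAbove_zero] at h
    simpa [sub3] using h
  have hA00 : A 0 0 ≠ 0 := left_ne_zero_of_mul (hdet.trans_ne one_ne_zero)
  have hAd : (sub3 A).det ≠ 0 := right_ne_zero_of_mul (hdet.trans_ne one_ne_zero)
  have hN3 : HasMono (quot K) := fun y hy =>
    ⟨ext3 y.1, ⟨⟨ext3 y.1, by rw [det_ext3, y.2]⟩, hN _ (mono_ext3 hy), rfl⟩,
      fun i hi => by obtain ⟨i', rfl⟩ := Fin.exists_succ_eq.2 hi; exact ext3_s0 _ i',
      by ext i j; exact ext3_ss _ i j⟩
  by_cases hmA : Mono (sub3 A)
  · -- a row is left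
    set M : M3 := sub3 A with hM
    obtain ⟨σ, d, -, e⟩ := exists_monM hmA hAd
    let β : V := fun j => if j = 0 then 0 else A 0 j * (A 0 0)⁻¹
    set B : Mn := Matrix.of fun i j => if i = 0 ∧ j ≠ 0 then 0 else A i j with hB
    have hBm : Mono B := by
      intro j
      refine Fin.cases ⟨0, fun k hk => ?_⟩ (fun j' => ?_) j
      · simp [hB, hk, hcol k hk]
      · obtain ⟨i, hi⟩ := hmA j'
        refine ⟨i.succ, fun k hk => ?_⟩
        refine Fin.cases (fun _ => by simp [hB, Fin.succ_ne_zero]) (fun k' hk' => ?_) k hk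
        rw [hB, Matrix.of_apply, if_neg (fun h => Fin.succ_ne_zero k' h.1)]
        exact hi k' fun e => hk' (by rw [e])
    have hAB : A = B * (1 + rowP 0 β) := by
      ext i j
      rw [Matrix.mul_add, Matrix.mul_one, Matrix.add_apply, Matrix.mul_apply,
        Finset.sum_eq_single 0 (fun k _ hk => by rw [rowP_apply, if_neg hk, mul_zero])
          (fun h => absurd (Finset.mem_univ _) h), rowP_apply, if_pos rfl, hB, Matrix.of_apply, Matrix.of_apply,
        if_neg (fun h : i = 0 ∧ (0 : Fin 4) ≠ 0 => h.2 rfl)]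
      by_cases hi : i = 0
      · subst hi
        by_cases hj : j = 0
        · simp [β, hj]
        · simp [β, hj]; field_simp
      · simp [hi, hcol i hi]
    have hBd : B.det = 1 := by
      have h := hA.det
      rw [hAB, Matrix.det_mul, rowP] at h
      rwa [show (1 + vecMulVec (Pi.single (0 : Fin 4) 1 : V) β).det = 1 by
        rw [vecMulVec_eq Unit, Matrix.det_one_add_replicateCol_mul_replicateRow, dotProduct_single]
        simp [β], mul_one] at h
    have hBK : In K B := ⟨⟨B, hBd⟩, hN _ hBm, rfl⟩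
    obtain ⟨Bi, hBi, -, hB1⟩ := hBK.inverse
    have h2 := hBi.mul hA
    rw [hAB, ← mul_assoc, hB1, one_mul] at h2
    refine top_of_row hq hN (if_pos rfl) (fun hb => hm ?_) h2
    have : rowP (0 : Fin 4) β = 0 := by ext i j; rw [rowP_apply]; simp [hb]
    rw [hAB, this, add_zero, mul_one]
    exact hBm
  -- the whole of `SL_3` is induced
  have hX : In K (A * Matrix.diagonal (tor 0 1 (A 0 0)⁻¹)) :=
    hA.mul (In.diagonal hN _ (prod_tor (by decide) (inv_ne_zero hA00)))
  set X := A * Matrix.diagonal (tor 0 1 (A 0 0)⁻¹) with hXdef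
  have hXc : ∀ i, i ≠ 0 → X i 0 = 0 := fun i hi => by rw [hXdef, Matrix.mul_diagonal, hcol i hi, zero_mul]
  have hX3 : sub3 X = sub3 A * Matrix.diagonal (fun j : Fin 3 => tor 0 1 (A 0 0)⁻¹ j.succ) := by
    ext i j
    simp [hXdef, sub3, Matrix.mul_diagonal]
  have hX3d : (sub3 X).det = 1 := by
    rw [hX3, Matrix.det_mul, Matrix.det_diagonal, Fin.prod_univ_three]
    rw [show ((0 : Fin 3).succ : Fin 4) = 1 from rfl, tor_snd (show (0 : Fin 4) ≠ 1 by decide),
      tor_other (show ((1 : Fin 3).succ : Fin 4) ≠ 0 by decide) (by decide),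
      tor_other (show ((2 : Fin 3).succ : Fin 4) ≠ 0 by decide) (by decide)]
    rw [inv_inv, mul_one, mul_one, mul_comm]
    exact hdet
  have hin : In (quot K) (sub3 X) := ⟨⟨sub3 X, hX3d⟩, ⟨X, hX, hXc, rfl⟩, rfl⟩
  have htop : quot K = ⊤ := by
    refine CfsgLib.MaxSub.SLThree.Decomp.top_of_not_mono_three (by omega) hN3 hin fun h => hmA ?_
    intro j
    obtain ⟨i, hi⟩ := h j
    refine ⟨i, fun k hk => ?_⟩
    have := hi k hk
    rw [hX3, Matrix.mul_diagonal] at this
    refine (mul_eq_zero.1 this).resolve_right ?_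
    unfold tor
    split_ifs <;> simp [hA00]
  -- lift a root element
  let r : Matrix.SpecialLinearGroup (Fin 3) F :=
    ⟨Matrix.transvection 0 1 1, Matrix.det_transvection_of_ne _ _ (by decide) _⟩
  obtain ⟨Y, hY, hYc, hYr⟩ : r ∈ quot K := htop ▸ Subgroup.mem_top r
  set α : V := fun j => if j = 0 then 0 else Y 0 j with hα
  have hY00 : Y 0 0 = 1 := by
    have h := hY.det
    rw [Matrix.det_succ_column_zero, Fin.sum_univ_succ,
      Finset.sum_eq_zero (fun i _ => by rw [hYc _ (Fin.succ_ne_zero i)]; ring), add_zero,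
      Fin.succAbove_zero] at h
    have e : (Y.submatrix Fin.succ Fin.succ).det = 1 := by
      rw [show Y.submatrix Fin.succ Fin.succ = r.1 from hYr]
      exact r.2
    simpa [e] using h
  have hYe : Y = (1 + Matrix.single 1 2 1) + rowP 0 α := by
    ext i j
    rw [Matrix.add_apply, rowP_apply]
    refine Fin.cases ?_ (fun i' => ?_) i
    · refine Fin.cases ?_ (fun j' => ?_) j
      · simp [hY00, hα]
      · simp [hα, (Fin.succ_ne_zero j').symm]
    · refine Fin.cases ?_ (fun j' => ?_) j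
      · simp [hYc _ (Fin.succ_ne_zero i'), (Fin.succ_ne_zero i'), Matrix.single_apply]
      · have := congrFun (congrFun hYr i') j'
        simp only [sub3, Matrix.submatrix_apply] at this
        rw [this, if_neg (Fin.succ_ne_zero i'), add_zero]
        show (Matrix.transvection (0 : Fin 3) 1 (1 : F)) i' j' = _
        fin_cases i' <;> fin_cases j' <;> simp [Matrix.transvection, Matrix.one_apply, Matrix.single_apply]
  by_cases hα0 : α = 0
  · refine top_of_root hN (by norm_num) (a := 1) (b := 2) (by decide) (one_ne_zero (α := F)) ?_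
    show In K _
    convert hY using 1
    rw [hYe, hα0]
    ext i j; simp [rowP_apply]
  obtain ⟨μ, hμ, hμk⟩ := exists_pow_ne (F := F) (k := 2) (by norm_num) (by omega)
  have hμ1 : μ ≠ 1 := by simpa using hμk 1 (by norm_num) (by norm_num)
  have hμ2 : μ * μ ≠ 1 := by simpa [pow_two] using hμk 2 (by norm_num) le_rfl
  let d : V := ![1, μ, μ, (μ * μ)⁻¹]
  have hd : ∏ i, d i = 1 := by
    simp [d, Fin.prod_univ_four]; field_simp
  have hd0 : ∀ i, d i ≠ 0 := fun i => by fin_cases i <;> simp [d, hμ]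
  have h1 := In.torus hN hY d hd
  set γ : V := fun j => ((d j)⁻¹ - 1) * α j with hγ
  set δ : V := fun j => if j = 2 then γ 2 - γ 1 else γ j with hδ
  have hγ0 : γ 0 = 0 := by simp [hγ, hα]
  have e : (Matrix.of fun i j => d i * Y i j * (d j)⁻¹) = (1 + rowP 0 δ) * Y := by
    rw [hYe]
    ext i j
    rw [Matrix.of_apply, Matrix.mul_apply, Fin.sum_univ_four]
    simp only [Matrix.add_apply, Matrix.one_apply, Matrix.single_apply, rowP_apply]
    fin_cases i <;> fin_cases j <;> simp [d, hδ, hγ, hα, hμ] <;> field_simp <;> ring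
  obtain ⟨Yi, hYi, hY1, -⟩ := hY.inverse
  have h2 := h1.mul hYi
  rw [e, mul_assoc, hY1, mul_one] at h2
  refine top_of_row hq hN (by simp [hδ, hγ0]) (fun hδ0 => hα0 ?_) h2
  have hfac : ∀ j : Fin 4, j ≠ 0 → (d j)⁻¹ - 1 ≠ 0 := fun j hj => by
    fin_cases j
    · exact absurd rfl hj
    · simpa [d, sub_eq_zero, inv_eq_one] using hμ1
    · simpa [d, sub_eq_zero, inv_eq_one] using hμ1
    · simpa [d, sub_eq_zero] using hμ2
  have g1 : γ 1 = 0 := by simpa [hδ] using congrFun hδ0 1
  have g2 : γ 2 = 0 := by simpa [hδ, g1] using congrFun hδ0 2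
  have g3 : γ 3 = 0 := by simpa [hδ] using congrFun hδ0 3
  funext j
  fin_cases j
  · simp [hα]
  · exact (mul_eq_zero.1 g1).resolve_left (hfac 1 (by decide))
  · exact (mul_eq_zero.1 g2).resolve_left (hfac 2 (by decide))
  · exact (mul_eq_zero.1 g3).resolve_left (hfac 3 (by decide))

/-- A non-monomial element with a column on an axis gives everything. -/
theorem top_of_axis [Fintype F] (hq : 7 ≤ Fintype.card F) (hN : HasMono K) {A : Mn} (hA : In K A)
    {p j : Fin 4} (hcol : ∀ i, i ≠ j → A i p = 0) (hm : ¬ Mono A) : K = ⊤ := by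
  classical
  have mk : ∀ a : Fin 4, ∃ M Mi : Mn, In K M ∧ In K Mi ∧ Mono M ∧ Mono Mi ∧ Mi * M = 1 ∧ M * Mi = 1 ∧
      (∀ x : V, (M *ᵥ x) = fun i => (if Equiv.swap 0 a i = a ∧ a ≠ 0 then -1 else 1) * x (Equiv.swap 0 a i)) := by
    intro a
    let σ := Equiv.swap 0 a
    let e : V := fun i => if i = a ∧ a ≠ 0 then -1 else 1
    have hp : ((Equiv.Perm.sign σ : ℤ) : F) * ∏ i, e i = 1 := by
      by_cases ha : a = 0
      · subst ha; simp [σ, e]
      · rw [Equiv.Perm.sign_swap (Ne.symm ha), Fintype.prod_eq_single a (fun i hi => if_neg fun h => hi h.1)]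
        simp [e, ha]
    have hM := In.monM hN σ e hp
    obtain ⟨Mi, hMi, h1, h2⟩ := hM.inverse
    refine ⟨Monomial.monM σ e, Mi, hM, hMi, mono_monM σ e, mono_inverse (mono_monM σ e) h1, h2, h1, fun x => ?_⟩
    funext i
    rw [monM_mulVec, Equiv.symm_swap]
  obtain ⟨M, Mi, hM, -, -, hMiMono, hMi1, -, hMx⟩ := mk j
  obtain ⟨N, Ni, hNK, -, -, hNiMono, -, hN1, hNx⟩ := mk p
  refine top_of_first hq hN ((hM.mul hA).mul hNK) (fun i hi => ?_) fun h => hm ?_
  · show ((M * A * N) : Mn).col 0 i = 0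
    rw [← Matrix.mulVec_single_one, ← Matrix.mulVec_mulVec, ← Matrix.mulVec_mulVec, hNx, hMx]
    refine mul_eq_zero_of_right _ ?_
    rw [Matrix.mulVec, dotProduct]
    refine Finset.sum_eq_zero fun k _ => ?_
    by_cases hk : Equiv.swap 0 p k = 0
    · rw [show k = p by rw [← Equiv.swap_apply_self 0 p k, hk, Equiv.swap_apply_left]]
      rw [hcol _ fun e => hi ?_, zero_mul]
      rw [← Equiv.swap_apply_self 0 j i, e, Equiv.swap_apply_right]
    · rw [Pi.single_eq_of_ne hk, mul_zero, mul_zero]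
  · have := (hMiMono.mul h).mul hNiMono
    rwa [← mul_assoc Mi, ← mul_assoc Mi, hMi1, one_mul, mul_assoc, hN1, mul_one] at this

/-! ### Conjugates of torus elements -/

theorem conj_col {g B : Mn} (h2 : B * g = 1) (t : V) (i : Fin 4) :
    (g * Matrix.diagonal t * B) *ᵥ g.col i = t i • g.col i := by
  rw [← Matrix.mulVec_single_one, ← Matrix.mulVec_mulVec, ← Matrix.mulVec_mulVec,
    Matrix.mulVec_mulVec _ B g, h2, Matrix.one_mulVec,
    show Matrix.diagonal t *ᵥ Pi.single i 1 = t i • (Pi.single i 1 : V) from by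
      funext j
      by_cases hj : j = i
      · subst hj; simp [Matrix.mulVec_diagonal]
      · simp [Matrix.mulVec_diagonal, hj],
    Matrix.mulVec_smul]

theorem eig_rel {σ : Equiv.Perm (Fin 4)} {d u : V} {c : F} (h : monM σ d *ᵥ u = c • u) (j : Fin 4) :
    d j * u j = c * u (σ j) := by
  have := congrFun h (σ j)
  rwa [monM_mulVec, σ.symm_apply_apply] at this

theorem eig_two {σ : Equiv.Perm (Fin 4)} {d u : V} {c : F} (h : monM σ d *ᵥ u = c • u) {j : Fin 4}
    (hj : σ (σ j) = j) (hu : u j ≠ 0) : d (σ j) * d j = c * c := by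
  have e1 := eig_rel h j
  have e2 := eig_rel h (σ j)
  rw [hj] at e2
  exact mul_right_cancel₀ hu (by linear_combination d (σ j) * e1 + c * e2)

theorem monM_single (σ : Equiv.Perm (Fin 4)) (d : V) (j : Fin 4) :
    monM σ d *ᵥ Pi.single j 1 = d j • (Pi.single (σ j) 1 : V) := by
  funext i
  rw [monM_mulVec]
  by_cases h : i = σ j
  · subst h; simp
  · rw [Pi.smul_apply, Pi.single_eq_of_ne h, Pi.single_eq_of_ne (fun e => h (by rw [← e, σ.apply_symm_apply]))]
    simp

theorem short_orbit : ∀ σ : Equiv.Perm (Fin 4), (∀ j, σ (σ (σ j)) = j ∨ σ (σ j) = j) → ∃ j, σ (σ j) = j := by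
  decide

theorem conj_mul {g B : Mn} (h2 : B * g = 1) (s t : V) :
    g * Matrix.diagonal s * B * (g * Matrix.diagonal t * B) = g * Matrix.diagonal (fun i => s i * t i) * B := by
  rw [show g * Matrix.diagonal s * B * (g * Matrix.diagonal t * B) =
    g * (Matrix.diagonal s * (B * g) * Matrix.diagonal t) * B by simp only [mul_assoc], h2, mul_one,
    Matrix.diagonal_mul_diagonal]

/-- The relation satisfied by a conjugate of a torus element with values one, `μ` and its inverse. -/
theorem cubic {g B : Mn} (h1 : g * B = 1) (h2 : B * g = 1) {t : V} {μ : F} (hμ : μ ≠ 0)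
    (ht : ∀ i, t i = 1 ∨ t i = μ ∨ t i = μ⁻¹) {σ : Equiv.Perm (Fin 4)} {d : V}
    (e : g * Matrix.diagonal t * B = monM σ d) (j : Fin 4) :
    (d (σ (σ j)) * (d (σ j) * d j)) • (Pi.single (σ (σ (σ j))) 1 : V)
      - ((1 + μ + μ⁻¹) * (d (σ j) * d j)) • Pi.single (σ (σ j)) 1
      + ((1 + μ + μ⁻¹) * d j) • Pi.single (σ j) 1 - Pi.single j 1 = 0 := by
  set x := g * Matrix.diagonal t * B with hx
  have p1 : x *ᵥ Pi.single j 1 = d j • (Pi.single (σ j) 1 : V) := by rw [e, monM_single]
  have p2 : x * x = g * Matrix.diagonal (fun i => t i * t i) * B := conj_mul h2 t t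
  have p3 : x * (x * x) = g * Matrix.diagonal (fun i => t i * (t i * t i)) * B := by
    rw [p2]; exact conj_mul h2 t _
  have pd : ∀ (s : V) (v : V), (g * Matrix.diagonal s * B) *ᵥ v = g *ᵥ fun i => s i * (B *ᵥ v) i := fun s v => by
    rw [← Matrix.mulVec_mulVec, ← Matrix.mulVec_mulVec]
    congr 1
    funext i
    rw [Matrix.mulVec_diagonal]
  set v : V := Pi.single j 1
  have hzero : (x * (x * x)) *ᵥ v - (1 + μ + μ⁻¹) • ((x * x) *ᵥ v) + (1 + μ + μ⁻¹) • (x *ᵥ v) - v = 0 := by
    have ev : v = g *ᵥ (B *ᵥ v) := by rw [Matrix.mulVec_mulVec, h1, Matrix.one_mulVec]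
    conv_lhs => arg 2; rw [ev]
    rw [p3, p2, hx, pd, pd, pd, ← Matrix.mulVec_smul, ← Matrix.mulVec_smul, ← Matrix.mulVec_sub,
      ← Matrix.mulVec_add, ← Matrix.mulVec_sub]
    convert Matrix.mulVec_zero g using 2
    funext i
    simp only [Pi.sub_apply, Pi.add_apply, Pi.smul_apply, smul_eq_mul, Pi.zero_apply]
    rcases ht i with q | q | q <;> rw [q] <;> field_simp <;> ring
  rw [← Matrix.mulVec_mulVec v x (x * x), ← Matrix.mulVec_mulVec v x x, p1, Matrix.mulVec_smul, e, monM_single, smul_smul,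
    Matrix.mulVec_smul, monM_single, smul_smul, smul_smul, smul_smul] at hzero
  convert hzero using 3 <;> congr 1 <;> congr 1 <;> ring

/-- An inverse column with two zeros. -/
theorem top_of_two [Fintype F] (hq : 7 ≤ Fintype.card F) (hN : HasMono K) {g B : Mn} (hg : In K g)
    (hB : In K B) (h1 : g * B = 1) (h2 : B * g = 1) (hm : ¬ Mono g) {p z z' : Fin 4} (hne : z ≠ z')
    (hz : B z p = 0) (hz' : B z' p = 0) : K = ⊤ := by
  classical
  obtain ⟨μ, hμ, hμk⟩ := exists_pow_ne (F := F) (k := 4) (by norm_num) (by omega)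
  set t := tor z z' μ with ht
  have hx : In K (g * Matrix.diagonal t * B) := (hg.mul (In.diagonal hN _ (prod_tor hne hμ))).mul hB
  by_cases hmx : Mono (g * Matrix.diagonal t * B)
  swap
  · refine top_of_axis hq hN hx (p := p) (j := p) (fun i hi => ?_) hmx
    rw [← Matrix.one_apply_ne (α := F) hi, ← h1, Matrix.mul_apply, Matrix.mul_apply]
    refine Finset.sum_congr rfl fun k _ => ?_
    rw [Matrix.mul_diagonal]
    by_cases hk : k = z
    · rw [hk, hz, mul_zero, mul_zero]
    by_cases hk' : k = z'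
    · rw [hk', hz', mul_zero, mul_zero]
    · rw [ht, tor_other hk hk', mul_one]
  obtain ⟨σ, d, hd, e⟩ := exists_monM hmx (by rw [hx.det]; exact one_ne_zero)
  have htv : ∀ i, t i = 1 ∨ t i = μ ∨ t i = μ⁻¹ := fun i => by
    rw [ht, tor]; split_ifs <;> simp
  have hσ : ∀ j, σ j = j := by
    intro j
    by_contra hj
    have hc := cubic h1 h2 hμ htv e j
    have hj2 : σ (σ j) ≠ σ j := fun q => hj (σ.injective q)
    set s := 1 + μ + μ⁻¹ with hs
    by_cases h22 : σ (σ j) = j
    · rw [h22] at hc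
      have a1 := congrFun hc (σ j)
      have a2 := congrFun hc j
      simp [hj, Ne.symm hj] at a1 a2
      have hs2 : s * s = 1 := by
        have a1' : d (σ j) * d j + s = 0 :=
          (mul_eq_zero.1 (show d j * (d (σ j) * d j + s) = 0 by linear_combination a1)).resolve_left (hd j)
        linear_combination a2 + s * a1'
      have hmul : s * μ = μ + μ * μ + 1 := by rw [hs]; field_simp
      rcases mul_self_eq_one_iff.1 hs2 with q | q <;> rw [q] at hmul
      · exact hμk 4 (by norm_num) le_rfl (by linear_combination -(μ * μ - 1) * hmul)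
      · have h11 := mul_self_eq_zero.1 (show (μ + 1) * (μ + 1) = 0 by linear_combination -hmul)
        exact hμk 2 (by norm_num) (by norm_num) (by linear_combination (μ - 1) * h11)
    have a3 := congrFun hc (σ (σ j))
    have h32 : σ (σ (σ j)) ≠ σ (σ j) := fun q => hj2 (σ.injective q)
    simp [h22, hj2, h32.symm] at a3
    rcases a3 with q | q
    · refine hμk 3 (by norm_num) (by norm_num) ?_
      have hmul : s * μ = μ + μ * μ + 1 := by rw [hs]; field_simp
      rw [q] at hmul
      linear_combination (1 - μ) * hmul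
    · rcases q with q | q <;> exact hd _ q
  -- the diagonal case
  obtain ⟨k, hk⟩ : ∃ k, g k z ≠ 0 := by
    by_contra h
    push Not at h
    have := Matrix.det_eq_zero_of_column_eq_zero z (A := g) h
    rw [hg.det] at this
    exact one_ne_zero this
  have hdk : d k = μ := by
    have := eig_rel (u := g.col z) (c := μ) (by rw [← e, conj_col h2, ht, tor_fst]) k
    rw [hσ] at this
    exact mul_right_cancel₀ hk this
  obtain ⟨Bi, -, -, -⟩ := hB.inverse
  refine top_of_axis hq hN hB (p := k) (j := z) (fun i hi => ?_) fun h => hm (mono_inverse h h2)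
  have hcol := congrFun (congrArg (fun v => B *ᵥ v) (monM_single σ d k)) i
  simp only [← e, hσ, Matrix.mulVec_mulVec] at hcol
  rw [show B * (g * Matrix.diagonal t * B) = Matrix.diagonal t * B by
    rw [← mul_assoc, ← mul_assoc, h2, one_mul]] at hcol
  rw [← Matrix.mulVec_mulVec, Matrix.mulVec_diagonal, Matrix.mulVec_smul, Matrix.mulVec_single_one,
    Pi.smul_apply, Matrix.col_apply, hdk, smul_eq_mul] at hcol
  refine (mul_eq_zero.1 (show (t i - μ) * B i k = 0 by linear_combination hcol)).resolve_left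
    (sub_ne_zero.2 ?_)
  rw [ht, tor, if_neg hi]
  split_ifs
  · intro q
    exact hμk 2 (by norm_num) (by norm_num) (by rw [pow_two]; nth_rw 1 [← q]; exact inv_mul_cancel₀ hμ)
  · exact fun q => hμk 1 one_pos (by norm_num) (by rw [pow_one]; exact q.symm)

/-- An inverse with a zero. -/
theorem top_of_zero [Fintype F] (hq : 7 ≤ Fintype.card F) (hN : HasMono K) {g B : Mn} (hg : In K g)
    (hB : In K B) (h1 : g * B = 1) (h2 : B * g = 1) (hm : ¬ Mono g) {p z : Fin 4} (hz : B z p = 0) :
    K = ⊤ := by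
  classical
  obtain ⟨a, ha, hak⟩ := exists_pow_ne (F := F) (k := 4) (by norm_num) (by omega)
  set t : V := fun i => if i = z then (a ^ 3)⁻¹ else a with ht
  have htp : ∏ i, t i = 1 := by
    rw [← Finset.mul_prod_erase _ _ (Finset.mem_univ z), Finset.prod_congr rfl (fun i hi =>
      show t i = a by rw [ht]; exact if_neg (Finset.ne_of_mem_erase hi)), Finset.prod_const,
      Finset.card_erase_of_mem (Finset.mem_univ z), Finset.card_univ, Fintype.card_fin, ht]
    simp [ha]
  have hx : In K (g * Matrix.diagonal t * B) := (hg.mul (In.diagonal hN _ htp)).mul hB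
  have hne : (a ^ 3)⁻¹ - a ≠ 0 := by
    rw [sub_ne_zero]
    intro q
    exact hak 4 (by norm_num) le_rfl (by rw [pow_succ]; nth_rw 2 [← q]; exact mul_inv_cancel₀ (pow_ne_zero 3 ha))
  have hdiff : ∀ v, (g * Matrix.diagonal t * B) *ᵥ v =
      a • v + (((a ^ 3)⁻¹ - a) * (B *ᵥ v) z) • g.col z := fun v => by
    rw [← Matrix.mulVec_mulVec, ← Matrix.mulVec_mulVec,
      show Matrix.diagonal t *ᵥ (B *ᵥ v) =
        a • (B *ᵥ v) + (((a ^ 3)⁻¹ - a) * (B *ᵥ v) z) • (Pi.single z 1 : V) from funext fun i => by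
          rw [Matrix.mulVec_diagonal, ht]
          by_cases hi : i = z
          · subst hi; simp; ring
          · simp [hi],
      Matrix.mulVec_add, Matrix.mulVec_smul, Matrix.mulVec_smul, Matrix.mulVec_mulVec, h1,
      Matrix.one_mulVec, Matrix.mulVec_single_one]
  by_cases hmx : Mono (g * Matrix.diagonal t * B)
  swap
  · refine top_of_axis hq hN hx (p := p) (j := p) (fun i hi => ?_) hmx
    have := congrFun (hdiff (Pi.single p 1)) i
    rw [Matrix.mulVec_single_one, Matrix.mulVec_single_one, Matrix.col_apply] at this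
    rw [this]
    simp [hz, hi]
  obtain ⟨σ, d, -, e⟩ := exists_monM hmx (by rw [hx.det]; exact one_ne_zero)
  obtain ⟨j, hj⟩ : ∃ j, (B *ᵥ (Pi.single j 1 : V)) z ≠ 0 := by
    by_contra h
    push Not at h
    have := Matrix.det_eq_zero_of_row_eq_zero z (A := B) fun j => by
      simpa [Matrix.mulVec_single_one] using h j
    rw [hB.det] at this
    exact one_ne_zero this
  have key := hdiff (Pi.single j 1)
  rw [e, monM_single] at key
  obtain ⟨k, l, hkj, hks, hlj, hls, hkl⟩ : ∃ k l : Fin 4, k ≠ j ∧ k ≠ σ j ∧ l ≠ j ∧ l ≠ σ j ∧ k ≠ l :=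
    (by decide : ∀ j j' : Fin 4, ∃ k l : Fin 4, k ≠ j ∧ k ≠ j' ∧ l ≠ j ∧ l ≠ j' ∧ k ≠ l) j (σ j)
  have hzero : ∀ k, k ≠ j → k ≠ σ j → g k z = 0 := fun k hkj hks => by
    have h := congrFun key k
    simp [hkj, hks] at h
    rcases h with (h | h) | h
    · exact absurd h hne
    · exact absurd (by rw [Matrix.mulVec_single_one]; exact h) hj
    · exact h
  exact top_of_two hq hN hB hg h2 h1 (fun h => hm (mono_inverse h h2)) hkl (hzero k hkj hks) (hzero l hlj hls)

/-- The monomial group is maximal in `SL_4`. -/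
theorem top_of_not_mono_four [Fintype F] (hq : 7 ≤ Fintype.card F) (hN : HasMono K) {g : Mn}
    (hg : In K g) (hm : ¬ Mono g) : K = ⊤ := by
  classical
  obtain ⟨B, hB, h1, h2⟩ := hg.inverse
  by_cases hB0 : ∃ k p, B k p = 0
  · obtain ⟨k, p, h⟩ := hB0
    exact top_of_zero hq hN hg hB h1 h2 hm h
  by_cases hA0 : ∃ k p, g k p = 0
  · obtain ⟨k, p, h⟩ := hA0
    exact top_of_zero hq hN hB hg h2 h1 (fun h' => hm (mono_inverse h' h2)) h
  push Not at hA0 hB0
  -- a row and a column with unequal products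
  obtain ⟨k, p, a₀, b₀, hkp, hw⟩ : ∃ k p a b, k ≠ p ∧ g k a * B a p ≠ g k b * B b p := by
    by_contra h
    push Not at h
    have hrows := (Matrix.linearIndependent_rows_of_isUnit (A := g) ⟨⟨g, B, h1, h2⟩, rfl⟩).comp
      ![(1 : Fin 4), 2] (by intro i j; fin_cases i <;> fin_cases j <;> simp)
    rw [Fintype.linearIndependent_iff] at hrows
    have := hrows ![g 2 0, -g 1 0] (by
      funext i
      rw [Finset.sum_apply, Fin.sum_univ_two]
      show g 2 0 * g 1 i + -(g 1 0) * g 2 i = 0
      refine mul_right_cancel₀ (hB0 i 0) ?_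
      rw [zero_mul]
      linear_combination g 2 0 * h 1 0 i 0 (by decide) - g 1 0 * h 2 0 i 0 (by decide)) 0
    exact hA0 2 0 (by simpa using this)
  set w : V := fun i => g k i * B i p with hwdef
  have hw0 : ∀ i, w i ≠ 0 := fun i => mul_ne_zero (hA0 _ _) (hB0 _ _)
  have hsum : ∑ i, w i = 0 := by
    have := congrFun (congrFun h1 k) p
    rwa [Matrix.mul_apply, Matrix.one_apply_ne hkp] at this
  have hkey : ∀ t : V, ∏ i, t i = 1 → ∑ i, t i * w i = 0 →
      (∀ σ d, g * Matrix.diagonal t * B = monM σ d → False) → K = ⊤ := by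
    intro t htp hts hnm
    have hti : ∀ i, t i ≠ 0 := fun i q => zero_ne_one
      ((Finset.prod_eq_zero (Finset.mem_univ i) q).symm.trans htp)
    have hx : In K (g * Matrix.diagonal t * B) := (hg.mul (In.diagonal hN _ htp)).mul hB
    obtain ⟨x', hx', e1, e2⟩ := hx.inverse
    have hmx : ¬ Mono (g * Matrix.diagonal t * B) := fun h => by
      obtain ⟨σ, d, -, e⟩ := exists_monM h (by rw [hx.det]; exact one_ne_zero)
      exact hnm σ d e
    refine top_of_zero hq hN hx' hx e2 e1 (fun h => hmx (mono_inverse h e2)) (p := p) (z := k) ?_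
    rw [Matrix.mul_apply, ← hts]
    refine Finset.sum_congr rfl fun i _ => ?_
    rw [Matrix.mul_diagonal, hwdef]
    ring
  by_cases hgen : ∃ a b, w a ≠ w b ∧ w a ≠ -w b
  · obtain ⟨a, b, hab, hab'⟩ := hgen
    have hne : a ≠ b := fun q => hab (q ▸ rfl)
    set μ := w b * (w a)⁻¹ with hμ
    have hμ0 : μ ≠ 0 := mul_ne_zero (hw0 b) (inv_ne_zero (hw0 a))
    have hμa : μ * w a = w b := by rw [hμ, mul_assoc, inv_mul_cancel₀ (hw0 a), mul_one]
    refine hkey (tor a b μ) (prod_tor hne hμ0) ?_ fun σ d e => ?_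
    · rw [← sub_zero (∑ i, tor a b μ i * w i)]
      conv_lhs => arg 2; rw [← hsum]
      rw [← Finset.sum_sub_distrib, Fintype.sum_eq_add a b hne fun i hi => by rw [tor_other hi.1 hi.2, one_mul, sub_self],
        tor_fst, tor_snd hne, hμa]
      field_simp
      linear_combination -hμa
    have hd : ∀ i, d i ≠ 0 := fun i q => by
      have h := ((hg.mul (In.diagonal hN _ (prod_tor hne hμ0))).mul hB).det
      rw [e, det_monM, Finset.prod_eq_zero (Finset.mem_univ i) q, mul_zero] at h
      exact zero_ne_one h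
    have hshort : ∀ j, σ (σ (σ j)) = j ∨ σ (σ j) = j := fun j => by
      by_contra q
      rw [not_or] at q
      have hc := congrFun (cubic h1 h2 hμ0 (fun i => by rw [tor]; split_ifs <;> simp) e j) (σ (σ (σ j)))
      have q1 : σ j ≠ j := fun r => q.2 (by rw [r, r])
      simp [q.1, show σ (σ (σ j)) ≠ σ (σ j) from fun r => q1 (σ.injective (σ.injective r)),
        show σ (σ (σ j)) ≠ σ j from fun r => q.2 (σ.injective r), hd] at hc
    obtain ⟨j, hj⟩ := short_orbit σ hshort
    obtain ⟨c, hca, hcb⟩ : ∃ c : Fin 4, c ≠ a ∧ c ≠ b :=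
      (by decide : ∀ a b : Fin 4, ∃ c : Fin 4, c ≠ a ∧ c ≠ b) a b
    have e1 := eig_two (u := g.col a) (by rw [← e, conj_col h2]) hj (hA0 j a)
    have e2 := eig_two (u := g.col c) (by rw [← e, conj_col h2]) hj (hA0 j c)
    rw [tor_fst] at e1
    rw [tor_other hca hcb] at e2
    rcases mul_self_eq_one_iff.1 (show μ * μ = 1 by rw [← e1, e2, one_mul]) with q | q <;> rw [q] at hμa
    · exact hab (by linear_combination hμa)
    · exact hab' (by linear_combination -hμa)
  push Not at hgen
  obtain ⟨r, hr, hrk⟩ := exists_pow_ne (F := F) (k := 4) (by norm_num) (by omega)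
  -- two values up to sign
  have h2' : (2 : F) ≠ 0 := fun q => hw (by
    by_cases h : w a₀ = w b₀
    · exact h
    · have := hgen a₀ b₀ h
      show w a₀ = w b₀
      linear_combination this - w b₀ * q)
  have hval : ∀ i, w i = w 0 ∨ w i = -w 0 := fun i => by
    by_cases h : w i = w 0
    · exact Or.inl h
    · exact Or.inr (hgen i 0 h)
  obtain ⟨b, c, e', hbc, hbe, hce, hb, hc, he, hwc, hwb, hwe⟩ : ∃ b c e' : Fin 4, b ≠ c ∧ b ≠ e' ∧ c ≠ e' ∧
      b ≠ 0 ∧ c ≠ 0 ∧ e' ≠ 0 ∧ w c = w 0 ∧ w b = -w 0 ∧ w e' = -w 0 := by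
    rw [Fin.sum_univ_four] at hsum
    have h4 : (2 * 2 : F) * w 0 ≠ 0 := mul_ne_zero (mul_ne_zero h2' h2') (hw0 0)
    rcases hval 1 with p1 | p1 <;> rcases hval 2 with p2 | p2 <;> rcases hval 3 with p3 | p3 <;>
      rw [p1, p2, p3] at hsum <;>
      first
        | exact absurd (by linear_combination hsum) h4
        | exact absurd (show (2 : F) * w 0 = 0 by linear_combination hsum) (mul_ne_zero h2' (hw0 0))
        | exact absurd (show (2 : F) * w 0 = 0 by linear_combination -hsum) (mul_ne_zero h2' (hw0 0))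
        | exact ⟨2, 1, 3, by decide, by decide, by decide, by decide, by decide, by decide, p1, p2, p3⟩
        | exact ⟨1, 2, 3, by decide, by decide, by decide, by decide, by decide, by decide, p2, p1, p3⟩
        | exact ⟨1, 3, 2, by decide, by decide, by decide, by decide, by decide, by decide, p3, p1, p2⟩
  set t : V := fun i => if i = 0 ∨ i = b then r else r⁻¹ with ht
  have huniv : (Finset.univ : Finset (Fin 4)) = {0, b, c, e'} := (Finset.eq_univ_of_card _ (by
    simp [hbc, hbe, hce, hb.symm, hc.symm, he.symm])).symm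
  have t0 : t 0 = r := if_pos (Or.inl rfl)
  have tb : t b = r := if_pos (Or.inr rfl)
  have tc : t c = r⁻¹ := if_neg (by simp [hc, hbc.symm])
  have te : t e' = r⁻¹ := if_neg (by simp [he, hbe.symm])
  refine hkey t ?_ ?_ fun σ d e => ?_
  · rw [huniv, Finset.prod_insert (by simp [hb.symm, hc.symm, he.symm]),
      Finset.prod_insert (by simp [hbc, hbe]), Finset.prod_pair hce, t0, tb, tc, te]
    field_simp
  · rw [huniv, Finset.sum_insert (by simp [hb.symm, hc.symm, he.symm]),
      Finset.sum_insert (by simp [hbc, hbe]), Finset.sum_pair hce, t0, tb, tc, te, hwc, hwb, hwe]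
    ring
  have hd : ∀ i, d i ≠ 0 := fun i q => by
    have h := congrArg Matrix.det e
    rw [det_monM, Finset.prod_eq_zero (Finset.mem_univ i) q, mul_zero, Matrix.det_mul, Matrix.det_mul,
      hg.det, hB.det, Matrix.det_diagonal, one_mul, mul_one] at h
    refine Finset.prod_ne_zero_iff.2 (fun l _ => ?_) h
    rw [ht]
    dsimp only
    split_ifs
    · exact hr
    · exact inv_ne_zero hr
  -- orbits of length at most two
  obtain ⟨j, hj⟩ : ∃ j, σ (σ j) = j := by
    refine short_orbit σ fun j => Or.inr ?_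
    by_contra q
    have q1 : σ j ≠ j := fun u => q (by rw [u, u])
    have hrel : (g * Matrix.diagonal t * B) *ᵥ ((g * Matrix.diagonal t * B) *ᵥ (Pi.single j 1 : V)) -
        (r + r⁻¹) • ((g * Matrix.diagonal t * B) *ᵥ (Pi.single j 1 : V)) + Pi.single j 1 = 0 := by
      have ev : (Pi.single j 1 : V) = g *ᵥ (B *ᵥ Pi.single j 1) := by
        rw [Matrix.mulVec_mulVec, h1, Matrix.one_mulVec]
      conv_lhs => arg 2; rw [ev]
      rw [Matrix.mulVec_mulVec (Pi.single j 1) (g * Matrix.diagonal t * B), conj_mul h2, ← Matrix.mulVec_mulVec,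
        ← Matrix.mulVec_mulVec, ← Matrix.mulVec_mulVec, ← Matrix.mulVec_mulVec, ← Matrix.mulVec_smul,
        ← Matrix.mulVec_sub, ← Matrix.mulVec_add]
      convert Matrix.mulVec_zero g using 2
      funext i
      simp only [Pi.add_apply, Pi.sub_apply, Pi.smul_apply, smul_eq_mul, Matrix.mulVec_diagonal, Pi.zero_apply, ht]
      split_ifs <;> field_simp <;> ring
    rw [e, monM_single, Matrix.mulVec_smul, monM_single, smul_smul, smul_smul] at hrel
    have h := congrFun hrel (σ (σ j))
    simp [q, show σ (σ j) ≠ σ j from fun u => q1 (σ.injective u), hd] at h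
  have e1 := eig_two (u := g.col 0) (by rw [← e, conj_col h2]) hj (hA0 j 0)
  have e2 := eig_two (u := g.col c) (by rw [← e, conj_col h2]) hj (hA0 j c)
  rw [t0] at e1
  rw [tc, e1] at e2
  refine hrk 4 (by norm_num) le_rfl ?_
  calc r ^ 4 = r * r * (r * r) := by ring
    _ = r⁻¹ * r⁻¹ * (r * r) := by rw [← e2]
    _ = 1 := by field_simp

end CfsgLib.MaxSub.Monomial.Four
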